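import Mathlib.GroupTheory.Sylow

set_option autoImplicit false

namespace Cfsg.Agent.LAE65

variable {G : Type*} [Group G] {p : ℕ}

theorem mem_centralizer_singleton {x g : G} :
    g ∈ Subgroup.centralizer ({x} : Set G) ↔ g * x = x * g :=
  Subgroup.mem_centralizer_singleton_iff

theorem mem_centralizer_singleton_conj {x g : G} :
    g ∈ Subgroup.centralizer ({x} : Set G) ↔ g * x * g⁻¹ = x := by
  rw [mem_centralizer_singleton, mul_inv_eq_iff_eq_mul]

theorem conj_mem_map {H : Subgroup G} {g a : G} (ha : a ∈ H) :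
    g * a * g⁻¹ ∈ H.map (MulAut.conj g).toMonoidHom :=
  ⟨a, ha, rfl⟩

theorem mem_map_conj_iff {H : Subgroup G} {g y : G} :
    y ∈ H.map (MulAut.conj g).toMonoidHom ↔ g⁻¹ * y * g ∈ H := by
  constructor
  · rintro ⟨a, ha, rfl⟩
    simpa [mul_assoc] using ha
  · intro h
    exact ⟨g⁻¹ * y * g, h, by simp [mul_assoc]⟩

theorem map_conj_one (H : Subgroup G) :
    H.map (MulAut.conj (1 : G)).toMonoidHom = H := by
  ext y; rw [mem_map_conj_iff]; simp

theorem map_conj_mul (H : Subgroup G) (a b : G) :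
    (H.map (MulAut.conj b).toMonoidHom).map (MulAut.conj a).toMonoidHom
      = H.map (MulAut.conj (a * b)).toMonoidHom := by
  ext y; simp only [mem_map_conj_iff]; simp [mul_assoc]

theorem mem_normalizer_iff_map {H : Subgroup G} {g : G} :
    g ∈ Subgroup.normalizer (H : Set G) ↔ H.map (MulAut.conj g).toMonoidHom = H :=
  Subgroup.mem_normalizer_iff_map_conj_eq

theorem card_map_conj (H : Subgroup G) (g : G) :
    Nat.card (H.map (MulAut.conj g).toMonoidHom : Subgroup G) = Nat.card H :=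
  Subgroup.card_map_of_injective (MulAut.conj g).injective

theorem map_conj_le_of_mem {H K : Subgroup G} {g : G} (hH : H ≤ K) (hg : g ∈ K) :
    H.map (MulAut.conj g).toMonoidHom ≤ K := by
  intro y hy
  rw [mem_map_conj_iff] at hy
  have := K.mul_mem (K.mul_mem hg (hH hy)) (K.inv_mem hg)
  simpa [mul_assoc] using this

theorem map_conj_le_of_normalizer {H K : Subgroup G} {g : G} (hH : H ≤ K)
    (hg : g ∈ Subgroup.normalizer (K : Set G)) :
    H.map (MulAut.conj g).toMonoidHom ≤ K :=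
  le_of_le_of_eq (Subgroup.map_mono hH) (mem_normalizer_iff_map.1 hg)

theorem isPGroup_map_conj {H : Subgroup G} (hH : IsPGroup p H) (g : G) :
    IsPGroup p (H.map (MulAut.conj g).toMonoidHom : Subgroup G) :=
  hH.map _

theorem not_dvd_relIndex_map_conj {H K : Subgroup G} {g : G}
    (hg : g ∈ Subgroup.normalizer (K : Set G)) :
    (H.map (MulAut.conj g).toMonoidHom).relIndex K = H.relIndex K := by
  conv_lhs => rw [← mem_normalizer_iff_map.1 hg]
  exact Subgroup.relIndex_map_map_of_injective _ _ (MulAut.conj g).injective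

/-- Sylow conjugacy inside a subgroup, stated without subtypes. -/
theorem exists_conj_eq_in [Finite G] [Fact p.Prime] {H P Q : Subgroup G}
    (hPH : P ≤ H) (hQH : Q ≤ H) (hP : IsPGroup p P) (hQ : IsPGroup p Q)
    (hPi : ¬ p ∣ P.relIndex H) (hQi : ¬ p ∣ Q.relIndex H) :
    ∃ h ∈ H, P.map (MulAut.conj h).toMonoidHom = Q := by
  have hP' : IsPGroup p (P.subgroupOf H) :=
    hP.of_equiv (Subgroup.subgroupOfEquivOfLe hPH).symm
  have hQ' : IsPGroup p (Q.subgroupOf H) :=
    hQ.of_equiv (Subgroup.subgroupOfEquivOfLe hQH).symm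
  have hPi' : ¬ p ∣ (P.subgroupOf H).index := hPi
  have hQi' : ¬ p ∣ (Q.subgroupOf H).index := hQi
  obtain ⟨h, hh⟩ := MulAction.exists_smul_eq H (hP'.toSylow hPi') (hQ'.toSylow hQi')
  refine ⟨h, h.2, ?_⟩
  rw [Sylow.ext_iff, Sylow.coe_subgroup_smul, IsPGroup.toSylow_coe, IsPGroup.toSylow_coe] at hh
  have h2 := congrArg (Subgroup.map H.subtype) hh
  rw [Subgroup.subgroupOf_map_subtype, inf_eq_left.2 hQH] at h2
  rw [← h2]
  ext y
  rw [mem_map_conj_iff]
  constructor
  · intro hy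
    refine ⟨h * ⟨(h : G)⁻¹ * y * (h : G), hPH hy⟩ * h⁻¹, ?_, by simp [mul_assoc]⟩
    exact Subgroup.smul_mem_pointwise_smul (⟨(h : G)⁻¹ * y * (h : G), hPH hy⟩ : H) (MulAut.conj h)
      (P.subgroupOf H) hy
  · rintro ⟨a, ha, rfl⟩
    rw [SetLike.mem_coe, Subgroup.mem_pointwise_smul_iff_inv_smul_mem] at ha
    simpa [mul_assoc, Subgroup.mem_subgroupOf] using ha

/-- Every `p`-subgroup of `H` lies in a Sylow subgroup of `H`. -/
theorem exists_sylow_in [Finite G] [Fact p.Prime] {H R : Subgroup G}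
    (hRH : R ≤ H) (hR : IsPGroup p R) :
    ∃ Q : Subgroup G, R ≤ Q ∧ Q ≤ H ∧ IsPGroup p Q ∧ ¬ p ∣ Q.relIndex H := by
  obtain ⟨S, hS⟩ := (hR.of_equiv (Subgroup.subgroupOfEquivOfLe hRH).symm :
    IsPGroup p (R.subgroupOf H)).exists_le_sylow
  refine ⟨(S : Subgroup H).map H.subtype, ?_, Subgroup.map_subtype_le _, S.2.map _, ?_⟩
  · intro y hy
    exact ⟨⟨y, hRH hy⟩, hS hy, rfl⟩
  · rw [Subgroup.relIndex, ← Subgroup.comap_subtype,
      Subgroup.comap_map_eq_self_of_injective H.subtype_injective]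
    exact S.not_dvd_index

/-- Every `p`-subgroup of `H` is conjugate in `H` into a given Sylow subgroup of `H`. -/
theorem exists_conj_le_in [Finite G] [Fact p.Prime] {H R Q : Subgroup G}
    (hRH : R ≤ H) (hR : IsPGroup p R)
    (hQH : Q ≤ H) (hQ : IsPGroup p Q) (hQi : ¬ p ∣ Q.relIndex H) :
    ∃ h ∈ H, R.map (MulAut.conj h).toMonoidHom ≤ Q := by
  obtain ⟨S, hRS, hSH, hS, hSi⟩ := exists_sylow_in hRH hR
  obtain ⟨h, hh, heq⟩ := exists_conj_eq_in hSH hQH hS hQ hSi hQi
  exact ⟨h, hh, heq ▸ Subgroup.map_mono hRS⟩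

theorem isPGroup_zpowers [Fact p.Prime] {x : G} (hx : ∃ k : ℕ, orderOf x = p ^ k) :
    IsPGroup p (Subgroup.zpowers x) := by
  obtain ⟨k, hk⟩ := hx
  exact IsPGroup.of_card (n := k) (by rw [Nat.card_zpowers, hk])

theorem isPGroup_zpowers_of_mem [Fact p.Prime] {P : Subgroup G} (hP : IsPGroup p P) {x : G}
    (hx : x ∈ P) : IsPGroup p (Subgroup.zpowers x) :=
  hP.to_le (Subgroup.zpowers_le.2 hx)

/-- A subgroup between a Sylow subgroup and the whole group: the index stays prime to `p`. -/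
theorem not_dvd_relIndex_of_le [Finite G] [Fact p.Prime] (P : Sylow p G) {H : Subgroup G} :
    (P : Subgroup G) ≤ H → ¬ p ∣ (P : Subgroup G).relIndex H := fun hPH hd =>
  P.not_dvd_index (hd.trans (Subgroup.relIndex_dvd_index_of_le hPH))

end Cfsg.Agent.LAE65
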