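import Mathlib.GroupTheory.IsSubnormal
import Cfsg.Agent.LAE65.Basic
import Cfsg.Agent.Lib.Thompson.Cores
import Cfsg.Agent.Lib.Components.Basic

set_option autoImplicit false

namespace Cfsg.Agent.LAE65

universe u

/-- A normal subgroup meeting a perfect simple-like subnormal subgroup trivially centralizes it. -/
theorem commutator_eq_bot_of_inf_eq_bot_aux (n : ℕ) :
    ∀ (G : Type u) [Group G] [Finite G], Nat.card G ≤ n → ∀ A L : Subgroup G, A.IsSubnormal →
      ⁅A, A⁆ = A → L.Normal → A ⊓ L = ⊥ → ⁅A, L⁆ = ⊥ := by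
  induction n with
  | zero => intro G _ _ h; have := Nat.card_pos (α := G); omega
  | succ n ih =>
    intro G _ _ hG A L hA hperf hL hAL
    rcases hA.lt_normal with rfl | ⟨K, hK, hAK, hKlt⟩
    · rw [top_inf_eq] at hAL; rw [hAL, Subgroup.commutator_bot_right]
    haveI := hK; haveI := hL
    have hKn : Nat.card K ≤ n := by
      have h := Set.Finite.card_lt_card (s := (K : Set G)) (t := ((⊤ : Subgroup G) : Set G))
        (Set.toFinite _) (SetLike.coe_ssubset_coe.2 hKlt)
      simp only [Subgroup.coe_top, Nat.card_univ, SetLike.coe_sort_coe] at h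
      omega
    have h1 := ih K hKn (A.subgroupOf K) (L.subgroupOf K) hA.subgroupOf
      (by
        apply Subgroup.map_injective K.subtype_injective
        rw [Subgroup.map_commutator, Subgroup.subgroupOf_map_subtype, inf_eq_left.2 hAK, hperf])
      inferInstance
      (by
        rw [Subgroup.eq_bot_iff_forall]
        rintro x ⟨hxA, hxL⟩
        have : (x : G) ∈ A ⊓ L := ⟨hxA, hxL⟩
        rw [hAL, Subgroup.mem_bot] at this
        exact Subtype.ext this)
    have h2 : ⁅L ⊓ K, A⁆ = ⊥ := by
      have := congrArg (Subgroup.map K.subtype) h1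
      rw [Subgroup.map_commutator, Subgroup.subgroupOf_map_subtype, Subgroup.subgroupOf_map_subtype,
        inf_eq_left.2 hAK, Subgroup.map_bot] at this
      rwa [Subgroup.commutator_comm]
    refine Components.commutator_eq_bot_of_perfect hperf (le_bot_iff.1 (le_trans ?_ h2.le))
    refine Subgroup.commutator_mono (le_inf (Subgroup.commutator_le_left L A) ?_) le_rfl
    exact le_trans (Subgroup.commutator_mono le_rfl hAK) (Subgroup.commutator_le_right L K)

variable {G : Type u} [Group G] [Finite G]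

theorem commutator_eq_bot_of_inf_eq_bot {A L : Subgroup G} (hA : A.IsSubnormal)
    (hperf : ⁅A, A⁆ = A) (hL : L.Normal) (h : A ⊓ L = ⊥) : ⁅A, L⁆ = ⊥ :=
  commutator_eq_bot_of_inf_eq_bot_aux (Nat.card G) G le_rfl A L hA hperf hL h

omit [Finite G] in
theorem isSubnormal_sup_of_normal (N : Subgroup G) [N.Normal] {B : Subgroup G}
    (hB : B.IsSubnormal) : (N ⊔ B).IsSubnormal := by
  have h := (hB.map (f := QuotientGroup.mk' N) (QuotientGroup.mk'_surjective N)).comap
    (QuotientGroup.mk' N)
  rwa [Subgroup.comap_map_eq, QuotientGroup.ker_mk', sup_comm] at h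

omit [Finite G] in
theorem isSubnormal_of_le_of_normal {A B : Subgroup G} (hB : B.IsSubnormal) (hAB : A ≤ B)
    (hn : B ≤ Subgroup.normalizer (A : Set G)) : A.IsSubnormal :=
  Subgroup.IsSubnormal.step A B hAB hB ((Subgroup.normal_subgroupOf_iff_le_normalizer hAB).2 hn)

/-- Two subnormal subgroups, one normalized by the other, generate a subnormal subgroup. -/
theorem isSubnormal_sup_of_le_normalizer {A B : Subgroup G} (hA : A.IsSubnormal)
    (hB : B.IsSubnormal) (hBA : B ≤ Subgroup.normalizer (A : Set G)) : (A ⊔ B).IsSubnormal := by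
  obtain ⟨K, ⟨hAK, hKsn, hBK, hKB⟩, hmin⟩ := Set.Finite.exists_minimal
    (s := {K : Subgroup G | A ≤ K ∧ K.IsSubnormal ∧ B ≤ Subgroup.normalizer (K : Set G) ∧
      (K ⊔ B).IsSubnormal}) (Set.toFinite _)
    ⟨⊤, le_top, Subgroup.IsSubnormal.top,
      fun b _ => Subgroup.mem_normalizer_iff.2 fun y => by simp, by simp⟩
  by_cases hAeq : A = K
  · rwa [hAeq]
  exfalso
  set K' := (Subgroup.normalClosure ((A.subgroupOf K : Subgroup K) : Set K)).map K.subtype with hK'
  have hK'le : K' ≤ K := Subgroup.map_subtype_le _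
  have hAK' : A ≤ K' := by
    have := Subgroup.map_mono (f := K.subtype)
      (Subgroup.le_normalClosure (H := A.subgroupOf K))
    rwa [Subgroup.subgroupOf_map_subtype, inf_eq_left.2 hAK] at this
  have hKK' : K ≤ Subgroup.normalizer (K' : Set G) := by
    have h := Subgroup.le_normalizer_map K.subtype
      (H := Subgroup.normalClosure ((A.subgroupOf K : Subgroup K) : Set K))
    rw [Subgroup.normalizer_eq_top_iff.2 Subgroup.normalClosure_normal, ← MonoidHom.range_eq_map,
      Subgroup.range_subtype] at h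
    exact h
  have hne : ¬ K ≤ K' := by
    intro hle
    have htop : Subgroup.normalClosure ((A.subgroupOf K : Subgroup K) : Set K) = ⊤ := by
      rw [eq_top_iff]
      intro y _
      obtain ⟨y', hy', he⟩ := hle y.2
      rwa [← K.subtype_injective he]
    rcases (hA.subgroupOf (K := K)).lt_normal with h | ⟨N, hN, hle', hlt⟩
    · exact hAeq (le_antisymm hAK (Subgroup.subgroupOf_eq_top.1 h))
    · haveI := hN
      exact hlt.ne (top_le_iff.1 (htop ▸ Subgroup.normalClosure_le_normal hle'))
  have hBK' : B ≤ Subgroup.normalizer (K' : Set G) := by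
    intro b hb
    rw [mem_normalizer_iff_map]
    refine Subgroup.eq_of_le_of_card_ge ?_ (card_map_conj K' b).ge
    rintro _ ⟨_, ⟨k, hk, rfl⟩, rfl⟩
    let e : K →* K :=
      { toFun := fun u => ⟨b * (u : G) * b⁻¹, (Subgroup.mem_normalizer_iff.1 (hBK hb) u).1 u.2⟩
        map_one' := Subtype.ext (by simp)
        map_mul' := fun u v => Subtype.ext (by simp [mul_assoc]) }
    have hsub : ∀ u, u ∈ Subgroup.normalClosure ((A.subgroupOf K : Subgroup K) : Set K) →
        e u ∈ Subgroup.normalClosure ((A.subgroupOf K : Subgroup K) : Set K) := by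
      intro u hu
      induction hu using Subgroup.closure_induction with
      | mem u hu =>
        obtain ⟨a, ha, hc⟩ := Group.mem_conjugatesOfSet_iff.1 hu
        obtain ⟨c, rfl⟩ := isConj_iff.1 hc
        rw [map_mul, map_mul, map_inv]
        refine Subgroup.normalClosure_normal.conj_mem _ (Subgroup.subset_normalClosure ?_) _
        exact (Subgroup.mem_normalizer_iff.1 (hBA hb) a).1 ha
      | one => rw [map_one]; exact Subgroup.one_mem _
      | mul u v _ _ hu hv => rw [map_mul]; exact Subgroup.mul_mem _ hu hv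
      | inv u _ hu => rw [map_inv]; exact Subgroup.inv_mem _ hu
    exact ⟨e k, hsub k hk, rfl⟩
  have hK'B : (K' ⊔ B).IsSubnormal := by
    have hle : K' ⊔ B ≤ K ⊔ B := sup_le_sup_right hK'le B
    refine Subgroup.IsSubnormal.trans hle ?_ hKB
    rw [Subgroup.subgroupOf_sup (hK'le.trans le_sup_left) le_sup_right]
    haveI : (K'.subgroupOf (K ⊔ B)).Normal :=
      (Subgroup.normal_subgroupOf_iff_le_normalizer (hK'le.trans le_sup_left)).2 (sup_le hKK' hBK')
    exact isSubnormal_sup_of_normal _ hB.subgroupOf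
  exact hne (hmin ⟨hAK', isSubnormal_of_le_of_normal hKsn hK'le hKK', hBK', hK'B⟩ hK'le)

/-- Wielandt's join theorem for finite groups. -/
theorem isSubnormal_sup_aux (n : ℕ) :
    ∀ (G : Type u) [Group G] [Finite G], Nat.card G ≤ n → ∀ A B : Subgroup G,
      A.IsSubnormal → B.IsSubnormal → (A ⊔ B).IsSubnormal := by
  induction n with
  | zero => intro G _ _ h; have := Nat.card_pos (α := G); omega
  | succ n ih =>
    intro G _ _ hG A B hA hB
    rcases hA.lt_normal with rfl | ⟨M, hM, hAM, hMlt⟩
    · simp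
    haveI := hM
    haveI := Fintype.ofFinite G
    classical
    have hMn : Nat.card M ≤ n := by
      have h := Set.Finite.card_lt_card (s := (M : Set G)) (t := ((⊤ : Subgroup G) : Set G))
        (Set.toFinite _) (SetLike.coe_ssubset_coe.2 hMlt)
      simp only [Subgroup.coe_top, Nat.card_univ, SetLike.coe_sort_coe] at h
      omega
    let s : Finset G := Finset.univ.filter (fun g => g ∈ A ⊔ B)
    let f : G → Subgroup G := fun g => A.map (MulAut.conj g).toMonoidHom
    have hf : ∀ g, (f g).IsSubnormal ∧ f g ≤ M := fun g =>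
      ⟨hA.map (MulAut.conj g).surjective,
        (Subgroup.map_mono hAM).trans (Subgroup.Normal.map_conj_eq (H := M) g).le⟩
    have hjoin : ∀ t : Finset G, (t.sup f).IsSubnormal ∧ t.sup f ≤ M := by
      intro t
      induction t using Finset.induction_on with
      | empty => simp
      | insert a t _ iht =>
        rw [Finset.sup_insert]
        refine ⟨Subgroup.IsSubnormal.trans (sup_le (hf a).2 iht.2) ?_ hM.isSubnormal,
          sup_le (hf a).2 iht.2⟩
        rw [Subgroup.subgroupOf_sup (hf a).2 iht.2]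
        exact ih M hMn _ _ (hf a).1.subgroupOf iht.1.subgroupOf
    set As := s.sup f with hAs
    have hAAs : A ≤ As := by
      have h1 : f 1 ≤ As := Finset.le_sup (by simp [s] : (1 : G) ∈ s)
      exact le_trans (le_of_eq (map_conj_one A).symm) h1
    have hAsJ : As ≤ A ⊔ B := Finset.sup_le fun g hg => map_conj_le_of_mem le_sup_left
      (by simpa [s] using hg)
    have hBn : B ≤ Subgroup.normalizer (As : Set G) := by
      intro b hb
      rw [mem_normalizer_iff_map]
      refine Subgroup.eq_of_le_of_card_ge ?_ (card_map_conj As b).ge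
      rw [Subgroup.map_le_iff_le_comap]
      refine Finset.sup_le fun g hg => ?_
      rw [← Subgroup.map_le_iff_le_comap, map_conj_mul]
      exact Finset.le_sup (f := f) (b := b * g) (by
        simp only [s, Finset.mem_filter, Finset.mem_univ, true_and] at hg ⊢
        exact (A ⊔ B).mul_mem (Subgroup.mem_sup_right hb) hg)
    have : A ⊔ B = As ⊔ B := le_antisymm (sup_le_sup_right hAAs B) (sup_le hAsJ le_sup_right)
    rw [this]
    exact isSubnormal_sup_of_le_normalizer (hjoin s).1 hB hBn

theorem isSubnormal_sup {A B : Subgroup G} (hA : A.IsSubnormal) (hB : B.IsSubnormal) :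
    (A ⊔ B).IsSubnormal :=
  isSubnormal_sup_aux (Nat.card G) G le_rfl A B hA hB

variable {p : ℕ} [Fact p.Prime]

theorem not_dvd_relIndex_inf_of_normal (S : Sylow p G) {N : Subgroup G} (hN : N.Normal) :
    ¬ p ∣ ((S : Subgroup G) ⊓ N).relIndex N := by
  obtain ⟨Q, hle, hQN, hQ, hQi⟩ := exists_sylow_in (p := p) (inf_le_right : (S : Subgroup G) ⊓ N ≤ N)
    (S.2.to_le inf_le_left)
  obtain ⟨g, -, hg⟩ := exists_conj_le_in (p := p) (le_top : Q ≤ ⊤) hQ (le_top : (S : Subgroup G) ≤ ⊤)
    S.2 (not_dvd_relIndex_of_le S le_top)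
  have h1 : Q.map (MulAut.conj g).toMonoidHom ≤ (S : Subgroup G) ⊓ N :=
    le_inf hg ((Subgroup.map_mono hQN).trans (Subgroup.Normal.map_conj_eq (H := N) g).le)
  have : (S : Subgroup G) ⊓ N = Q := Subgroup.eq_of_le_of_card_ge hle
    ((card_map_conj Q g).ge.trans (Subgroup.card_le_of_le h1))
  rwa [this]

omit [Fact p.Prime] in
theorem subgroupOf_coe_sylow {K : Subgroup G} {P : Subgroup G} (hP : IsPGroup p P) (hPK : P ≤ K) :
    IsPGroup p (P.subgroupOf K) :=
  hP.of_equiv (Subgroup.subgroupOfEquivOfLe hPK).symm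

/-- `S ∩ A` is a Sylow subgroup of a subnormal subgroup `A`. -/
theorem not_dvd_relIndex_inf (S : Sylow p G) {A : Subgroup G} (hA : A.IsSubnormal) :
    ¬ p ∣ ((S : Subgroup G) ⊓ A).relIndex A := by
  induction hA with
  | top => exact not_dvd_relIndex_inf_of_normal S inferInstance
  | step A K hAK hK hN ih =>
    have hPK : (S : Subgroup G) ⊓ K ≤ K := inf_le_right
    have hi : ¬ p ∣ (((S : Subgroup G) ⊓ K).subgroupOf K).index := ih
    have h := not_dvd_relIndex_inf_of_normal
      ((subgroupOf_coe_sylow (S.2.to_le inf_le_left) hPK).toSylow hi) hN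
    rw [IsPGroup.toSylow_coe] at h
    have h2 : ((S : Subgroup G) ⊓ K).subgroupOf K ⊓ A.subgroupOf K =
        ((S : Subgroup G) ⊓ A).subgroupOf K := by
      ext x
      simp only [Subgroup.mem_inf, Subgroup.mem_subgroupOf]
      exact ⟨fun h => ⟨h.1.1, h.2⟩, fun h => ⟨⟨h.1, x.2⟩, h.2⟩⟩
    rw [h2, Subgroup.relIndex_subgroupOf hAK] at h
    exact h

theorem map_inf_sylow_eq {G' : Type u} [Group G'] [Finite G'] (f : G →* G')
    (S : Sylow p G) {A : Subgroup G} (hA : A.IsSubnormal) :
    ((S : Subgroup G).map f) ⊓ A.map f = ((S : Subgroup G) ⊓ A).map f := by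
  refine le_antisymm ?_ (le_inf (Subgroup.map_mono inf_le_left) (Subgroup.map_mono inf_le_right))
  set L := ((S : Subgroup G) ⊓ A).map f with hL
  set X := (S : Subgroup G).map f ⊓ A.map f with hX
  have hLX : L ≤ X := le_inf (Subgroup.map_mono inf_le_left) (Subgroup.map_mono inf_le_right)
  have hi : ¬ p ∣ L.relIndex (A.map f) := by
    intro hd
    refine not_dvd_relIndex_inf S hA (hd.trans ?_)
    rw [Subgroup.relIndex, Subgroup.relIndex,
      ← Subgroup.index_comap_of_surjective _ (f.subgroupMap_surjective A)]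
    refine Subgroup.index_dvd_of_le fun y hy => ?_
    exact Subgroup.mem_map_of_mem f hy
  have hXp : IsPGroup p X := (S.2.map f).to_le inf_le_left
  have hd : L.relIndex X ∣ L.relIndex (A.map f) :=
    Dvd.intro _ (Subgroup.relIndex_mul_relIndex L X (A.map f) hLX inf_le_right)
  obtain ⟨k, hk⟩ := hXp.index (L.subgroupOf X)
  have h1 : L.relIndex X = p ^ k := hk
  rcases Nat.eq_zero_or_pos k with rfl | hkpos
  · exact Subgroup.relIndex_eq_one.1 (h1.trans (pow_zero p))
  · exact absurd ((dvd_pow_self p hkpos.ne').trans (h1 ▸ hd)) hi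

/-- The key case: two subnormal subgroups generating the whole group. -/
theorem sylow_le_sup_aux (n : ℕ) :
    ∀ (G : Type u) [Group G] [Finite G], Nat.card G ≤ n → ∀ (S : Sylow p G) (A₁ A₂ : Subgroup G),
      A₁.IsSubnormal → A₂.IsSubnormal → A₁ ⊔ A₂ = ⊤ →
      (S : Subgroup G) ≤ ((S : Subgroup G) ⊓ A₁) ⊔ ((S : Subgroup G) ⊓ A₂) := by
  induction n with
  | zero => intro G _ _ h; have := Nat.card_pos (α := G); omega
  | succ n ih =>
    intro G _ _ hG S A₁
    classical
    -- the statement for a proper subnormal subgroup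
    have hsub : ∀ (J : Subgroup G), J ≠ ⊤ → ∀ B₁ B₂ : Subgroup G, B₁.IsSubnormal → B₂.IsSubnormal →
        B₁ ⊔ B₂ = J → (S : Subgroup G) ⊓ J ≤ ((S : Subgroup G) ⊓ B₁) ⊔ ((S : Subgroup G) ⊓ B₂) := by
      intro J hJ B₁ B₂ h₁ h₂ he
      have hJsn : J.IsSubnormal := he ▸ isSubnormal_sup h₁ h₂
      have hJn : Nat.card J ≤ n := by
        have h := Set.Finite.card_lt_card (s := (J : Set G)) (t := ((⊤ : Subgroup G) : Set G))
          (Set.toFinite _) (SetLike.coe_ssubset_coe.2 (lt_top_iff_ne_top.2 hJ))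
        simp only [Subgroup.coe_top, Nat.card_univ, SetLike.coe_sort_coe] at h
        omega
      have hi : ¬ p ∣ (((S : Subgroup G) ⊓ J).subgroupOf J).index := not_dvd_relIndex_inf S hJsn
      have h := ih J hJn
        ((subgroupOf_coe_sylow (S.2.to_le inf_le_left) inf_le_right).toSylow hi)
        (B₁.subgroupOf J) (B₂.subgroupOf J) h₁.subgroupOf h₂.subgroupOf
        (by rw [← Subgroup.subgroupOf_sup (he ▸ le_sup_left) (he ▸ le_sup_right), he,
              Subgroup.subgroupOf_self])
      have h' := Subgroup.map_mono (f := J.subtype) h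
      rw [IsPGroup.toSylow_coe, Subgroup.map_sup, Subgroup.map_inf _ _ _ J.subtype_injective,
        Subgroup.map_inf _ _ _ J.subtype_injective, Subgroup.subgroupOf_map_subtype,
        Subgroup.subgroupOf_map_subtype, Subgroup.subgroupOf_map_subtype] at h'
      refine le_trans (le_of_eq ?_) (h'.trans (sup_le_sup (le_inf ?_ ?_) (le_inf ?_ ?_)))
      · rw [inf_assoc, inf_idem]
      · exact inf_le_left.trans (inf_le_left.trans inf_le_left)
      · exact inf_le_right.trans inf_le_left
      · exact inf_le_left.trans (inf_le_left.trans inf_le_left)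
      · exact inf_le_right.trans inf_le_left
    have key : ∀ m (A₁ A₂ : Subgroup G), Nat.card G - Nat.card A₁ + (Nat.card G - Nat.card A₂) = m →
        A₁.IsSubnormal → A₂.IsSubnormal → A₁ ⊔ A₂ = ⊤ →
        (S : Subgroup G) ≤ ((S : Subgroup G) ⊓ A₁) ⊔ ((S : Subgroup G) ⊓ A₂) := by
      intro m
      induction m using Nat.strong_induction_on with
      | _ m ihm =>
      intro A₁ A₂ hm h₁ h₂ htop
      -- the case of a normal first factor
      by_cases hn : A₁.Normal
      · haveI := hn
        have hmap := map_inf_sylow_eq (QuotientGroup.mk' A₁) S h₂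
        have hA₂ : A₂.map (QuotientGroup.mk' A₁) = ⊤ := by
          rw [eq_top_iff, ← Subgroup.map_top_of_surjective _ (QuotientGroup.mk'_surjective A₁), ← htop,
            Subgroup.map_sup, (Subgroup.map_eq_bot_iff (H := A₁)).2 (QuotientGroup.ker_mk' A₁).ge,
            bot_sup_eq]
        rw [hA₂, inf_top_eq] at hmap
        intro s hs
        obtain ⟨t, ht, he⟩ := hmap.le (Subgroup.mem_map_of_mem (QuotientGroup.mk' A₁) hs)
        have hst : s * t⁻¹ ∈ A₁ := by
          rw [← QuotientGroup.eq_one_iff, QuotientGroup.mk_mul, QuotientGroup.mk_inv, mul_inv_eq_one]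
          exact he.symm
        rw [show s = s * t⁻¹ * t by group]
        exact Subgroup.mul_mem_sup ⟨(S : Subgroup G).mul_mem hs ((S : Subgroup G).inv_mem ht.1), hst⟩ ht
      by_cases hA₂top : A₂ = ⊤
      · rw [hA₂top, inf_top_eq]; exact le_sup_right
      have hA₁top : A₁ ≠ ⊤ := fun h => hn (h ▸ inferInstance)
      -- enlarging one of the factors
      have grow : ∀ B₁ B₂ : Subgroup G, B₁.IsSubnormal → B₂.IsSubnormal → B₁ ⊔ B₂ = ⊤ →
          Nat.card G - Nat.card B₁ + (Nat.card G - Nat.card B₂) = m →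
          ∀ M : Subgroup G, M.Normal → B₁ ≤ M → M ≠ ⊤ → ¬ B₂ ⊓ M ≤ B₁ →
          (S : Subgroup G) ≤ ((S : Subgroup G) ⊓ B₁) ⊔ ((S : Subgroup G) ⊓ B₂) := by
        intro B₁ B₂ hB₁ hB₂ hB hmB M hM hBM hMtop hne
        have hlt : B₁ < B₁ ⊔ (B₂ ⊓ M) := lt_of_le_of_ne le_sup_left fun h => hne (by
          rw [h]; exact le_sup_right)
        have hc : Nat.card B₁ < Nat.card ↥(B₁ ⊔ (B₂ ⊓ M)) := by
          have h := Set.Finite.card_lt_card (s := (B₁ : Set G))
            (t := ((B₁ ⊔ (B₂ ⊓ M) : Subgroup G) : Set G)) (Set.toFinite _) (SetLike.coe_ssubset_coe.2 hlt)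
          simpa using h
        have hcG := Subgroup.card_le_card_group (B₁ ⊔ (B₂ ⊓ M))
        have hJsn : (B₁ ⊔ (B₂ ⊓ M)).IsSubnormal := isSubnormal_sup hB₁ (hB₂.inf hM.isSubnormal)
        refine le_trans (ihm _ (by omega) _ B₂ rfl hJsn hB₂ ?_) (sup_le ?_ le_sup_right)
        · exact eq_top_iff.2 (hB ▸ sup_le_sup_right hlt.le B₂)
        · refine le_trans (hsub _ ?_ _ _ hB₁ (hB₂.inf hM.isSubnormal) rfl)
            (sup_le_sup_left (inf_le_inf_left _ inf_le_left) _)
          intro h
          exact hMtop (top_le_iff.1 (h ▸ sup_le hBM inf_le_right))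
      -- maximal normal subgroups above the factors
      have hmax : ∀ B : Subgroup G, B.IsSubnormal → B ≠ ⊤ → ∃ M : Subgroup G, M.Normal ∧ B ≤ M ∧
          M ≠ ⊤ ∧ ∀ N : Subgroup G, N.Normal → M ≤ N → N = M ∨ N = ⊤ := by
        intro B hB hne
        obtain ⟨K, hK, hBK, hKlt⟩ := hB.lt_normal.resolve_left hne
        obtain ⟨M, ⟨hMn, hBM, hMt⟩, hMmax⟩ := Set.Finite.exists_maximal
          (s := {M : Subgroup G | M.Normal ∧ B ≤ M ∧ M ≠ ⊤}) (Set.toFinite _) ⟨K, hK, hBK, hKlt.ne⟩
        refine ⟨M, hMn, hBM, hMt, fun N hN hMN => ?_⟩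
        by_cases hNt : N = ⊤
        · exact Or.inr hNt
        · exact Or.inl (le_antisymm (hMmax ⟨hN, hBM.trans hMN, hNt⟩ hMN) hMN)
      obtain ⟨M₁, hM₁, hA₁M, hM₁t, hM₁max⟩ := hmax A₁ h₁ hA₁top
      obtain ⟨M₂, hM₂, hA₂M, hM₂t, hM₂max⟩ := hmax A₂ h₂ hA₂top
      by_cases hc₁ : A₂ ⊓ M₁ ≤ A₁
      swap
      · exact grow A₁ A₂ h₁ h₂ htop hm M₁ hM₁ hA₁M hM₁t hc₁
      by_cases hc₂ : A₁ ⊓ M₂ ≤ A₂
      swap
      · rw [sup_comm]
        exact grow A₂ A₁ h₂ h₁ (by rw [sup_comm]; exact htop) (by omega) M₂ hM₂ hA₂M hM₂t hc₂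
      set D := A₁ ⊓ A₂ with hDdef
      have hD₁ : A₂ ⊓ M₁ = D :=
        le_antisymm (le_inf hc₁ inf_le_left) (le_inf inf_le_right (inf_le_left.trans hA₁M))
      have hD₂ : A₁ ⊓ M₂ = D :=
        le_antisymm (le_inf inf_le_left hc₂) (le_inf inf_le_left (inf_le_right.trans hA₂M))
      have hnorm : ∀ (A M : Subgroup G), M.Normal → A ≤ Subgroup.normalizer ((A ⊓ M : Subgroup G) : Set G) := by
        intro A M hM a ha
        haveI := hM
        have hMa : M.map (MulAut.conj a).toMonoidHom = M := Subgroup.Normal.map_conj_eq (H := M) a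
        rw [mem_normalizer_iff_map, Subgroup.map_inf _ _ _ (MulAut.conj a).injective,
          mem_normalizer_iff_map.1 (Subgroup.le_normalizer ha), hMa]
      have hDn : D.Normal := by
        rw [← Subgroup.normalizer_eq_top_iff, eq_top_iff, ← htop]
        exact sup_le (hD₂ ▸ hnorm A₁ M₂ hM₂) (hD₁ ▸ hnorm A₂ M₁ hM₁)
      haveI := hDn
      by_cases hDbot : D = ⊥
      swap
      · -- pass to the quotient
        have hcard : Nat.card (G ⧸ D) ≤ n := by
          have h := Subgroup.card_eq_card_quotient_mul_card_subgroup D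
          have h2 : 2 ≤ Nat.card D :=
            (Subgroup.one_lt_card_iff_ne_bot D).2 hDbot
          have h3 : 0 < Nat.card (G ⧸ D) := Nat.card_pos
          have h4 := Nat.mul_le_mul_left (Nat.card (G ⧸ D)) h2
          omega
        have h := ih (G ⧸ D) hcard (S.mapSurjective (QuotientGroup.mk'_surjective D))
          (A₁.map (QuotientGroup.mk' D)) (A₂.map (QuotientGroup.mk' D)) h₁.quotient h₂.quotient
          (by rw [← Subgroup.map_sup, htop, Subgroup.map_top_of_surjective _
            (QuotientGroup.mk'_surjective D)])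
        rw [Sylow.coe_mapSurjective, map_inf_sylow_eq _ S h₁, map_inf_sylow_eq _ S h₂,
          ← Subgroup.map_sup] at h
        intro s hs
        obtain ⟨t, ht, he⟩ := h (Subgroup.mem_map_of_mem (QuotientGroup.mk' D) hs)
        have hst : s * t⁻¹ ∈ D := by
          rw [← QuotientGroup.eq_one_iff, QuotientGroup.mk_mul, QuotientGroup.mk_inv, mul_inv_eq_one]
          exact he.symm
        have htS : t ∈ (S : Subgroup G) := (sup_le inf_le_left inf_le_left : _ ≤ (S : Subgroup G)) ht
        rw [show s = s * t⁻¹ * t by group]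
        exact Subgroup.mul_mem _ (Subgroup.mem_sup_left
          ⟨(S : Subgroup G).mul_mem hs ((S : Subgroup G).inv_mem htS), hst.1⟩) ht
      -- the factors are simple
      rw [hDbot] at hD₁ hD₂
      have hsimple : ∀ (A M : Subgroup G), A.IsSubnormal → M.Normal → M ≠ ⊤ → A ⊔ M = ⊤ → A ⊓ M = ⊥ →
          (∀ N : Subgroup G, N.Normal → M ≤ N → N = M ∨ N = ⊤) → IsSimpleGroup A := by
        intro A M hA hM hMt hAM hinf hmaxM
        haveI := hM
        have hnt : Nontrivial A := by
          rw [← Finite.one_lt_card_iff_nontrivial, Subgroup.one_lt_card_iff_ne_bot]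
          rintro rfl
          exact hMt (by simpa using hAM)
        refine { eq_bot_or_eq_top_of_normal := fun N hN => ?_ }
        haveI := hN
        set N' := N.map A.subtype with hN'
        have hN'A : N' ≤ A := Subgroup.map_subtype_le N
        have hNM : (N' ⊔ M).Normal := by
          rw [← Subgroup.normalizer_eq_top_iff, eq_top_iff, ← hAM]
          refine sup_le ?_ (le_trans le_sup_right Subgroup.le_normalizer)
          intro a ha
          have hMa : M.map (MulAut.conj a).toMonoidHom = M := Subgroup.Normal.map_conj_eq (H := M) a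
          rw [mem_normalizer_iff_map, Subgroup.map_sup, hMa]
          congr 1
          refine Subgroup.eq_of_le_of_card_ge ?_ (card_map_conj N' a).ge
          rintro _ ⟨_, ⟨y, hy, rfl⟩, rfl⟩
          exact ⟨⟨a, ha⟩ * y * ⟨a, ha⟩⁻¹, hN.conj_mem y hy ⟨a, ha⟩, by simp⟩
        rcases hmaxM _ hNM le_sup_right with h | h
        · left
          rw [Subgroup.eq_bot_iff_forall]
          intro y hy
          have : (y : G) ∈ A ⊓ M := ⟨y.2, h ▸ Subgroup.mem_sup_left ⟨y, hy, rfl⟩⟩
          rw [hinf, Subgroup.mem_bot] at this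
          exact Subtype.ext this
        · right
          rw [eq_top_iff]
          intro y _
          have hy : (y : G) ∈ N' ⊔ M := h ▸ Subgroup.mem_top _
          rw [← SetLike.mem_coe, Subgroup.mul_normal, Set.mem_mul] at hy
          obtain ⟨_, ⟨z, hz, rfl⟩, b, hb, he⟩ := hy
          have hb1 : b ∈ A ⊓ M := ⟨by
            have : b = (z : G)⁻¹ * y := by rw [← he]; simp
            rw [this]; exact A.mul_mem (A.inv_mem z.2) y.2, hb⟩
          rw [hinf, Subgroup.mem_bot] at hb1
          rw [hb1, mul_one] at he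
          rwa [← A.subtype_injective he]
      have hsup₁ : A₁ ⊔ M₂ = ⊤ := eq_top_iff.2 (htop ▸ sup_le_sup_left hA₂M A₁)
      have hsup₂ : A₂ ⊔ M₁ = ⊤ := eq_top_iff.2 (htop ▸ (sup_comm A₁ A₂).le.trans (sup_le_sup_left hA₁M A₂))
      haveI hs₁ := hsimple A₁ M₂ h₁ hM₂ hM₂t hsup₁ hD₂ hM₂max
      haveI hs₂ := hsimple A₂ M₁ h₂ hM₁ hM₁t hsup₂ hD₁ hM₁max
      -- commuting factors make the first one normal
      have hcomm : ⁅A₁, A₂⁆ ≠ ⊥ := by
        intro h
        refine hn ?_
        rw [← Subgroup.normalizer_eq_top_iff, eq_top_iff, ← htop]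
        refine sup_le Subgroup.le_normalizer fun a ha => ?_
        rw [mem_normalizer_iff_map]
        refine Subgroup.eq_of_le_of_card_ge ?_ (card_map_conj A₁ a).ge
        rintro _ ⟨y, hy, rfl⟩
        rw [Subgroup.commutator_eq_bot_iff_le_centralizer] at h
        have hc := h hy a ha
        show a * y * a⁻¹ ∈ A₁
        rw [hc, mul_inv_cancel_right]
        exact hy
      have hperf : ∀ A : Subgroup G, IsSimpleGroup A → ¬ IsMulCommutative A → ⁅A, A⁆ = A := by
        intro A hA hnc
        have := Components.isPerfect_of_isSimpleGroup (X := A) hnc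
        have h := congrArg (Subgroup.map A.subtype) (Group.IsPerfect.commutator_eq_top (G := A))
        rwa [commutator_def, Subgroup.map_commutator, ← MonoidHom.range_eq_map, Subgroup.range_subtype] at h
      have hab₁ : IsMulCommutative A₁ := by
        by_contra hnc
        refine hcomm (le_bot_iff.1 (le_trans (Subgroup.commutator_mono le_rfl hA₂M) ?_))
        exact (commutator_eq_bot_of_inf_eq_bot h₁ (hperf A₁ hs₁ hnc) hM₂ hD₂).le
      have hab₂ : IsMulCommutative A₂ := by
        by_contra hnc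
        refine hcomm (le_bot_iff.1 ?_)
        rw [Subgroup.commutator_comm]
        refine le_trans (Subgroup.commutator_mono le_rfl hA₁M) ?_
        exact (commutator_eq_bot_of_inf_eq_bot h₂ (hperf A₂ hs₂ hnc) hM₁ hD₁).le
      have hprime : ∀ A : Subgroup G, IsSimpleGroup A → IsMulCommutative A →
          ∃ q : ℕ, q.Prime ∧ IsPGroup q A := by
        intro A hA hab
        letI : CommGroup A := { mul_comm := hab.is_comm.comm }
        refine ⟨Nat.card A, IsSimpleGroup.prime_card, ?_⟩
        haveI : Fact (Nat.card A).Prime := ⟨IsSimpleGroup.prime_card⟩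
        exact IsPGroup.of_card (n := 1) (by rw [pow_one])
      obtain ⟨q, hq, hA₁q⟩ := hprime A₁ hs₁ hab₁
      obtain ⟨r, hr, hA₂r⟩ := hprime A₂ hs₂ hab₂
      haveI : Fact q.Prime := ⟨hq⟩
      haveI : Fact r.Prime := ⟨hr⟩
      have hO₁ := Thompson.le_pCore_of_isSubnormal h₁ hA₁q
      have hO₂ := Thompson.le_pCore_of_isSubnormal h₂ hA₂r
      have hqr : q = r := by
        by_contra hne
        refine hcomm (le_bot_iff.1 (le_trans (Subgroup.commutator_mono hO₁ hO₂) ?_))
        refine le_trans (le_inf (Subgroup.commutator_le_left _ _) (Subgroup.commutator_le_right _ _))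
          (le_of_eq ?_)
        refine Subgroup.inf_eq_bot_of_coprime ?_
        obtain ⟨a, ha⟩ := IsPGroup.iff_card.1 (Thompson.isPGroup_pCore (p := q) (G := G))
        obtain ⟨b, hb⟩ := IsPGroup.iff_card.1 (Thompson.isPGroup_pCore (p := r) (G := G))
        rw [ha, hb]
        exact Nat.Coprime.pow a b ((Nat.coprime_primes hq hr).2 hne)
      subst hqr
      have hGq : IsPGroup q G := Thompson.pCore_eq_top_iff.1
        (top_le_iff.1 (htop ▸ sup_le hO₁ hO₂))
      by_cases hqp : q = p
      · subst hqp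
        have hS : (S : Subgroup G) = ⊤ :=
          (S.3 (show IsPGroup q (⊤ : Subgroup G) from hGq.to_subgroup ⊤) le_top).symm
        rw [hS, top_inf_eq, top_inf_eq, htop]
      · intro s hs
        obtain ⟨a, ha⟩ := hGq.exists_orderOf_eq_pow s
        obtain ⟨b, hb⟩ := S.2.exists_orderOf_eq_pow (⟨s, hs⟩ : (S : Subgroup G))
        rw [← Subgroup.orderOf_coe] at hb
        have hb' : orderOf s = p ^ b := hb
        have h1 : orderOf s = 1 := Nat.eq_one_of_dvd_coprimes
          (Nat.Coprime.pow a b ((Nat.coprime_primes hq Fact.out).2 hqp)) ha.dvd hb'.dvd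
        rw [orderOf_eq_one_iff.1 h1]
        exact Subgroup.one_mem _
    exact fun A₂ => key _ A₁ A₂ rfl

theorem sylow_inf_sup (S : Sylow p G) {A₁ A₂ : Subgroup G} (h₁ : A₁.IsSubnormal)
    (h₂ : A₂.IsSubnormal) :
    (A₁ ⊔ A₂) ⊓ (S : Subgroup G) = (A₁ ⊓ (S : Subgroup G)) ⊔ (A₂ ⊓ (S : Subgroup G)) := by
  refine le_antisymm ?_ (sup_le (inf_le_inf_right _ le_sup_left) (inf_le_inf_right _ le_sup_right))
  set J := A₁ ⊔ A₂ with hJ
  have hi : ¬ p ∣ (((S : Subgroup G) ⊓ J).subgroupOf J).index :=
    not_dvd_relIndex_inf S (isSubnormal_sup h₁ h₂)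
  have h := sylow_le_sup_aux (p := p) (Nat.card J) J le_rfl
    ((subgroupOf_coe_sylow (S.2.to_le inf_le_left) inf_le_right).toSylow hi)
    (A₁.subgroupOf J) (A₂.subgroupOf J) h₁.subgroupOf h₂.subgroupOf
    (by rw [← Subgroup.subgroupOf_sup le_sup_left le_sup_right, Subgroup.subgroupOf_self])
  have h' := Subgroup.map_mono (f := J.subtype) h
  rw [IsPGroup.toSylow_coe, Subgroup.map_sup, Subgroup.map_inf _ _ _ J.subtype_injective,
    Subgroup.map_inf _ _ _ J.subtype_injective, Subgroup.subgroupOf_map_subtype,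
    Subgroup.subgroupOf_map_subtype, Subgroup.subgroupOf_map_subtype] at h'
  refine le_trans (le_of_eq ?_) (h'.trans (sup_le_sup (le_inf ?_ ?_) (le_inf ?_ ?_)))
  · rw [inf_assoc, inf_idem, inf_comm]
  · exact inf_le_right.trans inf_le_left
  · exact inf_le_left.trans (inf_le_left.trans inf_le_left)
  · exact inf_le_right.trans inf_le_left
  · exact inf_le_left.trans (inf_le_left.trans inf_le_left)

end Cfsg.Agent.LAE65
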