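import Cfsg.Agent.LAE65.Block
import Cfsg.Agent.Lib.Thompson.Cores

/-!
The module `[Ω₁(Z(O_p(E))), E]` of a Baumann block in a group of characteristic `p`.
-/

set_option autoImplicit false
set_option linter.style.haveILetI false
set_option linter.unusedSectionVars false

open Subgroup Cfsg
open scoped commutatorElement MatrixGroups Pointwise

namespace Cfsg.Agent.LAE65.Block

variable {G : Type*} [Group G] {p : ℕ}

theorem omegaOneCenter_le (X : Subgroup G) : omegaOneCenter p X ≤ X :=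
  (Thompson.omegaOne_le _ _).trans inf_le_left

theorem omegaOneCenter_le_centralizer (X : Subgroup G) :
    omegaOneCenter p X ≤ centralizer (X : Set G) :=
  (Thompson.omegaOne_le _ _).trans inf_le_right

theorem isElementaryAbelian_omegaOneCenter (X : Subgroup G) :
    IsElementaryAbelian p (omegaOneCenter p X) :=
  Thompson.isElementaryAbelian_omegaOne
    ⟨⟨fun a b => Subtype.ext (mem_centralizer_iff.mp b.2.2 a a.2.1)⟩⟩

theorem normalizer_le_normalizer_omegaOneCenter (X : Subgroup G) :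
    normalizer (X : Set G) ≤ normalizer (omegaOneCenter p X : Set G) := fun g hg => by
  rw [mem_normalizer_iff_map] at hg ⊢
  rw [omegaOneCenter, Thompson.map_omegaOne _ _ (MulAut.conj g).injective.injOn,
    LocalEven64.map_self_centralizer (MulAut.conj g).injective, hg]

theorem commutator_commutator_eq [Finite G] [hp : Fact p.Prime] {E V : Subgroup G}
    (hE : pResidualOf p E = E) (hV : IsElementaryAbelian p V) (hEV : E ≤ normalizer (V : Set G)) :
    ⁅⁅V, E⁆, E⁆ = ⁅V, E⁆ := by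
  have hX : ⁅V, E⁆ ≤ V := le_normalizer_iff_commutator_le_left.1 hEV
  have hXn : E ≤ normalizer ((⁅V, E⁆ : Subgroup G) : Set G) := normalizer_commutator_ge_right _ _
  set U := ⁅⁅V, E⁆, E⁆ with hU
  refine le_antisymm (le_normalizer_iff_commutator_le_left.1 hXn) ?_
  have hUV : U ≤ V := (le_normalizer_iff_commutator_le_left.1 hXn).trans hX
  have hUn : E ≤ normalizer (U : Set G) := normalizer_commutator_ge_right _ _
  let H : Subgroup G :=
    { carrier := {e | e ∈ normalizer (U : Set G) ∧ ∀ v ∈ V, ⁅e, v⁆ ∈ U} ∩ E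
      one_mem' := ⟨⟨one_mem _, fun v _ => by simp [U.one_mem]⟩, E.one_mem⟩
      mul_mem' := fun {a b} ha hb => ⟨⟨mul_mem ha.1.1 hb.1.1, fun v hv => by
        have : ⁅a * b, v⁆ = a * ⁅b, v⁆ * a⁻¹ * ⁅a, v⁆ := by simp only [commutatorElement_def]; group
        rw [this]
        exact U.mul_mem ((mem_normalizer_iff.1 ha.1.1 _).1 (hb.1.2 v hv)) (ha.1.2 v hv)⟩,
        E.mul_mem ha.2 hb.2⟩
      inv_mem' := fun {a} ha => ⟨⟨inv_mem ha.1.1, fun v hv => by
        have : ⁅a⁻¹, v⁆ = a⁻¹ * ⁅a, v⁆⁻¹ * a⁻¹⁻¹ := by simp only [commutatorElement_def]; group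
        rw [this]
        exact (mem_normalizer_iff.1 (inv_mem ha.1.1) _).1 (U.inv_mem (ha.1.2 v hv))⟩,
        E.inv_mem ha.2⟩ }
  have hEH : E ≤ H := by
    refine le_of_coprime hE fun e he hep => ⟨⟨hUn he, fun v hv => ?_⟩, he⟩
    have hcomm : ∀ a ∈ V, ∀ b ∈ V, a * b = b * a := fun a ha b hb =>
      Thompson.elemAb_comm hV.1 ha hb
    have hd : ∀ k : ℕ, ⁅e ^ k, v⁆ * (⁅e, v⁆ ^ k)⁻¹ ∈ U := by
      intro k
      induction k with
      | zero => simp [U.one_mem]
      | succ k ih =>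
        have hxk : ⁅e ^ k, v⁆ ∈ ⁅V, E⁆ := by
          rw [← commutatorElement_inv]
          exact inv_mem (commutator_mem_commutator hv (E.pow_mem he k))
        have h1 : ⁅e, ⁅e ^ k, v⁆⁆ ∈ U := by
          rw [← commutatorElement_inv]
          exact inv_mem (commutator_mem_commutator hxk he)
        have hdv : ⁅e, v⁆ ∈ V := by
          rw [← commutatorElement_inv]
          exact inv_mem (hX (commutator_mem_commutator hv he))
        have e1 : ⁅e ^ (k + 1), v⁆ = ⁅e, ⁅e ^ k, v⁆⁆ * ⁅e ^ k, v⁆ * ⁅e, v⁆ := by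
          simp only [commutatorElement_def, pow_succ']; group
        have e2 : ⁅e ^ (k + 1), v⁆ * (⁅e, v⁆ ^ (k + 1))⁻¹
            = ⁅e, ⁅e ^ k, v⁆⁆ * (⁅e ^ k, v⁆ * (⁅e, v⁆ ^ k)⁻¹) := by
          rw [e1, pow_succ, mul_inv_rev]
          simp only [mul_assoc, mul_inv_cancel_left]
        rw [e2]
        exact U.mul_mem h1 ih
    have hk := hd (orderOf e)
    rw [pow_orderOf_eq_one, commutatorElement_one_left, one_mul] at hk
    have hk' := U.inv_mem hk
    rw [inv_inv] at hk'
    have hdp : ⁅e, v⁆ ^ p = 1 := hV.2 _ (by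
      rw [← commutatorElement_inv]
      exact inv_mem (hX (commutator_mem_commutator hv he)))
    have hcop : (orderOf e).Coprime (orderOf ⁅e, v⁆) :=
      hep.coprime_dvd_right (orderOf_dvd_of_pow_eq_one hdp)
    obtain ⟨m, hm⟩ := exists_pow_eq_self_of_coprime hcop
    rw [← hm]
    exact U.pow_mem hk' m
  rw [commutator_comm, commutator_le]
  exact fun e he v hv => (hEH he).1.2 v hv

theorem sl2_irred {F : Type*} [Field F] [Fintype F] {E W Z X : Subgroup G}
    (hact : ActsAsSL2OnSection F (commutator (Matrix.SpecialLinearGroup (Fin 2) F)) E W Z)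
    (hXW : X ≤ W) (hXn : E ≤ normalizer (X : Set G)) (hXZ : ¬ X ≤ Z) : W ≤ X ⊔ Z := by
  obtain ⟨-, -, ρ, ψ, hρ, -, hker, heq⟩ := hact
  let U : AddSubgroup (Fin 2 → F) := Subgroup.toAddSubgroup' ((X.subgroupOf W).map ψ)
  have hU : ∀ a, a ∈ U ↔ ∃ x : W, (x : G) ∈ X ∧ ψ x = Multiplicative.ofAdd a := fun a => Iff.rfl
  obtain ⟨x₀, hx₀, hx₀Z⟩ := SetLike.not_le_iff_exists.1 hXZ
  have htop : U = ⊤ := by
    refine sl2_derived_span U (v := Multiplicative.toAdd (ψ ⟨x₀, hXW hx₀⟩)) ⟨_, hx₀, rfl⟩ ?_ ?_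
    · intro h
      exact hx₀Z ((hker ⟨x₀, hXW hx₀⟩).1 (Multiplicative.toAdd.injective h))
    · intro g hg w hw
      obtain ⟨e, rfl⟩ := (hρ.symm ▸ hg : g ∈ ρ.range)
      obtain ⟨x, hx, hxw⟩ := (hU w).1 hw
      obtain ⟨y, hy, hy'⟩ := heq e x
      rw [hU]
      refine ⟨y, by rw [hy]; exact (mem_normalizer_iff.1 (hXn e.2) _).1 hx, ?_⟩
      rw [hxw, toAdd_ofAdd] at hy'
      rw [← hy', ofAdd_toAdd]
  intro u hu
  obtain ⟨x, hx, hxu⟩ := (hU (Multiplicative.toAdd (ψ ⟨u, hu⟩))).1 (htop ▸ AddSubgroup.mem_top _)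
  rw [ofAdd_toAdd] at hxu
  have : ψ (x⁻¹ * ⟨u, hu⟩) = 1 := by rw [map_mul, map_inv, hxu, inv_mul_cancel]
  have h2 := Subgroup.mul_mem_sup hx ((hker _).1 this)
  simpa using h2

theorem perm_irred {m : ℕ} {E W Z X : Subgroup G}
    (hact : ActsAsOddPermModuleOnSection (2 * m + 1) (alternatingGroup (Fin (2 * m + 1))) E W Z)
    (hXW : X ≤ W) (hXn : E ≤ normalizer (X : Set G)) (hXZ : ¬ X ≤ Z) : W ≤ X ⊔ Z := by
  obtain ⟨-, -, ρ, ψ, hρ, hsum, -, hker, heq⟩ := hact
  let U : AddSubgroup (Fin (2 * m + 1) → ZMod 2) := Subgroup.toAddSubgroup' ((X.subgroupOf W).map ψ)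
  have hU : ∀ a, a ∈ U ↔ ∃ x : W, (x : G) ∈ X ∧ ψ x = Multiplicative.ofAdd a := fun a => Iff.rfl
  obtain ⟨x₀, hx₀, hx₀Z⟩ := SetLike.not_le_iff_exists.1 hXZ
  intro u hu
  obtain ⟨x, hx, hxu⟩ := (hU (Multiplicative.toAdd (ψ ⟨u, hu⟩))).1 <| by
    refine even_weight_span U (v := Multiplicative.toAdd (ψ ⟨x₀, hXW hx₀⟩)) ⟨_, hx₀, rfl⟩ ?_
      (hsum _) ?_ _ (hsum _)
    · intro h
      exact hx₀Z ((hker ⟨x₀, hXW hx₀⟩).1 (Multiplicative.toAdd.injective h))
    · intro g hg w hw
      obtain ⟨e, rfl⟩ := (hρ.symm ▸ hg : g ∈ ρ.range)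
      obtain ⟨x, hx, hxw⟩ := (hU w).1 hw
      obtain ⟨y, hy, hy'⟩ := heq e x
      rw [hU]
      refine ⟨y, by rw [hy]; exact (mem_normalizer_iff.1 (hXn e.2) _).1 hx, ?_⟩
      rw [hxw, toAdd_ofAdd] at hy'
      rw [← funext hy', ofAdd_toAdd]
  rw [ofAdd_toAdd] at hxu
  have : ψ (x⁻¹ * ⟨u, hu⟩) = 1 := by rw [map_mul, map_inv, hxu, inv_mul_cancel]
  have h2 := Subgroup.mul_mem_sup hx ((hker _).1 this)
  simpa using h2

variable [Finite G] [hp : Fact p.Prime] {T : Sylow p G} {E : Subgroup G}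
  (hG : centralizer (pCore p G : Set G) ≤ pCore p G)
  (hE : IsBaumannBlock p (T : Subgroup G) E)

omit hp in
theorem le_normalizer_pCore (H : Subgroup G) : H ≤ normalizer (pCore p G : Set G) := by
  rw [normalizer_eq_top_iff.2 (inferInstance : (pCore p G).Normal)]; exact le_top

omit hp in
theorem le_normalizer_omegaPCore (H : Subgroup G) :
    H ≤ normalizer (omegaOneCenter p (pCore p G) : Set G) :=
  (le_normalizer_pCore H).trans (normalizer_le_normalizer_omegaOneCenter _)

include hE in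
theorem core_le_normalizer : pCore p G ≤ normalizer (E : Set G) :=
  block_normalized hE Thompson.isPGroup_pCore (le_normalizer_pCore _) (le_normalizer_pCore _)

include hE in
theorem residual_sup : pResidualOf p (E ⊔ pCore p G) = E := by
  refine le_antisymm ?_ ?_
  · rw [pResidualOf, map_le_iff_le_comap, Transfer.pResidual_le_iff]
    intro g hg
    exact mem_of_coprime_mem_sup Thompson.isPGroup_pCore (core_le_normalizer hE) g.2
      ((Subgroup.orderOf_coe g).symm ▸ hg)
  · refine le_of_coprime hE.1 fun x hx hxp => ⟨⟨x, mem_sup_left hx⟩,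
      Transfer.mem_pResidual_of_coprime (by rwa [Subgroup.orderOf_mk]), rfl⟩

include hG in
theorem omegaOneCenter_sylow_le :
    omegaOneCenter p (T : Subgroup G) ≤ omegaOneCenter p (pCore p G) := by
  rw [omegaOneCenter, omegaOne, closure_le]
  rintro x ⟨⟨hxT, hxc⟩, hxp⟩
  have hc : x ∈ centralizer (pCore p G : Set G) :=
    centralizer_le (Thompson.pCore_le_sylow T) hxc
  exact Thompson.mem_omegaOne ⟨hG hc, hc⟩ hxp

/-- The basic facts on the module `[V, E]`, with `V = Ω₁(Z(O_p(G)))`. -/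
structure ModuleFacts (p : ℕ) (E : Subgroup G) : Prop where
  le_omega : ⁅omegaOneCenter p (pCore p G), E⁆ ≤ omegaOneCenter p (pCoreOf p E)
  eq : ⁅omegaOneCenter p (pCoreOf p E), E⁆ = ⁅omegaOneCenter p (pCore p G), E⁆
  idem : ⁅⁅omegaOneCenter p (pCore p G), E⁆, E⁆ = ⁅omegaOneCenter p (pCore p G), E⁆
  ne_bot : ⁅omegaOneCenter p (pCore p G), E⁆ ≠ ⊥
  le_v : ⁅omegaOneCenter p (pCore p G), E⁆ ≤ omegaOneCenter p (pCore p G)
  le_normalizer : E ≤ normalizer ((⁅omegaOneCenter p (pCore p G), E⁆ : Subgroup G) : Set G)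
  sup_eq : omegaOneCenter p (pCoreOf p E)
    ≤ ⁅omegaOneCenter p (pCore p G), E⁆ ⊔ (omegaOneCenter p (pCoreOf p E) ⊓ centralizer (E : Set G))

include hG hE in
theorem moduleFacts : ModuleFacts p E := by
  set V := omegaOneCenter p (pCore p G) with hV
  set P := pCoreOf p E with hP
  set W := omegaOneCenter p P with hW
  set Z := W ⊓ centralizer (E : Set G) with hZ
  set X := ⁅V, E⁆ with hX
  have hVel : IsElementaryAbelian p V := isElementaryAbelian_omegaOneCenter _
  have hEV : E ≤ normalizer (V : Set G) := le_normalizer_omegaPCore E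
  have hXV : X ≤ V := le_normalizer_iff_commutator_le_left.1 hEV
  have hidem : ⁅X, E⁆ = X := commutator_commutator_eq hE.1 hVel hEV
  have hXne : X ≠ ⊥ := by
    intro h
    apply hE.2.2.2.1
    rw [eq_bot_iff, ← h, hX, commutator_comm V E]
    exact commutator_mono le_rfl (omegaOneCenter_sylow_le hG)
  have hXn : E ≤ normalizer (X : Set G) := normalizer_commutator_ge_right _ _
  have hXE : X ≤ E := le_normalizer_iff_commutator_le_right.1
    (((omegaOneCenter_le _).trans (core_le_normalizer hE)))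
  have hXP : X ≤ P := LocalEven64.le_pCoreOf hXE hXn
    ((Thompson.isPGroup_of_isElementaryAbelian hVel).to_le hXV)
  have hXnotC : ¬ X ≤ centralizer (E : Set G) := fun h => by
    rw [← commutator_eq_bot_iff_le_centralizer, hidem] at h
    exact hXne h
  have hXW : X ≤ W := by
    rcases hE.2.2.2.2 with ⟨F, _, _, n, hn, -, -, hq | ⟨h3, hact, hder, -, hZE, hcard, -⟩⟩ |
      ⟨-, m, -, -, hq⟩
    · exact hXP.trans hq.le
    · by_contra hXW
      have hsup : P ≤ X ⊔ W := sl2_irred hact hXP hXn hXW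
      have hab : ⁅P, P⁆ = ⊥ := by
        rw [commutator_eq_bot_iff_le_centralizer]
        refine hsup.trans (sup_le ?_ (omegaOneCenter_le_centralizer _))
        rw [le_centralizer_iff]
        refine hsup.trans (sup_le (Thompson.le_centralizer_self (isMulCommutative_of_le hVel.1 hXV)) ?_)
        exact (omegaOneCenter_le_centralizer _).trans (centralizer_le hXP)
      rw [hder] at hab
      rw [hZE, hab, card_bot] at hcard
      have hn0 : n = 0 := by
        by_contra hn0
        exact absurd hcard.symm (Nat.one_lt_pow hn0 (by norm_num)).ne'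
      rw [hn0, pow_zero] at hn
      exact absurd hn Fintype.one_lt_card.ne'
    · exact hXP.trans hq.le
  have hXZ : ¬ X ≤ Z := fun h => hXnotC (h.trans inf_le_right)
  have hsup : W ≤ X ⊔ Z := by
    rcases hE.2.2.2.2 with ⟨F, _, _, n, -, -, hact, -⟩ | ⟨-, m, -, hact, -⟩
    · exact sl2_irred hact hXW hXn hXZ
    · exact perm_irred hact hXW hXn hXZ
  refine ⟨hXW, le_antisymm ?_ ?_, hidem, hXne, hXV, hXn, hsup⟩
  · rw [commutator_le]
    intro w hw e he
    have hXZn : X ≤ normalizer (Z : Set G) := by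
      refine le_trans (hXW.trans ?_) (le_centralizer_iff_le_normalizer_of_comm Z)
      exact (Thompson.le_centralizer_self (isElementaryAbelian_omegaOneCenter P).1).trans
        (centralizer_le inf_le_left)
    have hwc : w ∈ ((X : Set G) * (Z : Set G)) := by
      rw [← coe_mul_of_left_le_normalizer_right X Z hXZn]; exact hsup hw
    obtain ⟨x, hx, z, hz, rfl⟩ := Set.mem_mul.1 hwc
    have hze : z * e = e * z := (mem_centralizer_iff.1 hz.2 e he).symm
    have : ⁅x * z, e⁆ = ⁅x, e⁆ := by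
      simp only [commutatorElement_def, mul_inv_rev]
      rw [show x * z * e * (z⁻¹ * x⁻¹) * e⁻¹ = x * (z * e) * z⁻¹ * x⁻¹ * e⁻¹ by group, hze]
      group
    rw [this]
    exact le_normalizer_iff_commutator_le_left.1 hXn (commutator_mem_commutator hx he)
  · exact hidem.symm.le.trans (commutator_mono hXW le_rfl)
where
  isMulCommutative_of_le {V W : Subgroup G} (hV : IsMulCommutative V) (h : W ≤ V) :
      IsMulCommutative W := Thompson.isMulCommutative_of_le hV h
  le_centralizer_iff_le_normalizer_of_comm (Z : Subgroup G) :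
      centralizer (Z : Set G) ≤ normalizer (Z : Set G) := centralizer_le_normalizer _

include hG hE in
theorem module_le : ⁅omegaOneCenter p (pCoreOf p E), E⁆ ≤ omegaOneCenter p (pCore p G) :=
  (moduleFacts hG hE).eq.le.trans (moduleFacts hG hE).le_v

include hG hE in
theorem module_not_centralized :
    ⁅⁅omegaOneCenter p (pCoreOf p E), E⁆, thompsonSubgroupOf p (T : Subgroup G)⁆ ≠ ⊥ := by
  have hf := moduleFacts hG hE
  rw [hf.eq]
  set X := ⁅omegaOneCenter p (pCore p G), E⁆ with hX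
  intro h
  rw [commutator_eq_bot_iff_le_centralizer] at h
  have hXel : IsElementaryAbelian p X :=
    Thompson.isElementaryAbelian_of_le (isElementaryAbelian_omegaOneCenter _) hf.le_v
  have hXT : X ≤ (T : Subgroup G) :=
    hf.le_v.trans ((omegaOneCenter_le _).trans (Thompson.pCore_le_sylow T))
  have hXJ : X ≤ thompsonSubgroupOf p (T : Subgroup G) := by
    obtain ⟨A, hA⟩ := Thompson.exists_isMaxEAIn p (T : Subgroup G)
    refine le_trans ?_ (Thompson.le_thompsonSubgroupOf hA)
    exact Thompson.le_max_of_centralizes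
      (Thompson.isMaxEAIn_sylow_iff T hA) hXel
      (h.trans (centralizer_le (Thompson.le_thompsonSubgroupOf hA)))
  have hBX : baumannSubgroupOf p (T : Subgroup G) ≤ centralizer (X : Set G) :=
    inf_le_right.trans (centralizer_le fun x hx =>
      Thompson.mem_omegaOne ⟨hXJ hx, h hx⟩ (hXel.2 x hx))
  have hEX : E ≤ centralizer (X : Set G) := by
    conv_lhs => rw [← hE.2.1]
    rw [commutator_le]
    intro e he b hb
    have hn := LocalEven64.le_normalizer_centralizer hf.le_normalizer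
    rw [commutatorElement_def]
    refine mul_mem ((mem_normalizer_iff.1 (hn he) b).1 (hBX hb)) (inv_mem (hBX hb))
  apply hf.ne_bot
  rw [← hf.idem, commutator_eq_bot_iff_le_centralizer, le_centralizer_iff]
  exact hEX

end Cfsg.Agent.LAE65.Block
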