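import Mathlib.FieldTheory.Finite.Basic
import Mathlib.LinearAlgebra.Matrix.Notation
import Mathlib.GroupTheory.PGroup
import Cfsg.Agent.Lib.LinearGroup.Generation

/-!
An irreducible module for `SL₂(F)` that is the sum of the fixed points of two opposite unipotent
groups is natural.
-/

set_option autoImplicit false
set_option linter.style.haveILetI false
set_option linter.unusedSimpArgs false

open Matrix
open scoped MatrixGroups

namespace Cfsg.Agent.LAE65.Natural

universe u v

variable {F : Type v} [Field F]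

/-- `u b = (1 b; 0 1)`. -/
def uMat (b : F) : SL(2, F) := ⟨!![1, b; 0, 1], by simp [Matrix.det_fin_two]⟩

/-- `l c = (1 0; c 1)`. -/
def lMat (c : F) : SL(2, F) := ⟨!![1, 0; c, 1], by simp [Matrix.det_fin_two]⟩

/-- `w = (0 1; -1 0)`. -/
def wMat : SL(2, F) := ⟨!![0, 1; -1, 0], by simp [Matrix.det_fin_two]⟩

/-- `h t = (t 0; 0 t⁻¹)`. -/
def hMat (t : Fˣ) : SL(2, F) := ⟨!![(t : F), 0; 0, (↑t⁻¹ : F)], by simp [Matrix.det_fin_two]⟩

theorem uMat_coe (b : F) : ((uMat b : SL(2, F)) : Matrix (Fin 2) (Fin 2) F) = !![1, b; 0, 1] := rfl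

theorem lMat_coe (c : F) : ((lMat c : SL(2, F)) : Matrix (Fin 2) (Fin 2) F) = !![1, 0; c, 1] := rfl

theorem wMat_coe : ((wMat : SL(2, F)) : Matrix (Fin 2) (Fin 2) F) = !![0, 1; -1, 0] := rfl

theorem hMat_coe (t : Fˣ) :
    ((hMat t : SL(2, F)) : Matrix (Fin 2) (Fin 2) F) = !![(t : F), 0; 0, (↑t⁻¹ : F)] := rfl

theorem uMat_add (a b : F) : uMat (a + b) = uMat a * uMat b := by
  apply Matrix.SpecialLinearGroup.ext
  intro i j
  fin_cases i <;> fin_cases j <;>
    simp [uMat_coe, lMat_coe, wMat_coe, hMat_coe, Matrix.mul_apply, Fin.sum_univ_two, add_comm]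

theorem uMat_zero : uMat (0 : F) = 1 := by
  apply Matrix.SpecialLinearGroup.ext
  intro i j
  fin_cases i <;> fin_cases j <;>
    simp [uMat_coe, lMat_coe, wMat_coe, hMat_coe, Matrix.mul_apply, Fin.sum_univ_two, add_comm]

theorem lMat_add (a b : F) : lMat (a + b) = lMat a * lMat b := by
  apply Matrix.SpecialLinearGroup.ext
  intro i j
  fin_cases i <;> fin_cases j <;>
    simp [uMat_coe, lMat_coe, wMat_coe, hMat_coe, Matrix.mul_apply, Fin.sum_univ_two, add_comm]

theorem lMat_zero : lMat (0 : F) = 1 := by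
  apply Matrix.SpecialLinearGroup.ext
  intro i j
  fin_cases i <;> fin_cases j <;>
    simp [uMat_coe, lMat_coe, wMat_coe, hMat_coe, Matrix.mul_apply, Fin.sum_univ_two, add_comm]

theorem hMat_mul (s t : Fˣ) : hMat s * hMat t = hMat (s * t) := by
  apply Matrix.SpecialLinearGroup.ext
  intro i j
  fin_cases i <;> fin_cases j <;>
    simp [uMat_coe, lMat_coe, wMat_coe, hMat_coe, Matrix.mul_apply, Fin.sum_univ_two, add_comm]
  all_goals field_simp

theorem hMat_inv (t : Fˣ) : (hMat t)⁻¹ = hMat t⁻¹ := by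
  rw [inv_eq_iff_mul_eq_one, hMat_mul, mul_inv_cancel]
  apply Matrix.SpecialLinearGroup.ext
  intro i j
  fin_cases i <;> fin_cases j <;>
    simp [uMat_coe, lMat_coe, wMat_coe, hMat_coe, Matrix.mul_apply, Fin.sum_univ_two, add_comm]

theorem hMat_conj (t : Fˣ) (b : F) :
    hMat t * uMat b = uMat ((t : F) ^ 2 * b) * hMat t := by
  apply Matrix.SpecialLinearGroup.ext
  intro i j
  fin_cases i <;> fin_cases j <;>
    simp [uMat_coe, lMat_coe, wMat_coe, hMat_coe, Matrix.mul_apply, Fin.sum_univ_two, add_comm]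
  all_goals field_simp

theorem hMat_conj_lMat (t : Fˣ) (c : F) :
    hMat t * lMat ((t : F) ^ 2 * c) = lMat c * hMat t := by
  apply Matrix.SpecialLinearGroup.ext
  intro i j
  fin_cases i <;> fin_cases j <;>
    simp [uMat_coe, lMat_coe, wMat_coe, hMat_coe, Matrix.mul_apply, Fin.sum_univ_two, add_comm]
  all_goals field_simp

theorem wMat_conj (b : F) : wMat * uMat b = lMat (-b) * (wMat : SL(2, F)) := by
  apply Matrix.SpecialLinearGroup.ext
  intro i j
  fin_cases i <;> fin_cases j <;>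
    simp [uMat_coe, lMat_coe, wMat_coe, hMat_coe, Matrix.mul_apply, Fin.sum_univ_two, add_comm]

theorem wMat_conj' (c : F) : wMat * lMat c = uMat (-c) * (wMat : SL(2, F)) := by
  apply Matrix.SpecialLinearGroup.ext
  intro i j
  fin_cases i <;> fin_cases j <;>
    simp [uMat_coe, lMat_coe, wMat_coe, hMat_coe, Matrix.mul_apply, Fin.sum_univ_two, add_comm]

theorem wMat_eq : uMat (1 : F) * lMat (-1) * uMat 1 = wMat := by
  apply Matrix.SpecialLinearGroup.ext
  intro i j
  fin_cases i <;> fin_cases j <;>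
    simp [uMat_coe, lMat_coe, wMat_coe, hMat_coe, Matrix.mul_apply, Fin.sum_univ_two, add_comm]

theorem wMat_hMat (t : Fˣ) : hMat t * (wMat : SL(2, F)) * hMat t = wMat := by
  apply Matrix.SpecialLinearGroup.ext
  intro i j
  fin_cases i <;> fin_cases j <;>
    simp [uMat_coe, lMat_coe, wMat_coe, hMat_coe, Matrix.mul_apply, Fin.sum_univ_two, add_comm]

theorem wMat_sq_comm (g : SL(2, F)) :
    wMat * wMat * g = g * (wMat * (wMat : SL(2, F))) := by
  apply Matrix.SpecialLinearGroup.ext
  intro i j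
  fin_cases i <;> fin_cases j <;>
    simp [uMat_coe, lMat_coe, wMat_coe, hMat_coe, Matrix.mul_apply, Fin.sum_univ_two, add_comm]

theorem wMat_four : wMat * wMat * (wMat * wMat) = (1 : SL(2, F)) := by
  apply Matrix.SpecialLinearGroup.ext
  intro i j
  fin_cases i <;> fin_cases j <;>
    simp [uMat_coe, lMat_coe, wMat_coe, hMat_coe, Matrix.mul_apply, Fin.sum_univ_two, add_comm]

theorem wMat_mulVec (x y : F) :
    ((wMat : SL(2, F)) : Matrix (Fin 2) (Fin 2) F).mulVec ![x, y] = ![y, -x] := by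
  ext i; fin_cases i <;> simp [wMat, Matrix.mulVec, dotProduct, Fin.sum_univ_two]

theorem uMat_mulVec (b x y : F) :
    ((uMat b : SL(2, F)) : Matrix (Fin 2) (Fin 2) F).mulVec ![x, y] = ![x + b * y, y] := by
  ext i; fin_cases i <;> simp [uMat, Matrix.mulVec, dotProduct, Fin.sum_univ_two]

theorem eq_top_of_uMat_lMat {H : Subgroup SL(2, F)} (hu : ∀ b, uMat b ∈ H)
    (hl : ∀ c, lMat c ∈ H) : H = ⊤ := by
  refine LinearGroup.eq_top_of_transvection_mem fun i j hij c => ?_
  fin_cases i <;> fin_cases j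
  · exact absurd rfl hij
  · have e : Matrix.SpecialLinearGroup.transvection hij c = uMat c := by
      apply Subtype.ext
      rw [Matrix.SpecialLinearGroup.transvection_coe]
      ext a b
      fin_cases a <;> fin_cases b <;> simp [uMat, Matrix.transvection, Matrix.single]
    exact e ▸ hu c
  · have e : Matrix.SpecialLinearGroup.transvection hij c = lMat c := by
      apply Subtype.ext
      rw [Matrix.SpecialLinearGroup.transvection_coe]
      ext a b
      fin_cases a <;> fin_cases b <;> simp [lMat, Matrix.transvection, Matrix.single]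
    exact e ▸ hl c
  · exact absurd rfl hij

theorem eq_top_of_uMat_wMat {H : Subgroup SL(2, F)} (hu : ∀ b, uMat b ∈ H)
    (hw : wMat ∈ H) : H = ⊤ := by
  refine eq_top_of_uMat_lMat hu fun c => ?_
  have : lMat c = wMat * uMat (-c) * (wMat : SL(2, F))⁻¹ := by
    rw [wMat_conj, neg_neg, mul_inv_cancel_right]
  rw [this]
  exact mul_mem (mul_mem hw (hu _)) (inv_mem hw)

variable [Finite F]

/-- Every element of a finite field is in the additive span of the squares of units. -/
theorem mem_of_units_sq {P : AddSubgroup F} (h : ∀ t : Fˣ, (t : F) ^ 2 ∈ P) (x : F) : x ∈ P := by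
  have hsq : ∀ y : F, y ^ 2 ∈ P := fun y => by
    by_cases hy : y = 0
    · rw [hy, zero_pow (by norm_num : (2 : ℕ) ≠ 0)]; exact P.zero_mem
    · exact h (Units.mk0 y hy)
  haveI := Fintype.ofFinite F
  by_cases h2 : ringChar F = 2
  · obtain ⟨r, hr⟩ := FiniteField.isSquare_of_char_two h2 x
    rw [hr, ← sq]; exact hsq r
  · obtain ⟨a, b, hab⟩ := FiniteField.exists_root_sum_quadratic (R := F)
      (f := Polynomial.X ^ 2) (g := Polynomial.X ^ 2 - Polynomial.C x)
      (Polynomial.degree_X_pow 2) (Polynomial.degree_X_pow_sub_C (by decide) _)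
      (FiniteField.odd_card_of_char_ne_two h2)
    have : a ^ 2 + b ^ 2 = x := by
      simp only [Polynomial.eval_sub, Polynomial.eval_pow, Polynomial.eval_X, Polynomial.eval_C] at hab
      linear_combination hab
    rw [← this]
    exact P.add_mem (hsq a) (hsq b)

variable {A : Type u} [AddCommGroup A] [Finite A] (σ : SL(2, F) →* AddMonoid.End A)

omit [Finite F] [Finite A] in
theorem act_mul (g h : SL(2, F)) (a : A) : σ (g * h) a = σ g (σ h a) := by
  rw [map_mul]; rfl

omit [Finite F] [Finite A] in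
theorem act_one (a : A) : σ 1 a = a := by rw [map_one]; rfl

omit [Finite F] [Finite A] in
theorem act_inv (g : SL(2, F)) (a : A) : σ g⁻¹ (σ g a) = a := by
  rw [← act_mul, inv_mul_cancel, act_one]

omit [Finite F] [Finite A] in
theorem act_inv' (g : SL(2, F)) (a : A) : σ g (σ g⁻¹ a) = a := by
  rw [← act_mul, mul_inv_cancel, act_one]

/-- Fixed points of the upper unipotent group. -/
def fixU : AddSubgroup A where
  carrier := {a | ∀ b, σ (uMat b) a = a}
  zero_mem' := fun b => map_zero _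
  add_mem' := fun {x y} hx hy b => by rw [map_add, hx, hy]
  neg_mem' := fun {x} hx b => by rw [map_neg, hx]

/-- Fixed points of the lower unipotent group. -/
def fixL : AddSubgroup A where
  carrier := {a | ∀ b, σ (lMat b) a = a}
  zero_mem' := fun b => map_zero _
  add_mem' := fun {x y} hx hy b => by rw [map_add, hx, hy]
  neg_mem' := fun {x} hx b => by rw [map_neg, hx]

omit [Finite F] [Finite A] in
theorem stable_of_generators {W : AddSubgroup A} [Finite A] (hu : ∀ b, ∀ a ∈ W, σ (uMat b) a ∈ W)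
    (hw : ∀ a ∈ W, σ wMat a ∈ W) : ∀ g, ∀ a ∈ W, σ g a ∈ W := by
  let H : Subgroup SL(2, F) :=
    { carrier := {g | ∀ a ∈ W, σ g a ∈ W}
      one_mem' := fun a ha => by rwa [act_one]
      mul_mem' := fun {g h} hg hh a ha => by rw [act_mul]; exact hg _ (hh _ ha)
      inv_mem' := fun {g} hg a ha => by
        let f : W → W := fun x => ⟨σ g x, hg x x.2⟩
        have hf : Function.Injective f := fun x y hxy => by
          apply Subtype.ext
          rw [← act_inv σ g x, ← act_inv σ g y]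
          exact congrArg _ (congrArg Subtype.val hxy)
        obtain ⟨x, hx⟩ := (Finite.injective_iff_surjective.1 hf) ⟨a, ha⟩
        have : σ g (x : A) = a := congrArg Subtype.val hx
        rw [← this, act_inv]
        exact x.2 }
  intro g
  exact (eq_top_of_uMat_wMat (H := H) hu hw ▸ Subgroup.mem_top g : g ∈ H)

theorem exists_natural {p : ℕ} [hp : Fact p.Prime] (hu : IsPGroup p (Multiplicative F))
    (hA : IsPGroup p (Multiplicative A))
    (hirr : ∀ W : AddSubgroup A, (∀ g, ∀ a ∈ W, σ g a ∈ W) → W = ⊥ ∨ W = ⊤)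
    (hnt : ∃ g a, σ g a ≠ a) (hsum : fixU σ ⊔ fixL σ = ⊤) :
    ∃ ψ : A ≃+ (Fin 2 → F), ∀ (g : SL(2, F)) (a : A),
      ψ (σ g a) = (g : Matrix (Fin 2) (Fin 2) F).mulVec (ψ a) := by
  set A₀ := fixU σ with hA₀
  set A₁ := fixL σ with hA₁
  obtain ⟨g₀, a₀, hga⟩ := hnt
  -- a stable subgroup on which everything acts trivially is trivial
  have hfix : ∀ a ∈ A₀, a ∈ A₁ → a = 0 := by
    intro a h0 h1
    let W : AddSubgroup A :=
      { carrier := {a | ∀ g, σ g a = a}
        zero_mem' := fun g => map_zero _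
        add_mem' := fun {x y} hx hy g => by rw [map_add, hx, hy]
        neg_mem' := fun {x} hx g => by rw [map_neg, hx] }
    have haW : a ∈ W := by
      let H : Subgroup SL(2, F) :=
        { carrier := {g | σ g a = a}
          one_mem' := act_one σ a
          mul_mem' := fun {g h} (hg : σ g a = a) (hh : σ h a = a) => by
            show σ (g * h) a = a
            rw [act_mul, hh, hg]
          inv_mem' := fun {g} (hg : σ g a = a) => by
            show σ g⁻¹ a = a
            conv_lhs => rw [← hg]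
            exact act_inv σ g a }
      intro g
      exact (eq_top_of_uMat_lMat (H := H) h0 h1 ▸ Subgroup.mem_top g : g ∈ H)
    rcases hirr W (fun g x hx => by rw [hx g]; exact hx) with hW | hW
    · exact AddSubgroup.mem_bot.1 (hW ▸ haW)
    · exact absurd ((hW.symm ▸ AddSubgroup.mem_top a₀ : a₀ ∈ W) g₀) hga
  have hdec : ∀ a, ∃ x ∈ A₀, ∃ y ∈ A₁, x + y = a := fun a =>
    AddSubgroup.mem_sup.1 (hsum ▸ AddSubgroup.mem_top a)
  have huniq : ∀ x ∈ A₀, ∀ y ∈ A₁, ∀ x' ∈ A₀, ∀ y' ∈ A₁, x + y = x' + y' → x = x' ∧ y = y' := by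
    intro x hx y hy x' hx' y' hy' he
    have h1 : x - x' = y' - y := by rw [sub_eq_sub_iff_add_eq_add, he, add_comm]
    have h2 := hfix (x - x') (A₀.sub_mem hx hx') (h1 ▸ A₁.sub_mem hy' hy)
    rw [sub_eq_zero] at h2
    exact ⟨h2, add_left_cancel (h2 ▸ he)⟩
  -- `w` and the torus
  have hw01 : ∀ a ∈ A₀, σ wMat a ∈ A₁ := by
    intro a ha c
    rw [← act_mul, show lMat c = lMat (- (-c)) by rw [neg_neg], ← wMat_conj, act_mul, ha]
  have hw10 : ∀ a ∈ A₁, σ wMat a ∈ A₀ := by
    intro a ha b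
    rw [← act_mul, show uMat b = uMat (- (-b)) by rw [neg_neg], ← wMat_conj', act_mul, ha]
  have hinv : ∀ a : A, σ (wMat : SL(2, F))⁻¹ a = σ wMat (σ wMat (σ wMat a)) := by
    intro a
    have e : (wMat : SL(2, F))⁻¹ = wMat * (wMat * wMat) := by
      rw [inv_eq_iff_mul_eq_one, ← mul_assoc, wMat_four]
    rw [e, act_mul, act_mul]
  have hh1 : ∀ t, ∀ a ∈ A₁, σ (hMat t) a ∈ A₁ := by
    intro t a ha c
    rw [← act_mul, ← hMat_conj_lMat, act_mul, ha]
  -- the subgroup of `A₁` on which the upper group acts quadratically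
  let K : AddSubgroup A :=
    { carrier := {k | k ∈ A₁ ∧ ∀ b, σ (uMat b) k - k ∈ A₀}
      zero_mem' := ⟨A₁.zero_mem, fun b => by simp [A₀.zero_mem]⟩
      add_mem' := fun {x y} hx hy => ⟨A₁.add_mem hx.1 hy.1, fun b => by
        rw [map_add, add_sub_add_comm]; exact A₀.add_mem (hx.2 b) (hy.2 b)⟩
      neg_mem' := fun {x} hx => ⟨A₁.neg_mem hx.1, fun b => by
        have := A₀.neg_mem (hx.2 b)
        simpa [sub_eq_add_neg, add_comm] using this⟩ }
  have hK1 : K ≠ ⊥ := by
    have hA1ne : ∃ a ∈ A₁, a ≠ 0 := by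
      obtain ⟨x, hx, y, hy, hxy⟩ := hdec a₀
      by_cases hy0 : y = 0
      · refine ⟨σ wMat x, hw01 x hx, fun h => ?_⟩
        have hx0 : x = 0 := by rw [← act_inv σ wMat x, h, map_zero]
        apply hga
        rw [← hxy, hy0, hx0, add_zero, map_zero]
      · exact ⟨y, hy, hy0⟩
    -- a fixed point of the unipotent group on `A / A₀`
    have hstab : ∀ b, ∀ a ∈ A₀, σ (uMat b) a ∈ A₀ := fun b a ha => by rw [ha b]; exact ha
    let φ : F → (A →+ A) := fun b => σ (uMat b)
    let ν : F → (A ⧸ A₀ →+ A ⧸ A₀) := fun b => QuotientAddGroup.map A₀ A₀ (φ b) (hstab b)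
    let α : MulAction (Multiplicative F) (A ⧸ A₀) :=
      { smul := fun b x => ν (Multiplicative.toAdd b) x
        one_smul := fun x => by
          induction x using QuotientAddGroup.induction_on with
          | H a =>
            show ((φ 0 a : A) : A ⧸ A₀) = (a : A ⧸ A₀)
            congr 1
            show σ (uMat 0) a = a
            rw [uMat_zero, act_one]
        mul_smul := fun b c x => by
          induction x using QuotientAddGroup.induction_on with
          | H a =>
            show ((φ (Multiplicative.toAdd b + Multiplicative.toAdd c) a : A) : A ⧸ A₀)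
              = ((φ (Multiplicative.toAdd b) (φ (Multiplicative.toAdd c) a) : A) : A ⧸ A₀)
            congr 1
            show σ (uMat _) a = σ (uMat _) (σ (uMat _) a)
            rw [uMat_add, act_mul] }
    letI := α
    obtain ⟨y, hy, hy0⟩ := hA1ne
    have hne : (QuotientAddGroup.mk y : A ⧸ A₀) ≠ 0 := fun h =>
      hy0 (hfix y ((QuotientAddGroup.eq_zero_iff y).1 h) hy)
    haveI : Nontrivial (A ⧸ A₀) := ⟨⟨_, _, hne⟩⟩
    have hd : p ∣ Nat.card (A ⧸ A₀) := by
      obtain ⟨n, hn⟩ := IsPGroup.iff_card.1 hA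
      have hdvd : Nat.card (A ⧸ A₀) ∣ p ^ n := by
        rw [← hn]
        show _ ∣ Nat.card A
        exact AddSubgroup.card_quotient_dvd_card A₀
      obtain ⟨m, -, hm⟩ := (Nat.dvd_prime_pow hp.out).1 hdvd
      rcases Nat.eq_zero_or_pos m with rfl | h
      · exact absurd hm (by rw [pow_zero]; exact Finite.one_lt_card.ne')
      · rw [hm]; exact dvd_pow_self p h.ne'
    obtain ⟨z, hz, hz0⟩ := hu.exists_fixed_point_of_prime_dvd_card_of_fixed_point (A ⧸ A₀) hd
      (a := 0) (fun b => map_zero _)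
    obtain ⟨a, rfl⟩ := QuotientAddGroup.mk_surjective z
    obtain ⟨x, hx, y, hy, hxy⟩ := hdec a
    intro hK
    have hyK : y ∈ K := by
      refine ⟨hy, fun b => ?_⟩
      have h1 := hz (Multiplicative.ofAdd b)
      change ((φ b a : A) : A ⧸ A₀) = (a : A ⧸ A₀) at h1
      rw [QuotientAddGroup.eq] at h1
      change -(σ (uMat b) a) + a ∈ A₀ at h1
      rw [← hxy, map_add, hx b] at h1
      have := A₀.neg_mem h1
      simpa [sub_eq_add_neg, add_comm, add_left_comm, add_assoc] using this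
    rw [hK, AddSubgroup.mem_bot] at hyK
    apply hz0
    rw [eq_comm, QuotientAddGroup.eq_zero_iff, ← hxy, hyK, add_zero]
    exact hx
  have hKh : ∀ t, ∀ k ∈ K, σ (hMat t) k ∈ K := by
    intro t k hk
    refine ⟨hh1 t k hk.1, fun b => ?_⟩
    have e : uMat b * hMat t = hMat t * uMat (((↑t⁻¹ : F)) ^ 2 * b) := by
      rw [hMat_conj, ← mul_assoc, ← mul_pow, Units.mul_inv, one_pow, one_mul]
    rw [← act_mul, e, act_mul, ← map_sub]
    intro b'
    have e2 : uMat b' * hMat t = hMat t * uMat (((↑t⁻¹ : F)) ^ 2 * b') := by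
      rw [hMat_conj, ← mul_assoc, ← mul_pow, Units.mul_inv, one_pow, one_mul]
    rw [← act_mul, e2, act_mul, hk.2 _ _]
  -- `w K` consists of elements on which the lower group acts quadratically
  have hK' : ∀ k ∈ K, ∀ c, σ (lMat c) (σ wMat k) - σ wMat k ∈ A₁ := by
    intro k hk c
    rw [← act_mul, show lMat c = lMat (- (-c)) by rw [neg_neg], ← wMat_conj, act_mul, ← map_sub]
    exact hw01 _ (hk.2 _)
  have h11 : ∀ k ∈ K, σ (uMat 1) k - k = σ wMat k := by
    intro k hk
    set a := σ (uMat 1) k - k with ha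
    have haA : a ∈ A₀ := hk.2 1
    have e1 : σ wMat k = σ (uMat 1) (σ (lMat (-1)) (k + a)) := by
      rw [← wMat_eq, act_mul, act_mul, ha, add_sub_cancel]
    have hwk : σ wMat k ∈ A₀ := hw10 k hk.1
    have e2 : σ (lMat (-1)) (k + a) = σ wMat k := by
      have := congrArg (σ (uMat (-1))) e1
      rw [hwk (-1), ← act_mul, ← uMat_add, neg_add_cancel, uMat_zero, act_one] at this
      exact this.symm
    have e3 : k + a = σ (lMat 1) (σ wMat k) := by
      rw [← e2, ← act_mul, ← lMat_add, add_neg_cancel]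
      have : (lMat 0 : SL(2, F)) = 1 := by apply Subtype.ext; simp [lMat, Matrix.one_fin_two]
      rw [this, act_one]
    have he := hK' k hk 1
    rw [← e3] at he
    exact (huniq a haA k hk.1 (σ wMat k) hwk (k + a - σ wMat k) he
      (by rw [add_sub_cancel, add_comm])).1
  -- squares of the torus
  have hsqf : ∀ (t : Fˣ), ∀ k ∈ K, σ (uMat ((t : F) ^ 2)) k - k
      = σ (hMat t) (σ wMat (σ (hMat t)⁻¹ k)) := by
    intro t k hk
    have hk' : σ (hMat t)⁻¹ k ∈ K := by
      rw [hMat_inv]; exact hKh _ k hk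
    rw [← h11 _ hk', map_sub, ← act_mul σ (hMat t) (uMat 1), hMat_conj, mul_one, act_mul, act_inv']
  -- the image of `w` on `K`
  set K' := K.map (σ wMat) with hK'def
  have hK'0 : ∀ a ∈ K', a ∈ A₀ := by
    rintro _ ⟨k, hk, rfl⟩; exact hw10 k hk.1
  have hK'b : ∀ b, ∀ k ∈ K, σ (uMat b) k - k ∈ K' := by
    intro b
    let P : AddSubgroup F :=
      { carrier := {b | ∀ k ∈ K, σ (uMat b) k - k ∈ K'}
        zero_mem' := fun k hk => by rw [uMat_zero, act_one, sub_self]; exact K'.zero_mem
        add_mem' := fun {b c} hb hc k hk => by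
          have e : σ (uMat (b + c)) k - k = (σ (uMat b) k - k) + (σ (uMat c) k - k) := by
            have h2 := hk.2 c b
            rw [map_sub] at h2
            rw [uMat_add, act_mul, ← sub_add_cancel (σ (uMat b) (σ (uMat c) k)) (σ (uMat b) k), h2]
            abel
          rw [e]; exact K'.add_mem (hb k hk) (hc k hk)
        neg_mem' := fun {b} hb k hk => by
          have e : σ (uMat (-b)) k - k = -(σ (uMat b) k - k) := by
            have h2 := hk.2 (-b) b
            rw [map_sub, ← act_mul, ← uMat_add, add_neg_cancel, uMat_zero, act_one] at h2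
            rw [← h2, neg_sub]
          rw [e]; exact K'.neg_mem (hb k hk) }
    refine mem_of_units_sq (P := P) (fun t k hk => ?_) b
    rw [hsqf t k hk]
    have h1 : hMat t * (wMat : SL(2, F)) = wMat * hMat t⁻¹ := by
      conv_rhs => rw [← wMat_hMat t, mul_assoc, ← hMat_inv, mul_inv_cancel, mul_one]
    refine ⟨σ (hMat t⁻¹) (σ (hMat t⁻¹) k), hKh _ _ (hKh _ _ hk), ?_⟩
    show σ wMat (σ (hMat t⁻¹) (σ (hMat t⁻¹) k)) = σ (hMat t) (σ wMat (σ (hMat t)⁻¹ k))
    rw [← act_mul σ (hMat t) wMat, h1, act_mul, hMat_inv]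
  -- `K + w K` is stable
  have hw2K : ∀ k ∈ K, σ wMat (σ wMat k) ∈ K := by
    intro k hk
    refine ⟨hw01 _ (hw10 k hk.1), fun b => ?_⟩
    rw [← act_mul σ wMat wMat, ← act_mul, ← wMat_sq_comm, act_mul, ← map_sub]
    intro b'
    rw [← act_mul, ← wMat_sq_comm, act_mul, hk.2 b b']
  have hY : ∀ g, ∀ a ∈ K' ⊔ K, σ g a ∈ K' ⊔ K := by
    refine stable_of_generators σ (fun b a ha => ?_) (fun a ha => ?_)
    · obtain ⟨x, hx, y, hy, rfl⟩ := AddSubgroup.mem_sup.1 ha
      rw [map_add, hK'0 x hx b, show σ (uMat b) y = (σ (uMat b) y - y) + y by abel, ← add_assoc]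
      exact AddSubgroup.add_mem _ (AddSubgroup.mem_sup_left (K'.add_mem hx (hK'b b y hy)))
        (AddSubgroup.mem_sup_right hy)
    · obtain ⟨x, ⟨k, hk, rfl⟩, y, hy, rfl⟩ := AddSubgroup.mem_sup.1 ha
      rw [map_add, add_comm]
      exact AddSubgroup.add_mem _ (AddSubgroup.mem_sup_left ⟨y, hy, rfl⟩)
        (AddSubgroup.mem_sup_right (hw2K k hk))
  have hYtop : K' ⊔ K = ⊤ := (hirr _ hY).resolve_left fun h => hK1 (le_bot_iff.1 (h ▸ le_sup_right))
  have hA1K : ∀ a ∈ A₁, a ∈ K := by
    intro a ha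
    obtain ⟨x, hx, y, hy, hxy⟩ := AddSubgroup.mem_sup.1 (hYtop ▸ AddSubgroup.mem_top a)
    have := huniq x (hK'0 x hx) y hy.1 0 A₀.zero_mem a ha (by rw [hxy, zero_add])
    rw [← this.2]; exact hy
  -- the field action on `A₀`
  set wi := σ (wMat : SL(2, F))⁻¹ with hwi
  have hwiK : ∀ a ∈ A₀, wi a ∈ K := by
    intro a ha
    rw [hwi, hinv]
    exact hA1K _ (hw01 _ (hw10 _ (hw01 a ha)))
  let E : F → A → A := fun b a => σ (uMat b) (wi a) - wi a
  have hEmem : ∀ b, ∀ a ∈ A₀, E b a ∈ A₀ := fun b a ha => (hwiK a ha).2 b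
  have hEaddl : ∀ b c, ∀ a ∈ A₀, E (b + c) a = E b a + E c a := by
    intro b c a ha
    have h2 := (hwiK a ha).2 c b
    rw [map_sub] at h2
    show σ (uMat (b + c)) (wi a) - wi a = _
    rw [uMat_add, act_mul, ← sub_add_cancel (σ (uMat b) (σ (uMat c) (wi a))) (σ (uMat b) (wi a)), h2]
    simp only [E]
    abel
  have hEaddr : ∀ b a a', E b (a + a') = E b a + E b a' := by
    intro b a a'
    simp only [E, map_add]
    abel
  have hE0 : ∀ a ∈ A₀, E 0 a = 0 := fun a ha => by simp only [E, uMat_zero, act_one, sub_self]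
  have hEneg : ∀ b, ∀ a ∈ A₀, E (-b) a = -E b a := fun b a ha => by
    rw [eq_neg_iff_add_eq_zero, ← hEaddl _ _ a ha, neg_add_cancel, hE0 a ha]
  have hEzero : ∀ b, E b 0 = 0 := fun b => by simp only [E, map_zero, sub_self]
  have hEnegr : ∀ b a, E b (-a) = -E b a := fun b a => by
    rw [eq_neg_iff_add_eq_zero, ← hEaddr, neg_add_cancel, hEzero]
  have hE1 : ∀ a ∈ A₀, E 1 a = a := fun a ha => by
    show σ (uMat 1) (wi a) - wi a = a
    rw [h11 _ (hwiK a ha)]
    exact act_inv' σ wMat a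
  have hEsq : ∀ (t : Fˣ), ∀ a ∈ A₀, E ((t : F) ^ 2) a = σ (hMat t) (σ (hMat t) a) := by
    intro t a ha
    show σ (uMat ((t : F) ^ 2)) (wi a) - wi a = _
    rw [hsqf t _ (hwiK a ha), hwi, ← act_mul, ← act_mul, ← act_mul, ← act_mul]
    congr 1
    have h1 : hMat t * (wMat : SL(2, F)) = wMat * (hMat t)⁻¹ := by
      conv_rhs => rw [← wMat_hMat t, mul_assoc, mul_inv_cancel, mul_one]
    have h2 : (wMat : SL(2, F)) * (hMat t)⁻¹ * wMat⁻¹ = hMat t := by
      rw [← h1, mul_inv_cancel_right]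
    conv_rhs => rw [← h2]
    rw [← mul_assoc, ← mul_assoc, h2]
  have hh0 : ∀ t, ∀ a ∈ A₀, σ (hMat t) a ∈ A₀ := by
    intro t a ha b
    have e : uMat b * hMat t = hMat t * uMat (((↑t⁻¹ : F)) ^ 2 * b) := by
      rw [hMat_conj, ← mul_assoc, ← mul_pow, Units.mul_inv, one_pow, one_mul]
    rw [← act_mul, e, act_mul, ha]
  have hEsqm : ∀ (s t : Fˣ), ∀ a ∈ A₀,
      E ((s : F) ^ 2 * (t : F) ^ 2) a = E ((s : F) ^ 2) (E ((t : F) ^ 2) a) := by
    intro s t a ha
    rw [← mul_pow, ← Units.val_mul, hEsq _ a ha, hEsq _ a ha, hEsq _ _ (hh0 _ _ (hh0 _ _ ha)),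
      ← act_mul, ← act_mul, ← act_mul, ← act_mul]
    congr 2
    rw [hMat_mul, hMat_mul, hMat_mul, hMat_mul]
    congr 1
    simp [mul_assoc, mul_left_comm]
  have hEmul : ∀ b c, ∀ a ∈ A₀, E (b * c) a = E b (E c a) := by
    intro b
    let P : AddSubgroup F :=
      { carrier := {b | ∀ c, ∀ a ∈ A₀, E (b * c) a = E b (E c a)}
        zero_mem' := fun c a ha => by rw [zero_mul, hE0 a ha, hE0 _ (hEmem c a ha)]
        add_mem' := fun {x y} hx hy c a ha => by
          rw [add_mul, hEaddl _ _ a ha, hx c a ha, hy c a ha, hEaddl _ _ _ (hEmem c a ha)]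
        neg_mem' := fun {x} hx c a ha => by
          rw [neg_mul, hEneg _ a ha, hx c a ha, hEneg _ _ (hEmem c a ha)] }
    refine mem_of_units_sq (P := P) (fun s => ?_) b
    intro c
    let P' : AddSubgroup F :=
      { carrier := {c | ∀ a ∈ A₀, E ((s : F) ^ 2 * c) a = E ((s : F) ^ 2) (E c a)}
        zero_mem' := fun a ha => by rw [mul_zero, hE0 a ha, hEzero]
        add_mem' := fun {x y} hx hy a ha => by
          rw [mul_add, hEaddl _ _ a ha, hx a ha, hy a ha, hEaddl _ _ a ha, hEaddr]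
        neg_mem' := fun {x} hx a ha => by
          rw [mul_neg, hEneg _ a ha, hx a ha, hEneg _ a ha, hEnegr] }
    exact mem_of_units_sq (P := P') (fun t => hEsqm s t) c
  -- the central involution acts as `-1`
  obtain ⟨v, hv, hv0⟩ : ∃ v ∈ A₀, v ≠ 0 := by
    obtain ⟨k, hk, hk0⟩ := AddSubgroup.bot_or_exists_ne_zero K |>.resolve_left hK1
    exact ⟨σ wMat k, hw10 k hk.1, fun h => hk0 (by rw [← act_inv σ wMat k, h, map_zero])⟩
  have hscal : (∀ a, σ wMat (σ wMat a) = a) ∨ (∀ a, σ wMat (σ wMat a) = -a) := by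
    let W : AddSubgroup A :=
      { carrier := {a | σ wMat (σ wMat a) = -a}
        zero_mem' := by simp
        add_mem' := fun {x y} (hx : σ wMat (σ wMat x) = -x) (hy : σ wMat (σ wMat y) = -y) => by
          show σ wMat (σ wMat (x + y)) = -(x + y)
          rw [map_add, map_add, hx, hy, neg_add]
        neg_mem' := fun {x} (hx : σ wMat (σ wMat x) = -x) => by
          show σ wMat (σ wMat (-x)) = - -x
          rw [map_neg, map_neg, hx] }
    rcases hirr W (fun g a ha => by
        show σ wMat (σ wMat (σ g a)) = -(σ g a)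
        rw [← act_mul, ← act_mul, wMat_sq_comm, act_mul, act_mul, ha, map_neg]) with hW | hW
    · left
      intro a
      have : σ wMat (σ wMat a) - a ∈ W := by
        show σ wMat (σ wMat (σ wMat (σ wMat a) - a)) = -(σ wMat (σ wMat a) - a)
        rw [map_sub, map_sub, ← act_mul σ wMat wMat, ← act_mul, ← act_mul, mul_assoc (wMat * wMat), wMat_four, act_one]
        abel
      rw [hW, AddSubgroup.mem_bot, sub_eq_zero] at this
      exact this
    · exact Or.inr fun a => (hW.symm ▸ AddSubgroup.mem_top a : a ∈ W)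
  have hneg : ∀ a, σ wMat (σ wMat a) = -a := by
    rcases hscal with h | h
    · -- then twice `v` vanishes
      set k := wi v with hk
      have hkK := hwiK v hv
      have hwk : σ wMat k = v := act_inv' σ wMat v
      have hwv : σ wMat v = k := by rw [← hwk, h k]
      have hu1 : σ (uMat 1) k = k + v := by
        have := h11 k hkK
        rw [hwk] at this
        rw [← this, add_sub_cancel]
      have hlv : σ (lMat (-1)) v = v + k := by
        have e : lMat (-1 : F) * wMat = wMat * uMat 1 := by rw [wMat_conj]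
        calc σ (lMat (-1)) v = σ (lMat (-1) * wMat) k := by rw [act_mul, hwk]
          _ = σ wMat (σ (uMat 1) k) := by rw [e, act_mul]
          _ = v + k := by rw [hu1, map_add, hwk, hwv]
      have h1 : v = (k + v) + v + (k + v) := by
        calc v = σ (uMat 1 * lMat (-1) * uMat 1) k := by rw [wMat_eq, hwk]
          _ = σ (uMat 1) (k + (v + k)) := by rw [act_mul, act_mul, hu1, map_add, hkK.1, hlv]
          _ = (k + v) + v + (k + v) := by rw [map_add, map_add, hu1, hv 1, ← add_assoc]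
      have h2 : (v + v) + (k + k) = 0 + 0 := by
        rw [add_zero, ← sub_eq_zero.2 h1.symm]
        abel
      have hvv := (huniq _ (A₀.add_mem hv hv) _ (A₁.add_mem hkK.1 hkK.1) 0 A₀.zero_mem 0
        A₁.zero_mem h2).1
      let W : AddSubgroup A :=
        { carrier := {a | a + a = 0}
          zero_mem' := by simp
          add_mem' := fun {x y} (hx : x + x = 0) (hy : y + y = 0) => by
            show x + y + (x + y) = 0
            rw [add_add_add_comm, hx, hy, add_zero]
          neg_mem' := fun {x} (hx : x + x = 0) => by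
            show -x + -x = 0
            rw [← neg_add, hx, neg_zero] }
      rcases hirr W (fun g a (ha : a + a = 0) => by
          show σ g a + σ g a = 0
          rw [← map_add, ha, map_zero]) with hW | hW
      · exact absurd (AddSubgroup.mem_bot.1 (hW ▸ (hvv : v ∈ W))) hv0
      · intro a
        rw [h a, eq_neg_iff_add_eq_zero]
        exact (hW.symm ▸ AddSubgroup.mem_top a : a ∈ W)
    · exact h
  have hwwi : ∀ a, σ wMat (wi a) = a := fun a => act_inv' σ wMat a
  have hwE : ∀ a, σ wMat a = - wi a := fun a => by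
    conv_rhs => rw [← hneg (wi a)]
    rw [hwwi]
  -- the coordinate map
  let Φ : (Fin 2 → F) →+ A :=
    { toFun := fun f => E (f 0) v + wi (E (f 1) v)
      map_zero' := by simp [hE0 v hv]
      map_add' := fun f f' => by
        simp only [Pi.add_apply, hEaddl _ _ v hv, map_add]
        abel }
  have hΦ : ∀ x y, Φ ![x, y] = E x v + wi (E y v) := fun x y => rfl
  have hΦu : ∀ b f, σ (uMat b) (Φ f)
      = Φ (((uMat b : SL(2, F)) : Matrix (Fin 2) (Fin 2) F).mulVec f) := by
    intro b f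
    obtain ⟨x, y, rfl⟩ : ∃ x y, f = ![x, y] := ⟨f 0, f 1, by ext i; fin_cases i <;> rfl⟩
    rw [uMat_mulVec, hΦ, hΦ, map_add, hEmem x v hv b, hEaddl _ _ v hv, hEmul _ _ v hv]
    simp only [E]
    abel
  have hΦw : ∀ f, σ wMat (Φ f)
      = Φ (((wMat : SL(2, F)) : Matrix (Fin 2) (Fin 2) F).mulVec f) := by
    intro f
    obtain ⟨x, y, rfl⟩ : ∃ x y, f = ![x, y] := ⟨f 0, f 1, by ext i; fin_cases i <;> rfl⟩
    rw [wMat_mulVec, hΦ, hΦ, map_add, hwwi, hwE, hEneg _ v hv, map_neg, add_comm]
  have hΦinj : ∀ f, Φ f = 0 → f = 0 := by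
    intro f hf
    obtain ⟨x, y, rfl⟩ : ∃ x y, f = ![x, y] := ⟨f 0, f 1, by ext i; fin_cases i <;> rfl⟩
    obtain ⟨h1, h2⟩ := huniq _ (hEmem x v hv) _ (hwiK _ (hEmem y v hv)).1 0 A₀.zero_mem 0
      A₁.zero_mem (by rw [add_zero]; exact (hΦ x y).symm.trans hf)
    have key : ∀ z, E z v = 0 → z = 0 := by
      intro z hz
      by_contra hz0
      apply hv0
      rw [← hE1 v hv, ← inv_mul_cancel₀ hz0, hEmul _ _ v hv, hz, hEzero]
    have h2' : E y v = 0 := by rw [← act_inv' σ wMat (E y v)]; rw [hwi] at h2; rw [h2, map_zero]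
    rw [key x h1, key y h2']
    ext i; fin_cases i <;> rfl
  have hΦsurj : Function.Surjective Φ := by
    have hst : ∀ g, ∀ a ∈ Φ.range, σ g a ∈ Φ.range :=
      stable_of_generators σ (fun b a ⟨f, hf⟩ => ⟨_, (hΦu b f).symm.trans (congrArg _ hf)⟩)
        (fun a ⟨f, hf⟩ => ⟨_, (hΦw f).symm.trans (congrArg _ hf)⟩)
    rcases hirr _ hst with h | h
    · refine absurd ?_ hv0
      have : Φ ![1, 0] ∈ Φ.range := ⟨_, rfl⟩
      rw [h, AddSubgroup.mem_bot, hΦ, hE0 v hv, map_zero, add_zero, hE1 v hv] at this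
      exact this
    · exact AddMonoidHom.range_eq_top.1 h
  let ψ' : (Fin 2 → F) ≃+ A := AddEquiv.ofBijective Φ
    ⟨(injective_iff_map_eq_zero Φ).2 hΦinj, hΦsurj⟩
  refine ⟨ψ'.symm, ?_⟩
  have hall : ∀ g f, σ g (Φ f) = Φ ((g : Matrix (Fin 2) (Fin 2) F).mulVec f) := by
    let H : Subgroup SL(2, F) :=
      { carrier := {g | ∀ f, σ g (Φ f) = Φ ((g : Matrix (Fin 2) (Fin 2) F).mulVec f)}
        one_mem' := fun f => by rw [act_one]; simp
        mul_mem' := fun {g h} hg hh f => by
          rw [act_mul, hh, hg, Matrix.mulVec_mulVec, Matrix.SpecialLinearGroup.coe_mul]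
        inv_mem' := fun {g} hg f => by
          have := hg (((g⁻¹ : SL(2, F)) : Matrix (Fin 2) (Fin 2) F).mulVec f)
          rw [Matrix.mulVec_mulVec, ← Matrix.SpecialLinearGroup.coe_mul, mul_inv_cancel,
            Matrix.SpecialLinearGroup.coe_one, Matrix.one_mulVec] at this
          conv_lhs => rw [← this]
          exact act_inv σ g _ }
    intro g
    exact (eq_top_of_uMat_wMat (H := H) hΦu hΦw ▸ Subgroup.mem_top g : g ∈ H)
  intro g a
  obtain ⟨f, rfl⟩ := ψ'.surjective a
  rw [ψ'.symm_apply_apply]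
  apply ψ'.injective
  rw [ψ'.apply_symm_apply]
  exact hall g f

end Cfsg.Agent.LAE65.Natural
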