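import Mathlib
import Cfsg.Prelude.Def_BaumannBlocks
import Cfsg.Agent.LAE65.NaturalModule

/-!
Irreducibility of the modules occurring in Baumann blocks: the natural module of `SL₂(F)'` and the
even-weight module of an alternating group of odd degree.
-/

set_option autoImplicit false
set_option linter.style.haveILetI false
set_option linter.unusedSimpArgs false

open Matrix
open scoped MatrixGroups commutatorElement
open Cfsg.Agent.LAE65.Natural

namespace Cfsg.Agent.LAE65.Block

theorem sl2_derived_span {F : Type*} [Field F] [Fintype F] (U : AddSubgroup (Fin 2 → F))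
    {v : Fin 2 → F} (hv : v ∈ U) (hv0 : v ≠ 0)
    (hU : ∀ g ∈ commutator (Matrix.SpecialLinearGroup (Fin 2) F), ∀ w ∈ U,
      (g : Matrix (Fin 2) (Fin 2) F).mulVec w ∈ U) : U = ⊤ := by
  have hui : ∀ b : F, (uMat b)⁻¹ = uMat (-b) := fun b => by
    rw [inv_eq_iff_mul_eq_one, ← uMat_add, add_neg_cancel, uMat_zero]
  have hli : ∀ b : F, (lMat b)⁻¹ = lMat (-b) := fun b => by
    rw [inv_eq_iff_mul_eq_one, ← lMat_add, add_neg_cancel, lMat_zero]
  have hcom : ∀ g h : SL(2, F), ⁅g, h⁆ ∈ commutator SL(2, F) := fun g h =>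
    Subgroup.commutator_mem_commutator (Subgroup.mem_top g) (Subgroup.mem_top h)
  rw [eq_top_iff]
  by_cases ht : ∃ t : Fˣ, (t : F) ^ 2 ≠ 1
  · obtain ⟨t, ht⟩ := ht
    have hd : ∀ b, uMat (((t : F) ^ 2 - 1) * b) * uMat b * hMat t = hMat t * uMat b := fun b => by
      rw [hMat_conj, ← uMat_add]
      congr 2
      ring
    have hd' : ∀ b, lMat (((↑t⁻¹ : F) ^ 2 - 1) * b) * lMat b * hMat t = hMat t * lMat b := fun b => by
      rw [← lMat_add, ← hMat_conj_lMat t (((↑t⁻¹ : F) ^ 2 - 1) * b + b) ]
      congr 2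
      have : (t : F) ^ 2 * (↑t⁻¹ : F) ^ 2 = 1 := by simp [← mul_pow]
      linear_combination b * this
    have ht' : (↑t⁻¹ : F) ^ 2 - 1 ≠ 0 := by
      intro h
      apply ht
      rw [sub_eq_zero] at h
      have := congrArg (fun z => (t : F) ^ 2 * z) h
      simpa [← mul_pow] using this.symm
    have hu : ∀ b, uMat b ∈ commutator SL(2, F) := fun b => by
      set c := b / ((t : F) ^ 2 - 1) with hc
      have hb : ((t : F) ^ 2 - 1) * c = b := by rw [hc]; field_simp [sub_ne_zero.2 ht]
      have := hcom (hMat t) (uMat c)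
      rw [commutatorElement_def, ← hd c, hb] at this
      simpa [mul_assoc] using this
    have hl : ∀ b, lMat b ∈ commutator SL(2, F) := fun b => by
      set c := b / ((↑t⁻¹ : F) ^ 2 - 1) with hc
      have hb : ((↑t⁻¹ : F) ^ 2 - 1) * c = b := by rw [hc]; field_simp [ht']
      have := hcom (hMat t) (lMat c)
      rw [commutatorElement_def, ← hd' c, hb] at this
      simpa [mul_assoc] using this
    have h1 : ∀ w ∈ U, ∀ z, ![z * w 1, 0] ∈ U := fun w hw z => by
      convert U.sub_mem (hU _ (hu z) w hw) hw using 1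
      ext i
      fin_cases i <;> simp [uMat_coe, Matrix.mulVec, dotProduct, Fin.sum_univ_two]
    have h2 : ∀ w ∈ U, ∀ z, ![0, z * w 0] ∈ U := fun w hw z => by
      convert U.sub_mem (hU _ (hl z) w hw) hw using 1
      ext i
      fin_cases i <;> simp [lMat_coe, Matrix.mulVec, dotProduct, Fin.sum_univ_two]
    obtain ⟨w, hw, hw1⟩ : ∃ w ∈ U, w 1 ≠ 0 := by
      by_cases h : v 1 = 0
      · have hx : v 0 ≠ 0 := fun h' => hv0 (by ext i; fin_cases i <;> simp [h, h'])
        exact ⟨_, h2 v hv 1, by simpa using hx⟩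
      · exact ⟨v, hv, h⟩
    intro z _
    have ha : ∀ a, ![a, 0] ∈ U := fun a => by
      have := h1 w hw (a / w 1)
      rwa [div_mul_cancel₀ a hw1] at this
    have hb := h2 _ (ha 1) (z 1)
    convert U.add_mem (ha (z 0)) hb using 1
    ext i
    fin_cases i <;> simp
  · push Not at ht
    have hsmall : ∀ a : F, a = 0 ∨ a = 1 ∨ a = -1 := fun a => by
      by_cases ha : a = 0
      · exact Or.inl ha
      · exact Or.inr (sq_eq_one_iff.1 (ht (Units.mk0 a ha)))
    have hsm : ∀ (a : F), ∀ w ∈ U, a • w ∈ U := fun a w hw => by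
      rcases hsmall a with rfl | rfl | rfl
      · simp [U.zero_mem]
      · simpa using hw
      · simpa using U.neg_mem hw
    have hfive : (3 : F) = 0 ∨ (2 : F) = 0 := by
      rcases hsmall 2 with h | h | h
      · exact Or.inr h
      · exact absurd (by linear_combination h : (1 : F) = 0) one_ne_zero
      · exact Or.inl (by linear_combination h)
    have hne : v 0 ^ 2 - 3 * v 0 * v 1 + v 1 ^ 2 ≠ 0 := by
      have h5 : (5 : F) ≠ 0 := fun h => by
        rcases hfive with h' | h'
        · exact one_ne_zero (by linear_combination 2 * h' - h : (1 : F) = 0)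
        · exact one_ne_zero (by linear_combination h - 2 * h' : (1 : F) = 0)
      rcases hsmall (v 0) with ha | ha | ha <;> rcases hsmall (v 1) with hb | hb | hb <;>
        rw [ha, hb] <;> try norm_num
      · exact hv0 (by ext i; fin_cases i <;> simp [ha, hb])
      all_goals exact h5
    set D := v 0 ^ 2 - 3 * v 0 * v 1 + v 1 ^ 2 with hD
    have hg : ![3 * v 0 - v 1, v 0] ∈ U := by
      convert hU _ (hcom (uMat 1) (lMat 1)) v hv using 1
      rw [commutatorElement_def, hui, hli]
      ext i
      fin_cases i <;>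
        simp [uMat_coe, lMat_coe, Matrix.mulVec, dotProduct, Matrix.mul_apply, Fin.sum_univ_two] <;> ring
    intro z _
    convert U.add_mem (hsm ((z 0 * v 0 - z 1 * (3 * v 0 - v 1)) / D) v hv)
      (hsm ((z 1 * v 0 - z 0 * v 1) / D) _ hg) using 1
    ext i
    fin_cases i <;> simp <;> field_simp <;> rw [hD] <;> ring

theorem even_weight_span {m : ℕ} (U : AddSubgroup (Fin (2 * m + 1) → ZMod 2))
    {v : Fin (2 * m + 1) → ZMod 2} (hv : v ∈ U) (hv0 : v ≠ 0) (hsum : ∑ i, v i = 0)
    (hU : ∀ σ ∈ alternatingGroup (Fin (2 * m + 1)), ∀ w ∈ U, (fun i => w (σ⁻¹ i)) ∈ U)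
    (w : Fin (2 * m + 1) → ZMod 2) (hw : ∑ i, w i = 0) : w ∈ U := by
  classical
  have h2 : ∀ a : ZMod 2, a = 0 ∨ a = 1 := by decide
  have hcyc : ∀ i j k : Fin (2 * m + 1), i ≠ j → j ≠ k →
      Equiv.swap i j * Equiv.swap j k ∈ alternatingGroup (Fin (2 * m + 1)) := fun i j k hij hjk => by
    rw [Equiv.Perm.mem_alternatingGroup, map_mul, Equiv.Perm.sign_swap hij,
      Equiv.Perm.sign_swap hjk]
    decide
  obtain ⟨i, hi⟩ : ∃ i, v i = 1 := by
    by_contra h
    push Not at h
    exact hv0 (funext fun i => (h2 (v i)).resolve_right (h i))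
  obtain ⟨j, hj⟩ : ∃ j, v j = 0 := by
    by_contra h
    push Not at h
    have h1 : ∀ j, v j = 1 := fun j => (h2 (v j)).resolve_left (h j)
    simp only [h1, Finset.sum_const, Finset.card_univ, Fintype.card_fin, nsmul_eq_mul, mul_one] at hsum
    rw [ZMod.natCast_eq_zero_iff_even] at hsum
    exact Nat.not_even_two_mul_add_one m hsum
  have hij : i ≠ j := fun h => by rw [h, hj] at hi; exact zero_ne_one hi
  let e : Fin (2 * m + 1) → Fin (2 * m + 1) → (Fin (2 * m + 1) → ZMod 2) := fun a b =>
    Pi.single a 1 + Pi.single b 1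
  have hcard : 3 ≤ Fintype.card (Fin (2 * m + 1)) := by
    have := Fintype.one_lt_card_iff.2 ⟨i, j, hij⟩
    simp only [Fintype.card_fin] at this ⊢
    omega
  obtain ⟨k, hki, hkj⟩ : ∃ k, k ≠ i ∧ k ≠ j := by
    by_contra h
    push Not at h
    have hsub : (Finset.univ : Finset (Fin (2 * m + 1))) ⊆ {i, j} := fun k _ => by
      by_cases hk : k = i
      · simp [hk]
      · simp [h k hk]
    have := (Finset.card_le_card hsub).trans Finset.card_le_two
    rw [Finset.card_univ] at this
    omega
  -- a vector of weight two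
  obtain ⟨a, b, hab, habU⟩ : ∃ a b, a ≠ b ∧ e a b ∈ U := by
    set σ := Equiv.swap i j * Equiv.swap j k with hσ
    have hsU := U.add_mem hv (hU σ (hcyc i j k hij hkj.symm) v hv)
    have hsi : σ.symm i = k := by
      rw [Equiv.symm_apply_eq]; simp [hσ, Equiv.swap_apply_of_ne_of_ne hki hkj, Equiv.swap_apply_left, Equiv.swap_apply_right]
    have hsj : σ.symm j = i := by
      rw [Equiv.symm_apply_eq]; simp [hσ, Equiv.swap_apply_of_ne_of_ne hij hki.symm, Equiv.swap_apply_left, Equiv.swap_apply_right]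
    have hsk : σ.symm k = j := by
      rw [Equiv.symm_apply_eq]; simp [hσ, Equiv.swap_apply_of_ne_of_ne hki hkj, Equiv.swap_apply_left, Equiv.swap_apply_right]
    have hs : ∀ l, l ≠ i → l ≠ j → l ≠ k → σ.symm l = l := fun l h1 h2 h3 => by
      rw [Equiv.symm_apply_eq]; simp [hσ, Equiv.swap_apply_of_ne_of_ne h1 h2, Equiv.swap_apply_of_ne_of_ne h2 h3]
    rcases h2 (v k) with hk | hk
    · refine ⟨i, j, hij, ?_⟩
      convert hsU using 1
      funext l
      by_cases l1 : l = i
      · subst l1; simp [e, hsi, hi, hk, hij]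
      by_cases l2 : l = j
      · subst l2; simp [e, hsj, hi, hj, l1]
      by_cases l3 : l = k
      · subst l3; simp [e, hsk, hk, hj, l1, l2]
      simp [e, hs l l1 l2 l3, l1, l2, CharTwo.add_self_eq_zero]
    · refine ⟨j, k, hkj.symm, ?_⟩
      convert hsU using 1
      funext l
      by_cases l1 : l = i
      · subst l1; simp [e, hsi, hi, hk, hij, hki.symm, CharTwo.add_self_eq_zero]
      by_cases l2 : l = j
      · subst l2; simp [e, hsj, hi, hj, hkj.symm]
      by_cases l3 : l = k
      · subst l3; simp [e, hsk, hk, hj, l2]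
      simp [e, hs l l1 l2 l3, l2, l3, CharTwo.add_self_eq_zero]
  have htrans : ∀ a b c, e a b ∈ U → e b c ∈ U → e a c ∈ U := fun a b c h h' => by
    convert U.add_mem h h' using 1
    funext l
    simp only [e, Pi.add_apply]
    linear_combination -(CharTwo.add_self_eq_zero ((Pi.single b (1 : ZMod 2) : Fin (2 * m + 1) → ZMod 2) l))
  have hsymm : ∀ a b, e a b ∈ U → e b a ∈ U := fun a b h => by
    have hc : e b a = e a b := add_comm _ _
    rwa [hc]
  have hstep : ∀ k, k ≠ a → k ≠ b → e b k ∈ U := fun k hka hkb => by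
    convert hU _ (hcyc a b k hab hkb.symm) _ habU using 1
    have hinv : (Equiv.swap a b * Equiv.swap b k)⁻¹ = Equiv.swap b k * Equiv.swap a b := by
      simp
    rw [hinv]
    funext l
    simp only [e, Pi.add_apply, Equiv.Perm.mul_apply]
    by_cases l1 : l = a
    · subst l1
      simp [Equiv.swap_apply_left, hab, hka.symm, hka, hkb]
    by_cases l2 : l = b
    · subst l2
      simp [Equiv.swap_apply_right, Equiv.swap_apply_of_ne_of_ne hab hka.symm, hab, hkb.symm]
    by_cases l3 : l = k
    · subst l3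
      simp [Equiv.swap_apply_of_ne_of_ne l1 l2, Equiv.swap_apply_right, hab.symm, l2]
    simp [Equiv.swap_apply_of_ne_of_ne l1 l2, Equiv.swap_apply_of_ne_of_ne l2 l3, l1, l2, l3]
  have hall : ∀ k, e k b ∈ U := fun k => by
    by_cases hkb : k = b
    · have hz : e k b = 0 := funext fun l => by
        rw [hkb]
        exact CharTwo.add_self_eq_zero _
      rw [hz]; exact U.zero_mem
    by_cases hka : k = a
    · rw [hka]; exact habU
    · exact hsymm _ _ (hstep k hka hkb)
  have hwe : w = ∑ l, (if w l = 1 then e l b else 0) := by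
    have hsingle : ∀ l, (if w l = 1 then e l b else 0) = Pi.single l (w l) + Pi.single b (w l) :=
      fun l => by rcases h2 (w l) with h | h <;> simp [h, e]
    simp only [hsingle, Finset.sum_add_distrib, Finset.univ_sum_single]
    have hb0 : ∑ l, (Pi.single b (w l) : Fin (2 * m + 1) → ZMod 2) = 0 := by
      funext x
      rw [Finset.sum_apply]
      by_cases hx : x = b
      · subst hx; simpa using hw
      · simp [hx]
    rw [hb0, add_zero]
  rw [hwe]
  refine U.sum_mem fun l _ => ?_
  split_ifs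
  · exact hall l
  · exact U.zero_mem

end Cfsg.Agent.LAE65.Block
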