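import Cfsg.Prelude.Def_BaumannBlocks
import Cfsg.Agent.LAE65.BlockIrred
import Cfsg.Agent.LocalEven64.CharP
import Cfsg.Agent.LocalEven64.JBasic
import Cfsg.Agent.LargeSub.Basic
import Cfsg.Agent.LocalEven62.Basic
import Cfsg.Agent.LAE65.Basic
import Cfsg.Agent.Lib.Thompson.JSubgroup
import Cfsg.Agent.Lib.Transfer.Residual

/-!
Elementary properties of blocks relative to the Baumann subgroup of a Sylow subgroup.
-/

set_option autoImplicit false
set_option linter.style.haveILetI false

open Subgroup Cfsg
open scoped commutatorElement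

namespace Cfsg.Agent.LAE65.Block

variable {G : Type*} [Group G] {p : ℕ}

theorem le_normalizer_of_commutator_eq {E B : Subgroup G} (h : ⁅E, B⁆ = E) :
    B ≤ normalizer (E : Set G) :=
  le_normalizer_iff_commutator_le_left.2 h.le

theorem mem_of_coprime_mem_sup [Finite G] {E M : Subgroup G} (hM : IsPGroup p M)
    (hME : M ≤ normalizer (E : Set G)) {x : G} (hx : x ∈ E ⊔ M)
    (hxp : (orderOf x).Coprime p) : x ∈ E := by
  have hN : E ⊔ M ≤ normalizer (E : Set G) := sup_le le_normalizer hME
  set N := normalizer (E : Set G) with hNdef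
  haveI : (E.subgroupOf N).Normal := normal_in_normalizer
  let f := QuotientGroup.mk' (E.subgroupOf N)
  let y : N := ⟨x, hN hx⟩
  have hy : f y ∈ (M.subgroupOf N).map f := by
    have : y ∈ E.subgroupOf N ⊔ M.subgroupOf N := by
      rw [← subgroupOf_sup le_normalizer hME]; exact hx
    obtain ⟨e, he, m, hm, hem⟩ := Subgroup.mem_sup_of_normal_left.1 this
    refine ⟨m, hm, ?_⟩
    rw [← hem, map_mul, show f e = 1 from (QuotientGroup.eq_one_iff e).2 he, one_mul]
  have hyp : (orderOf (f y)).Coprime p := by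
    refine hxp.coprime_dvd_left ((orderOf_map_dvd f y).trans ?_)
    rw [← Subgroup.orderOf_coe]
  have := Transfer.eq_one_of_coprime_of_mem ((hM.comap_subtype).map f) hy hyp
  exact (QuotientGroup.eq_one_iff y).1 this

/-- If every element of `E` of order prime to `p` lies in `H`, so does `O^p(E) = E`. -/
theorem le_of_coprime {E H : Subgroup G} (hE : pResidualOf p E = E)
    (h : ∀ x ∈ E, (orderOf x).Coprime p → x ∈ H) : E ≤ H := by
  rw [← hE, pResidualOf, map_le_iff_le_comap, Transfer.pResidual_le_iff]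
  exact fun g hg => h g g.2 (by rwa [Subgroup.orderOf_coe])

/-- A `p`-group `Q` normalised by `B` and `E` and normalising `B` normalises `E = O^p(E) = [E, B]`. -/
theorem le_normalizer_of_block [Finite G] {E B Q : Subgroup G} (hE : pResidualOf p E = E)
    (hEB : ⁅E, B⁆ = E) (hQ : IsPGroup p Q) (hQB : Q ≤ normalizer (B : Set G))
    (hBQ : B ≤ normalizer (Q : Set G)) (hEQ : E ≤ normalizer (Q : Set G)) :
    Q ≤ normalizer (E : Set G) := by
  set M := B ⊓ Q with hM
  have hME : M ≤ normalizer (E : Set G) := inf_le_left.trans (le_normalizer_of_commutator_eq hEB)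
  have hN : E ⊔ M ≤ normalizer (E : Set G) := sup_le le_normalizer hME
  intro q hq
  refine LocalEven62.mem_normalizer_of_conj_mem fun x hx => ?_
  have key : E.map (MulAut.conj q).toMonoidHom ≤ E ⊔ M := by
    have hB : B.map (MulAut.conj q).toMonoidHom = B :=
      mem_normalizer_iff_map.1 (hQB hq)
    rw [← hEB, map_commutator, hB, hEB, commutator_le]
    rintro _ ⟨e, he, rfl⟩ b hb
    show ⁅q * e * q⁻¹, b⁆ ∈ E ⊔ M
    have h1 : q * e * q⁻¹ = e * (e⁻¹ * q * e * q⁻¹) := by group
    have h2 : e⁻¹ * q * e * q⁻¹ ∈ Q := Q.mul_mem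
      (by simpa using (mem_normalizer_iff.1 (hEQ (E.inv_mem he)) q).1 hq) (Q.inv_mem hq)
    rw [h1]
    generalize e⁻¹ * q * e * q⁻¹ = r at h2 ⊢
    have h3 : ⁅e * r, b⁆ = e * ⁅r, b⁆ * e⁻¹ * ⁅e, b⁆ := by
      simp only [commutatorElement_def]; group
    rw [h3]
    have h4 : ⁅r, b⁆ ∈ M := ⟨commutator_le_right_of hQB h2 hb,
      commutator_le_left_of hBQ h2 hb⟩
    exact mul_mem (mul_mem (mul_mem (mem_sup_left he) (mem_sup_right h4))
      (mem_sup_left (E.inv_mem he))) (mem_sup_left (hEB ▸ commutator_mem_commutator he hb))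
  have hle : E ≤ E.comap (MulAut.conj q).toMonoidHom := by
    refine le_of_coprime hE fun y hy hyp => ?_
    refine mem_of_coprime_mem_sup (hQ.to_le inf_le_right) hME (key ⟨y, hy, rfl⟩) ?_
    show (orderOf (MulAut.conj q y)).Coprime p
    rwa [MulEquiv.orderOf_eq]
  exact hle hx
where
  commutator_le_right_of {B Q : Subgroup G} {r b : G} (h : Q ≤ normalizer (B : Set G))
      (hr : r ∈ Q) (hb : b ∈ B) : ⁅r, b⁆ ∈ B :=
    le_normalizer_iff_commutator_le_right.1 h (commutator_mem_commutator hr hb)
  commutator_le_left_of {B Q : Subgroup G} {r b : G} (h : B ≤ normalizer (Q : Set G))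
      (hr : r ∈ Q) (hb : b ∈ B) : ⁅r, b⁆ ∈ Q :=
    le_normalizer_iff_commutator_le_left.1 h (commutator_mem_commutator hr hb)

/-! ### The Baumann subgroup -/

theorem baumann_le (T : Subgroup G) : baumannSubgroupOf p T ≤ T := inf_le_left

theorem thompson_le_baumann (T : Subgroup G) : thompsonSubgroupOf p T ≤ baumannSubgroupOf p T :=
  le_inf (Thompson.thompsonSubgroupOf_le T)
    (le_centralizer_iff.1 ((Thompson.omegaOne_le _ _).trans inf_le_right))

theorem baumann_map (T : Subgroup G) (g : G) :
    (baumannSubgroupOf p T).map (MulAut.conj g).toMonoidHom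
      = baumannSubgroupOf p (T.map (MulAut.conj g).toMonoidHom) := by
  have hinj : Function.Injective (MulAut.conj g).toMonoidHom := (MulAut.conj g).injective
  rw [baumannSubgroupOf, baumannSubgroupOf, map_inf _ _ _ hinj, centerThompsonOf,
    centerThompsonOf, ← Thompson.thompsonSubgroupOf_conj, ← LocalEven64.map_self_centralizer hinj,
    ← Thompson.map_omegaOne _ _ hinj.injOn]
  congr 1
  exact map_centralizer_conj _ g
where
  map_centralizer_conj (H : Subgroup G) (g : G) :
      (centralizer (H : Set G)).map (MulAut.conj g).toMonoidHom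
        = centralizer ((H.map (MulAut.conj g).toMonoidHom : Subgroup G) : Set G) := by
    ext x
    rw [mem_map_conj_iff, mem_centralizer_iff, mem_centralizer_iff]
    constructor
    · rintro h _ ⟨y, hy, rfl⟩
      have := congrArg (fun z => g * z * g⁻¹) (h y hy)
      simpa [mul_assoc] using this
    · intro h y hy
      have := congrArg (fun z => g⁻¹ * z * g) (h _ ⟨y, hy, rfl⟩)
      simpa [mul_assoc] using this

theorem le_normalizer_baumann (T : Subgroup G) :
    normalizer (T : Set G) ≤ normalizer (baumannSubgroupOf p T : Set G) := fun g hg => by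
  rw [mem_normalizer_iff_map, baumann_map, mem_normalizer_iff_map.1 hg]

theorem baumann_eq [Finite G] [Fact p.Prime] (T T' : Sylow p G)
    (h : baumannSubgroupOf p (T : Subgroup G) ≤ (T' : Subgroup G)) :
    baumannSubgroupOf p (T : Subgroup G) = baumannSubgroupOf p (T' : Subgroup G) := by
  obtain ⟨g, hg⟩ := MulAction.exists_smul_eq G T T'
  have hT : (T : Subgroup G).map (MulAut.conj g).toMonoidHom = T' := by rw [← hg]; rfl
  have hJ : thompsonSubgroupOf p (T : Subgroup G) = thompsonSubgroupOf p (T' : Subgroup G) := by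
    refine eq_of_le_of_card_ge ?_ (le_of_eq ?_)
    · rw [Thompson.thompsonSubgroupOf_eq]
      refine sSup_le fun A hA => Thompson.le_thompsonSubgroupOf ?_
      exact (Thompson.isMaxEAIn_top_iff.2 (Thompson.isMaxEAIn_sylow_iff T hA)).of_le le_top
        ((Thompson.le_thompsonSubgroupOf hA).trans ((thompson_le_baumann _).trans h))
    · rw [← hT, ← Thompson.thompsonSubgroupOf_conj,
        card_map_of_injective (MulAut.conj g).injective]
  refine eq_of_le_of_card_ge (le_inf h ?_) (le_of_eq ?_)
  · rw [centerThompsonOf, ← hJ]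
    exact inf_le_right
  · rw [← hT, ← baumann_map, card_map_of_injective (MulAut.conj g).injective]

theorem le_normalizer_baumann_of_normalized [Finite G] [Fact p.Prime] (T : Sylow p G)
    {Q : Subgroup G} (hQ : IsPGroup p Q)
    (hBQ : baumannSubgroupOf p (T : Subgroup G) ≤ normalizer (Q : Set G)) :
    Q ≤ normalizer (baumannSubgroupOf p (T : Subgroup G) : Set G) := by
  obtain ⟨T', hT'⟩ := ((T.isPGroup'.to_le (baumann_le _)).to_sup_of_normal_right' hQ hBQ).exists_le_sylow
  rw [baumann_eq T T' (le_sup_left.trans hT')]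
  exact (le_sup_right.trans hT').trans (le_normalizer.trans (le_normalizer_baumann _))

theorem block_normalized [Finite G] [Fact p.Prime] {T : Sylow p G} {E Q : Subgroup G}
    (hE : IsBaumannBlock p (T : Subgroup G) E) (hQ : IsPGroup p Q)
    (hBQ : baumannSubgroupOf p (T : Subgroup G) ≤ normalizer (Q : Set G))
    (hEQ : E ≤ normalizer (Q : Set G)) : Q ≤ normalizer (E : Set G) :=
  le_normalizer_of_block hE.1 hE.2.1 hQ (le_normalizer_baumann_of_normalized T hQ hBQ) hBQ hEQ

end Cfsg.Agent.LAE65.Block
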