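import Cfsg.Prelude.Def_BaumannBlocks
import Cfsg.Prelude.Def_PLocal
import Mathlib.Algebra.Group.Subgroup.Pointwise
import Mathlib.GroupTheory.Nilpotent
import Mathlib.Data.Fintype.Order
import Mathlib.Order.PiLex
import Cfsg.Agent.LAE65.Basic

set_option autoImplicit false

open scoped Pointwise commutatorElement

namespace Cfsg.Agent.LAE65

variable {P : Type*} [Group P] [Finite P]

/-! ### Products of subgroups as sets -/

theorem card_mul_inter (H K : Subgroup P) :
    Nat.card ((H : Set P) * (K : Set P) : Set P) * Nat.card ↥(H ⊓ K) =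
      Nat.card H * Nat.card K := by
  haveI := Fintype.ofFinite P
  classical
  let f : ↥H × ↥K → ((H : Set P) * (K : Set P) : Set P) :=
    fun ab => ⟨(ab.1 : P) * ab.2, Set.mul_mem_mul ab.1.2 ab.2.2⟩
  have hfib : ∀ y, Nat.card {ab // f ab = y} = Nat.card ↥(H ⊓ K) := by
    rintro ⟨_, a, ha, b, hb, rfl⟩
    refine Nat.card_congr
      { toFun := fun ab => ⟨a⁻¹ * ab.1.1, H.mul_mem (H.inv_mem ha) ab.1.1.2, ?_⟩
        invFun := fun c => ⟨(⟨a * c, H.mul_mem ha c.2.1⟩, ⟨(c : P)⁻¹ * b,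
          K.mul_mem (K.inv_mem c.2.2) hb⟩), Subtype.ext (by simp [f, mul_assoc])⟩
        left_inv := ?_, right_inv := ?_ }
    · have h := congrArg Subtype.val ab.2
      have : a⁻¹ * (ab.1.1 : P) = b * (ab.1.2 : P)⁻¹ := by
        rw [eq_mul_inv_iff_mul_eq, mul_assoc, inv_mul_eq_iff_eq_mul]; exact h
      rw [this]
      exact K.mul_mem hb (K.inv_mem ab.1.2.2)
    · rintro ⟨⟨a', b'⟩, h⟩
      have h' := congrArg Subtype.val h
      simp only [f] at h'
      refine Subtype.ext (Prod.ext (Subtype.ext ?_) (Subtype.ext ?_))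
      · simp
      · simp [mul_assoc, ← h']
    · intro c
      exact Subtype.ext (by simp)
  conv_rhs => rw [← Nat.card_prod, ← Nat.card_congr (Equiv.sigmaFiberEquiv f), Nat.card_sigma]
  rw [Finset.sum_congr rfl fun y _ => hfib y, Finset.sum_const, smul_eq_mul, Finset.card_univ,
    Nat.card_eq_fintype_card]

theorem mul_subset_sup (H K : Subgroup P) :
    (H : Set P) * (K : Set P) ⊆ ((H ⊔ K : Subgroup P) : Set P) := by
  rintro _ ⟨a, ha, b, hb, rfl⟩
  exact Subgroup.mul_mem_sup ha hb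

theorem card_mul_card_le (H K : Subgroup P) :
    Nat.card H * Nat.card K ≤ Nat.card ↥(H ⊔ K) * Nat.card ↥(H ⊓ K) := by
  rw [← card_mul_inter H K]
  exact Nat.mul_le_mul_right _ (Nat.card_mono (Set.toFinite _) (mul_subset_sup H K))

theorem coe_sup_eq_mul_of_card_le {H K : Subgroup P}
    (h : Nat.card ↥(H ⊔ K) * Nat.card ↥(H ⊓ K) ≤ Nat.card H * Nat.card K) :
    ((H ⊔ K : Subgroup P) : Set P) = (H : Set P) * (K : Set P) := by
  rw [← card_mul_inter H K] at h
  have h2 := Nat.le_of_mul_le_mul_right h Nat.card_pos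
  refine (Set.eq_of_subset_of_ncard_le (mul_subset_sup H K) ?_).symm
  rw [← Nat.card_coe_set_eq, ← Nat.card_coe_set_eq]
  exact h2

theorem centralizer_sup (H K : Subgroup P) :
    Subgroup.centralizer ((H ⊔ K : Subgroup P) : Set P) =
      Subgroup.centralizer (H : Set P) ⊓ Subgroup.centralizer (K : Set P) := by
  refine le_antisymm (le_inf (Subgroup.centralizer_le (SetLike.coe_subset_coe.2 le_sup_left))
    (Subgroup.centralizer_le (SetLike.coe_subset_coe.2 le_sup_right))) ?_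
  intro g hg
  rw [Subgroup.mem_centralizer_iff]
  intro x hx
  have : H ⊔ K ≤ Subgroup.centralizer ({g} : Set P) := by
    refine sup_le (fun u hu => ?_) (fun u hu => ?_)
    · exact Subgroup.mem_centralizer_singleton_iff.2 (hg.1 u hu)
    · exact Subgroup.mem_centralizer_singleton_iff.2 (hg.2 u hu)
  exact Subgroup.mem_centralizer_singleton_iff.1 (this hx)

theorem centralizer_anti {H K : Subgroup P} (h : H ≤ K) :
    Subgroup.centralizer (K : Set P) ≤ Subgroup.centralizer (H : Set P) :=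
  Subgroup.centralizer_le h

theorem le_centralizer_centralizer (H : Subgroup P) :
    H ≤ Subgroup.centralizer ((Subgroup.centralizer (H : Set P) : Subgroup P) : Set P) := by
  intro h hh
  rw [Subgroup.mem_centralizer_iff]
  intro c hc
  exact ((Subgroup.mem_centralizer_iff.1 hc) h hh).symm

theorem le_centralizer_iff_isMulCommutative {H : Subgroup P} :
    H ≤ Subgroup.centralizer (H : Set P) ↔ IsMulCommutative H :=
  Subgroup.le_centralizer_iff_isMulCommutative

theorem normalizer_le_normalizer_centralizer (H : Subgroup P) :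
    Subgroup.normalizer (H : Set P) ≤
      Subgroup.normalizer ((Subgroup.centralizer (H : Set P) : Subgroup P) : Set P) := by
  intro g hg
  rw [Subgroup.mem_normalizer_iff]
  intro c
  simp only [Subgroup.mem_centralizer_iff, SetLike.mem_coe]
  constructor
  · intro hc h hh
    have := congrArg (fun t => g * t * g⁻¹)
      (hc (g⁻¹ * h * g) ((Subgroup.mem_normalizer_iff''.1 hg h).1 hh))
    simpa [mul_assoc] using this
  · intro hc h hh
    have := congrArg (fun t => g⁻¹ * t * g)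
      (hc (g * h * g⁻¹) ((Subgroup.mem_normalizer_iff.1 hg h).1 hh))
    simpa [mul_assoc] using this

/-! ### The two measures -/

/-- `|R| |C(R)|`. -/
noncomputable def meas (R : Subgroup P) : ℕ :=
  Nat.card R * Nat.card ↥(Subgroup.centralizer (R : Set P))

theorem card_center_eq (R : Subgroup P) :
    Nat.card ↥(Subgroup.center ↥R) = Nat.card ↥(R ⊓ Subgroup.centralizer (R : Set P)) := by
  rw [← Subgroup.card_map_of_injective R.subtype_injective]
  congr 1
  congr 1
  ext x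
  constructor
  · rintro ⟨y, hy, rfl⟩
    refine ⟨y.2, fun u hu => ?_⟩
    exact congrArg Subtype.val (Subgroup.mem_center_iff.1 hy ⟨u, hu⟩)
  · rintro ⟨hx, hx'⟩
    exact ⟨⟨x, hx⟩, Subgroup.mem_center_iff.2 fun u => Subtype.ext (hx' u u.2), rfl⟩

theorem meas_le (R : Subgroup P) : meas R ≤ Cfsg.maxCentralizerProduct P := by
  refine le_csSup ?_ ?_
  · exact (Set.finite_range fun R : Subgroup P =>
      Nat.card ↥R * Nat.card ↥(Subgroup.centralizer (R : Set P))).bddAbove
  · exact ⟨R, rfl⟩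

theorem exists_meas_max : ∃ R : Subgroup P, Cfsg.IsCentralizerLarge R := by
  have hfin : BddAbove {k : ℕ | ∃ R : Subgroup P,
      Nat.card ↥R * Nat.card ↥(Subgroup.centralizer (R : Set P)) = k} :=
    (Set.finite_range fun R : Subgroup P =>
      Nat.card ↥R * Nat.card ↥(Subgroup.centralizer (R : Set P))).bddAbove
  have hne : {k : ℕ | ∃ R : Subgroup P,
      Nat.card ↥R * Nat.card ↥(Subgroup.centralizer (R : Set P)) = k}.Nonempty := ⟨_, ⊥, rfl⟩
  obtain ⟨R, hR⟩ := Nat.sSup_mem hne hfin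
  exact ⟨R, hR⟩

theorem cenProd_le (R : Subgroup P) :
    Nat.card R * Nat.card ↥(Subgroup.center ↥R) ≤ meas R := by
  rw [card_center_eq]
  exact Nat.mul_le_mul_left _ (Subgroup.card_le_of_le inf_le_right)

theorem meas_max_of_le {R : Subgroup P} (h : Cfsg.maxCentralizerProduct P ≤ meas R) :
    Cfsg.IsCentralizerLarge R :=
  le_antisymm (meas_le R) h

theorem large_pair {Q R : Subgroup P} (hQ : Cfsg.IsCentralizerLarge Q)
    (hR : Cfsg.IsCentralizerLarge R) :
    ((Q ⊔ R : Subgroup P) : Set P) = (Q : Set P) * (R : Set P) ∧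
    Cfsg.IsCentralizerLarge (Q ⊔ R) ∧ Cfsg.IsCentralizerLarge (Q ⊓ R) ∧
    ((Subgroup.centralizer (Q : Set P) ⊔ Subgroup.centralizer (R : Set P) : Subgroup P) : Set P) =
      (Subgroup.centralizer (Q : Set P) : Set P) * (Subgroup.centralizer (R : Set P) : Set P) ∧
    Subgroup.centralizer ((Q ⊓ R : Subgroup P) : Set P) =
      Subgroup.centralizer (Q : Set P) ⊔ Subgroup.centralizer (R : Set P) := by
  set CQ := Subgroup.centralizer (Q : Set P) with hCQ
  set CR := Subgroup.centralizer (R : Set P) with hCR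
  set CX := Subgroup.centralizer ((Q ⊓ R : Subgroup P) : Set P) with hCX
  set M := Cfsg.maxCentralizerProduct P with hM
  have hQ' : Nat.card Q * Nat.card CQ = M := hQ
  have hR' : Nat.card R * Nat.card CR = M := hR
  have hle : CQ ⊔ CR ≤ CX := sup_le (centralizer_anti inf_le_left) (centralizer_anti inf_le_right)
  have h1 := card_mul_card_le Q R
  have h2 := card_mul_card_le CQ CR
  have h3 : Nat.card ↥(CQ ⊔ CR) ≤ Nat.card CX := Subgroup.card_le_of_le hle
  have hj : meas (Q ⊔ R) = Nat.card ↥(Q ⊔ R) * Nat.card ↥(CQ ⊓ CR) := by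
    rw [meas, centralizer_sup]
  have hjM := meas_le (Q ⊔ R)
  have hiM : Nat.card ↥(Q ⊓ R) * Nat.card CX ≤ M := meas_le (Q ⊓ R)
  rw [hj] at hjM
  have hMpos : 0 < M := hQ' ▸ Nat.mul_pos Nat.card_pos Nat.card_pos
  set a := Nat.card ↥(Q ⊔ R)
  set b := Nat.card ↥(Q ⊓ R)
  set c := Nat.card ↥(CQ ⊓ CR)
  set d := Nat.card ↥(CQ ⊔ CR)
  have hprod : M * M ≤ (a * c) * (b * d) :=
    calc M * M = (Nat.card Q * Nat.card R) * (Nat.card CQ * Nat.card CR) := by
          conv_lhs => arg 1; rw [← hQ']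
          rw [← hR']; ring
      _ ≤ (a * b) * (d * c) := Nat.mul_le_mul h1 h2
      _ = _ := by ring
  have hbd : b * d ≤ M := le_trans (Nat.mul_le_mul_left _ h3) hiM
  have hac : a * c = M := by
    refine le_antisymm hjM (Nat.le_of_mul_le_mul_right ?_ hMpos)
    exact le_trans hprod (Nat.mul_le_mul_left _ hbd)
  have hbd' : b * d = M := by
    refine le_antisymm hbd (Nat.le_of_mul_le_mul_left ?_ hMpos)
    exact le_trans hprod (Nat.mul_le_mul_right _ hjM)
  have hd : d = Nat.card CX := le_antisymm h3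
    (Nat.le_of_mul_le_mul_left (le_trans hiM hbd'.ge) Nat.card_pos)
  have hprod2 : (a * b) * (d * c) = (Nat.card Q * Nat.card R) * (Nat.card CQ * Nat.card CR) :=
    calc (a * b) * (d * c) = (a * c) * (b * d) := by ring
      _ = M * M := by rw [hac, hbd']
      _ = _ := by
          conv_lhs => arg 1; rw [← hQ']
          rw [← hR']; ring
  have h1' : a * b ≤ Nat.card Q * Nat.card R := by
    by_contra hc
    push Not at hc
    exact absurd hprod2 (ne_of_gt (Nat.mul_lt_mul_of_lt_of_le hc h2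
      (Nat.mul_pos Nat.card_pos Nat.card_pos)))
  have h2' : d * c ≤ Nat.card CQ * Nat.card CR := by
    by_contra hc
    push Not at hc
    exact absurd hprod2 (ne_of_gt (Nat.mul_lt_mul_of_le_of_lt h1 hc
      (Nat.mul_pos Nat.card_pos Nat.card_pos)))
  refine ⟨coe_sup_eq_mul_of_card_le h1', ?_, ?_, coe_sup_eq_mul_of_card_le h2', ?_⟩
  · exact hj.trans hac
  · show b * Nat.card CX = M
    rw [← hd, hbd']
  · exact (Subgroup.eq_of_le_of_card_ge hle hd.ge).symm

theorem large_centralizer {Q : Subgroup P} (hQ : Cfsg.IsCentralizerLarge Q) :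
    Cfsg.IsCentralizerLarge (Subgroup.centralizer (Q : Set P)) ∧
      Q = Subgroup.centralizer ((Subgroup.centralizer (Q : Set P) : Subgroup P) : Set P) := by
  set CQ := Subgroup.centralizer (Q : Set P) with hCQ
  have h := meas_le CQ
  have hQ' : Nat.card Q * Nat.card CQ = Cfsg.maxCentralizerProduct P := hQ
  have hle : Nat.card Q ≤ Nat.card ↥(Subgroup.centralizer (CQ : Set P)) :=
    Subgroup.card_le_of_le (le_centralizer_centralizer Q)
  rw [meas, ← hQ', mul_comm (Nat.card Q)] at h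
  have heq := le_antisymm hle (Nat.le_of_mul_le_mul_left h Nat.card_pos)
  refine ⟨?_, Subgroup.eq_of_le_of_card_ge (le_centralizer_centralizer Q) heq.ge⟩
  show Nat.card CQ * _ = _
  rw [← heq, mul_comm, hQ']

theorem maxCentralProduct_eq :
    Cfsg.maxCentralProduct P = Cfsg.maxCentralizerProduct P := by
  have hbd : BddAbove {k : ℕ | ∃ R : Subgroup P, Nat.card ↥R * Nat.card ↥(Subgroup.center ↥R) = k} :=
    (Set.finite_range fun R : Subgroup P =>
      Nat.card ↥R * Nat.card ↥(Subgroup.center ↥R)).bddAbove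
  refine le_antisymm (csSup_le ⟨_, ⊥, rfl⟩ ?_) ?_
  · rintro k ⟨R, rfl⟩
    exact le_trans (cenProd_le R) (meas_le R)
  · obtain ⟨Q, hQ⟩ := exists_meas_max (P := P)
    obtain ⟨hC, hCC⟩ := large_centralizer hQ
    have hj := (large_pair hQ hC).2.1
    have hle : Subgroup.centralizer ((Q ⊔ Subgroup.centralizer (Q : Set P) : Subgroup P) : Set P) ≤
        Q ⊔ Subgroup.centralizer (Q : Set P) := by
      rw [centralizer_sup, ← hCC]
      exact le_trans inf_le_right le_sup_left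
    refine le_of_eq_of_le ?_ (le_csSup hbd ⟨Q ⊔ Subgroup.centralizer (Q : Set P), rfl⟩)
    rw [card_center_eq, inf_eq_right.2 hle]
    exact hj.symm

theorem cl_iff {Q : Subgroup P} :
    Cfsg.IsCentrallyLarge Q ↔
      Cfsg.IsCentralizerLarge Q ∧ Subgroup.centralizer (Q : Set P) ≤ Q := by
  unfold Cfsg.IsCentrallyLarge
  rw [maxCentralProduct_eq]
  constructor
  · intro h
    have hm : Cfsg.IsCentralizerLarge Q := meas_max_of_le (h.symm.le.trans (cenProd_le Q))
    refine ⟨hm, ?_⟩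
    rw [card_center_eq, ← (hm : Nat.card ↥Q * _ = _)] at h
    have := Subgroup.eq_of_le_of_card_ge (inf_le_right : Q ⊓ Subgroup.centralizer (Q : Set P) ≤ _)
      (Nat.eq_of_mul_eq_mul_left Nat.card_pos h).ge
    exact inf_eq_right.1 this
  · rintro ⟨hm, hle⟩
    rw [card_center_eq, inf_eq_right.2 hle]
    exact hm

theorem cl_sup {Q R : Subgroup P} (hQ : Cfsg.IsCentrallyLarge Q) (hR : Cfsg.IsCentrallyLarge R) :
    ((Q ⊔ R : Subgroup P) : Set P) = (Q : Set P) * (R : Set P) ∧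
      Cfsg.IsCentrallyLarge (Q ⊔ R) := by
  rw [cl_iff] at hQ hR ⊢
  obtain ⟨h1, h2, -⟩ := large_pair hQ.1 hR.1
  exact ⟨h1, h2, le_trans (centralizer_anti le_sup_left) (le_trans hQ.2 le_sup_left)⟩

theorem exists_cl : ∃ Q : Subgroup P, Cfsg.IsCentrallyLarge Q := by
  obtain ⟨Q, hQ⟩ := exists_meas_max (P := P)
  obtain ⟨hC, hCC⟩ := large_centralizer hQ
  refine ⟨Q ⊔ Subgroup.centralizer (Q : Set P), cl_iff.2 ⟨(large_pair hQ hC).2.1, ?_⟩⟩
  rw [centralizer_sup, ← hCC]
  exact le_trans inf_le_right le_sup_left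

theorem exists_mcl_le {Q : Subgroup P} (hQ : Cfsg.IsCentrallyLarge Q) :
    ∃ R ≤ Q, Cfsg.IsMinimalCentrallyLarge R := by
  obtain ⟨R, ⟨hRQ, hR⟩, hmin⟩ := Set.Finite.exists_minimal
    (s := {R : Subgroup P | R ≤ Q ∧ Cfsg.IsCentrallyLarge R}) (Set.toFinite _) ⟨Q, le_rfl, hQ⟩
  exact ⟨R, hRQ, hR, fun R' hle hR' => le_antisymm hle (hmin ⟨hle.trans hRQ, hR'⟩ hle)⟩

theorem cl_finset_sup {ι : Type*} (f : ι → Subgroup P) {Q : Subgroup P}
    (hQ : Cfsg.IsCentrallyLarge Q) (s : Finset ι)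
    (hs : ∀ i ∈ s, ∀ R : Subgroup P, Cfsg.IsCentrallyLarge R → Cfsg.IsCentrallyLarge (R ⊔ f i)) :
    Cfsg.IsCentrallyLarge (Q ⊔ s.sup f) := by
  classical
  induction s using Finset.induction_on with
  | empty => simpa using hQ
  | insert a s _ ih =>
    rw [Finset.sup_insert, sup_left_comm, sup_comm (f a)]
    exact hs a (Finset.mem_insert_self _ _) _ (ih fun i hi => hs i (Finset.mem_insert_of_mem hi))

theorem cl_sup_sSup {Q : Subgroup P} (hQ : Cfsg.IsCentrallyLarge Q) (S : Set (Subgroup P))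
    (hS : ∀ A ∈ S, ∀ R : Subgroup P, Cfsg.IsCentrallyLarge R → Cfsg.IsCentrallyLarge (R ⊔ A)) :
    Cfsg.IsCentrallyLarge (Q ⊔ sSup S) := by
  have hfin : S.Finite := Set.toFinite S
  have := cl_finset_sup id hQ hfin.toFinset (fun i hi => hS i (hfin.mem_toFinset.1 hi))
  rwa [Finset.sup_id_eq_sSup, hfin.coe_toFinset] at this

theorem cl_centrallyLargeJoin : Cfsg.IsCentrallyLarge (Cfsg.centrallyLargeJoin P) := by
  obtain ⟨Q, hQ⟩ := exists_cl (P := P)
  have := cl_sup_sSup hQ {R | Cfsg.IsCentrallyLarge R} (fun A hA R hR => (cl_sup hR hA).2)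
  rwa [sup_eq_right.2 (le_sSup (show Q ∈ {R : Subgroup P | Cfsg.IsCentrallyLarge R} from hQ))] at this

theorem cl_minimalCentrallyLargeJoin :
    Cfsg.IsCentrallyLarge (Cfsg.minimalCentrallyLargeJoin P) := by
  obtain ⟨Q₀, hQ₀⟩ := exists_cl (P := P)
  obtain ⟨Q, -, hQ⟩ := exists_mcl_le hQ₀
  have := cl_sup_sSup hQ.1 {R | Cfsg.IsMinimalCentrallyLarge R} (fun A hA R hR => (cl_sup hR hA.1).2)
  rwa [sup_eq_right.2 (le_sSup (show Q ∈ {R : Subgroup P | Cfsg.IsMinimalCentrallyLarge R} from hQ))] at this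

/-! ### Interaction with abelian subgroups of largest order -/

theorem centralizer_maxAbelian {A : Subgroup P} (hA : A ∈ Cfsg.maxAbelianSubgroups P) :
    Subgroup.centralizer (A : Set P) = A := by
  refine le_antisymm (fun g hg => ?_) (le_centralizer_iff_isMulCommutative.2 hA.1)
  have hab : IsMulCommutative ↥(Subgroup.closure ((A : Set P) ∪ {g})) := by
    refine Subgroup.isMulCommutative_closure ?_
    intro a ha b hb
    rcases ha with ha | rfl <;> rcases hb with hb | rfl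
    · exact congrArg Subtype.val (hA.1.is_comm.comm ⟨a, ha⟩ ⟨b, hb⟩)
    · exact hg a ha
    · exact (hg b hb).symm
    · rfl
  have hle : A ≤ Subgroup.closure ((A : Set P) ∪ {g}) :=
    fun a ha => Subgroup.subset_closure (Or.inl ha)
  rw [Subgroup.eq_of_le_of_card_ge hle (hA.2 _ hab)]
  exact Subgroup.subset_closure (Or.inr rfl)

theorem isMulCommutative_sup {H K : Subgroup P} (hH : IsMulCommutative H) (hK : IsMulCommutative K)
    (hc : K ≤ Subgroup.centralizer (H : Set P)) : IsMulCommutative ↥(H ⊔ K) := by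
  rw [← le_centralizer_iff_isMulCommutative] at hH hK ⊢
  rw [centralizer_sup]
  exact le_inf (sup_le hH hc) (sup_le (Subgroup.le_centralizer_iff.1 hc) hK)

theorem cl_abelian {Q A : Subgroup P} (hQ : Cfsg.IsCentrallyLarge Q)
    (hA : A ∈ Cfsg.maxAbelianSubgroups P) :
    ((Q ⊔ A : Subgroup P) : Set P) = (Q : Set P) * (A : Set P) ∧
      Cfsg.IsCentrallyLarge (Q ⊔ A) ∧
      (Q ⊔ A) ⊓ Subgroup.centralizer ((Q ⊓ A : Subgroup P) : Set P) =
        (Q ⊓ Subgroup.centralizer (Q : Set P)) ⊔ A ∧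
      (((Q ⊓ Subgroup.centralizer (Q : Set P)) ⊔ A : Subgroup P) : Set P) =
        ((Q ⊓ Subgroup.centralizer (Q : Set P)) : Set P) * (A : Set P) := by
  obtain ⟨hQm, hQC⟩ := cl_iff.1 hQ
  set W := Subgroup.centralizer (Q : Set P) with hW
  have hWab : IsMulCommutative W :=
    le_centralizer_iff_isMulCommutative.1 (centralizer_anti hQC)
  have hXab : IsMulCommutative ↥(Q ⊓ A) :=
    le_centralizer_iff_isMulCommutative.1 (le_trans inf_le_right
      (le_trans (le_centralizer_iff_isMulCommutative.2 hA.1) (centralizer_anti inf_le_right)))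
  set B := W ⊔ (Q ⊓ A) with hB
  have hBab : IsMulCommutative B := isMulCommutative_sup hWab hXab
    (le_trans inf_le_left (le_centralizer_centralizer Q))
  have hBQ : B ≤ Q := sup_le hQC inf_le_left
  have hd : Nat.card B ≤ Nat.card A := hA.2 _ hBab
  have hWA : W ⊓ (Q ⊓ A) = W ⊓ A := by rw [← inf_assoc, inf_eq_left.2 hQC]
  have h1 := card_mul_card_le W (Q ⊓ A)
  rw [hWA, ← hB] at h1
  have h2 := card_mul_card_le Q A
  have hj : meas (Q ⊔ A) = Nat.card ↥(Q ⊔ A) * Nat.card ↥(W ⊓ A) := by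
    rw [meas, centralizer_sup, centralizer_maxAbelian hA]
  have hM := meas_le (Q ⊔ A)
  rw [hj] at hM
  have hQ' : Nat.card Q * Nat.card W = Cfsg.maxCentralizerProduct P := hQm
  set a := Nat.card ↥(Q ⊔ A)
  set c := Nat.card ↥(W ⊓ A)
  set x := Nat.card ↥(Q ⊓ A)
  set q := Nat.card Q
  set n := Nat.card A
  set w := Nat.card W
  set b := Nat.card B
  have hpos : 0 < c ∧ 0 < x ∧ 0 < n ∧ 0 < q ∧ 0 < a :=
    ⟨Nat.card_pos, Nat.card_pos, Nat.card_pos, Nat.card_pos, Nat.card_pos⟩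
  have hchain : q * w * (x * n) ≤ a * c * (x * n) :=
    calc q * w * (x * n) = (q * n) * (w * x) := by ring
      _ ≤ (a * x) * (b * c) := Nat.mul_le_mul h2 h1
      _ ≤ (a * x) * (n * c) := Nat.mul_le_mul_left _ (Nat.mul_le_mul_right _ hd)
      _ = a * c * (x * n) := by ring
  have hxn : 0 < x * n := Nat.mul_pos hpos.2.1 hpos.2.2.1
  have hac : a * c = q * w :=
    le_antisymm (hQ'.symm ▸ hM) (Nat.le_of_mul_le_mul_right hchain hxn)
  have heq : (q * n) * (w * x) = (a * x) * (n * c) :=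
    calc (q * n) * (w * x) = q * w * (x * n) := by ring
      _ = a * c * (x * n) := by rw [hac]
      _ = _ := by ring
  have hqa : a * x ≤ q * n := by
    by_contra hlt
    push Not at hlt
    have : (q * n) * (w * x) < (a * x) * (n * c) :=
      Nat.mul_lt_mul_of_lt_of_le hlt (le_trans h1 (Nat.mul_le_mul_right _ hd))
        (Nat.mul_pos hpos.2.2.1 hpos.1)
    exact this.ne heq
  have hbn : n ≤ b := by
    by_contra hlt
    push Not at hlt
    have : (q * n) * (w * x) < (a * x) * (n * c) :=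
      Nat.mul_lt_mul_of_le_of_lt h2 (lt_of_le_of_lt h1 (Nat.mul_lt_mul_of_pos_right hlt hpos.1))
        (Nat.mul_pos hpos.2.2.2.2 hpos.2.1)
    exact this.ne heq
  have hset := coe_sup_eq_mul_of_card_le hqa
  have hBmax : B ∈ Cfsg.maxAbelianSubgroups P := ⟨hBab, fun C hC => (hA.2 C hC).trans hbn⟩
  have hCL : Cfsg.IsCentrallyLarge (Q ⊔ A) :=
    cl_iff.2 ⟨hj.trans (hac.trans hQ'), le_trans (centralizer_anti le_sup_left)
      (le_trans hQC le_sup_left)⟩
  have key : ∀ g ∈ (Q ⊔ A) ⊓ Subgroup.centralizer ((Q ⊓ A : Subgroup P) : Set P),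
      g ∈ (W : Set P) * (A : Set P) := by
    rintro g ⟨hg, hgc⟩
    replace hg : g ∈ ((Q ⊔ A : Subgroup P) : Set P) := hg
    rw [hset, Set.mem_mul] at hg
    obtain ⟨u, hu, v, hv, rfl⟩ := hg
    have hvc : v ∈ Subgroup.centralizer ((Q ⊓ A : Subgroup P) : Set P) :=
      centralizer_anti inf_le_right (le_centralizer_iff_isMulCommutative.2 hA.1 hv)
    have huc := ((Subgroup.centralizer ((Q ⊓ A : Subgroup P) : Set P)).mul_mem_cancel_right hvc).1 hgc
    have huB : u ∈ B := by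
      rw [← centralizer_maxAbelian hBmax, hB, centralizer_sup]
      exact ⟨le_centralizer_centralizer Q hu, huc⟩
    have hWB : (B : Set P) = (W : Set P) * ((Q ⊓ A : Subgroup P) : Set P) := by
      refine coe_sup_eq_mul_of_card_le ?_
      rw [← hB, hWA]
      -- the counting inequality is an equality
      by_contra hlt
      push Not at hlt
      have : (q * n) * (w * x) < (a * x) * (n * c) :=
        Nat.mul_lt_mul_of_le_of_lt h2 (lt_of_lt_of_le hlt (Nat.mul_le_mul_right _ hd))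
          (Nat.mul_pos hpos.2.2.2.2 hpos.2.1)
      exact this.ne heq
    rw [← SetLike.mem_coe, hWB, Set.mem_mul] at huB
    obtain ⟨s, hs, t, ht, rfl⟩ := huB
    exact ⟨s, hs, t * v, A.mul_mem ht.2 hv, (mul_assoc _ _ _).symm⟩
  have hWeq : Q ⊓ W = W := inf_eq_right.2 hQC
  have hle : W ⊔ A ≤ (Q ⊔ A) ⊓ Subgroup.centralizer ((Q ⊓ A : Subgroup P) : Set P) :=
    le_inf (sup_le_sup_right hQC A) (sup_le (centralizer_anti inf_le_left)
      (le_trans (le_centralizer_iff_isMulCommutative.2 hA.1) (centralizer_anti inf_le_right)))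
  have heq2 : (Q ⊔ A) ⊓ Subgroup.centralizer ((Q ⊓ A : Subgroup P) : Set P) = W ⊔ A :=
    le_antisymm (fun g hg => mul_subset_sup W A (key g hg)) hle
  refine ⟨hset, hCL, by rw [hWeq]; exact heq2, ?_⟩
  show _ = ((Q ⊓ W : Subgroup P) : Set P) * (A : Set P)
  rw [hWeq]
  exact Set.Subset.antisymm (fun g hg => key g (heq2 ▸ hg)) (mul_subset_sup W A)

theorem cl_sup_thompson {Q : Subgroup P} (hQ : Cfsg.IsCentrallyLarge Q) :
    Cfsg.IsCentrallyLarge (Q ⊔ Cfsg.thompsonSubgroupA P) :=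
  cl_sup_sSup hQ _ fun _ hA _ hR => (cl_abelian hR hA).2.1

theorem exists_maxAbelian : ∃ A : Subgroup P, A ∈ Cfsg.maxAbelianSubgroups P := by
  haveI := Fintype.ofFinite P
  classical
  obtain ⟨A, hA, hmax⟩ := Finset.exists_max_image
    (Finset.univ.filter fun A : Subgroup P => IsMulCommutative A) (fun A => Nat.card A)
    ⟨⊥, by simp only [Finset.mem_filter, Finset.mem_univ, true_and]; infer_instance⟩
  exact ⟨A, (Finset.mem_filter.1 hA).2, fun B hB => hmax B (by simp [hB])⟩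

/-- `J̃(P) ≤ Q J(P)`. -/
theorem jTilde_le {Q : Subgroup P} (hQ : Cfsg.IsCentrallyLarge Q) :
    Subgroup.centralizer ((Cfsg.thompsonSubgroupA P ⊓
        Subgroup.centralizer (Cfsg.thompsonSubgroupA P : Set P) : Subgroup P) : Set P) ≤
      Q ⊔ Cfsg.thompsonSubgroupA P := by
  have hS := (cl_iff.1 (cl_sup_thompson hQ)).1
  conv_rhs => rw [(large_centralizer hS).2]
  refine centralizer_anti (le_inf ?_ (centralizer_anti le_sup_right))
  obtain ⟨A, hA⟩ := exists_maxAbelian (P := P)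
  have hAJ : A ≤ Cfsg.thompsonSubgroupA P := le_sSup hA
  exact le_trans (centralizer_anti (hAJ.trans le_sup_right)) ((centralizer_maxAbelian hA).le.trans hAJ)

/-! ### Minimal centrally large subgroups -/

theorem mcl_decomp {Q R : Subgroup P} (hQ : Cfsg.IsMinimalCentrallyLarge Q)
    (hR : Cfsg.IsCentrallyLarge R) : (Q ⊓ R) ⊔ Subgroup.centralizer (Q : Set P) = Q := by
  obtain ⟨hQm, hQC⟩ := cl_iff.1 hQ.1
  obtain ⟨hRm, hRC⟩ := cl_iff.1 hR
  obtain ⟨hC, hCC⟩ := large_centralizer hQm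
  obtain ⟨-, -, hXm, hmul, hCX⟩ := large_pair hQm hRm
  refine hQ.2 _ (sup_le inf_le_left hQC) (cl_iff.2 ⟨(large_pair hXm hC).2.1, ?_⟩)
  rw [centralizer_sup, ← hCC, hCX]
  rintro g ⟨hg, hgQ⟩
  replace hg : g ∈ ((Subgroup.centralizer (Q : Set P) ⊔ Subgroup.centralizer (R : Set P) :
    Subgroup P) : Set P) := hg
  rw [hmul, Set.mem_mul] at hg
  obtain ⟨u, hu, v, hv, rfl⟩ := hg
  exact Subgroup.mul_mem _ (Subgroup.mem_sup_right hu)
    (Subgroup.mem_sup_left ⟨(Q.mul_mem_cancel_left (hQC hu)).1 hgQ, hRC hv⟩)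

theorem mcl_inf_center {Q R : Subgroup P} (hQ : Cfsg.IsMinimalCentrallyLarge Q)
    (hR : Cfsg.IsCentrallyLarge R) :
    (Q ⊓ R) ⊓ Subgroup.centralizer (Q : Set P) =
      (Q ⊓ R) ⊓ Subgroup.centralizer ((Q ⊓ R : Subgroup P) : Set P) := by
  refine le_antisymm (inf_le_inf_left _ (centralizer_anti inf_le_left)) (le_inf inf_le_left ?_)
  conv_rhs => rw [← mcl_decomp hQ hR, centralizer_sup]
  exact le_inf inf_le_right (le_trans inf_le_left
    (le_trans inf_le_left (le_centralizer_centralizer Q)))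

theorem mcl_commutator {Q R : Subgroup P} (hQ : Cfsg.IsMinimalCentrallyLarge Q)
    (hR : Cfsg.IsCentrallyLarge R) : ⁅Q, Q⁆ ≤ ⁅R, R⁆ := by
  obtain ⟨-, hQC⟩ := cl_iff.1 hQ.1
  have hX : ⁅Q ⊓ R, Q ⊓ R⁆ ≤ ⁅R, R⁆ := Subgroup.commutator_mono inf_le_right inf_le_right
  refine le_trans ?_ hX
  rw [Subgroup.commutator_le]
  have hnorm : ∀ g ∈ Q, ∃ x ∈ Q ⊓ R, ∃ z ∈ Subgroup.centralizer (Q : Set P), g = x * z := by
    intro g hg
    rw [← mcl_decomp hQ hR] at hg
    rw [← SetLike.mem_coe, Subgroup.coe_mul_of_left_le_normalizer_right, Set.mem_mul] at hg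
    · obtain ⟨x, hx, z, hz, rfl⟩ := hg
      exact ⟨x, hx, z, hz, rfl⟩
    · exact le_trans inf_le_left (le_trans Subgroup.le_normalizer
        (normalizer_le_normalizer_centralizer Q))
  intro a ha b hb
  obtain ⟨x, hx, z, hz, rfl⟩ := hnorm a ha
  obtain ⟨y, hy, t, ht, rfl⟩ := hnorm b hb
  have hxQ : x ∈ Q := hx.1
  have hyQ : y ∈ Q := hy.1
  have hzt : Commute z t := (hz t (hQC ht)).symm
  have hzy : Commute z y := (hz y hyQ).symm
  have hxt : Commute x t := ht x hxQ
  have : ⁅x * z, y * t⁆ = ⁅x, y⁆ := by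
    simp only [commutatorElement_def, mul_inv_rev]
    calc x * z * (y * t) * (z⁻¹ * x⁻¹) * (t⁻¹ * y⁻¹)
        = x * (z * (y * t) * z⁻¹) * x⁻¹ * t⁻¹ * y⁻¹ := by group
      _ = x * (y * t) * x⁻¹ * t⁻¹ * y⁻¹ := by rw [(hzy.mul_right hzt).eq, mul_inv_cancel_right]
      _ = x * y * (t * x⁻¹) * t⁻¹ * y⁻¹ := by group
      _ = x * y * (x⁻¹ * t) * t⁻¹ * y⁻¹ := by rw [hxt.inv_left.eq]
      _ = x * y * x⁻¹ * y⁻¹ := by group
  rw [this]
  exact Subgroup.commutator_mem_commutator hx hy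

theorem mcl_card {Q R : Subgroup P} (hQ : Cfsg.IsMinimalCentrallyLarge Q)
    (hR : Cfsg.IsMinimalCentrallyLarge R) :
    Nat.card Q = Nat.card R ∧
      Nat.card ↥(Subgroup.centralizer (Q : Set P)) = Nat.card ↥(Subgroup.centralizer (R : Set P)) := by
  have key : ∀ {Q R : Subgroup P}, Cfsg.IsMinimalCentrallyLarge Q → Cfsg.IsCentrallyLarge R →
      Nat.card ↥(Q ⊓ R) * Nat.card ↥(Subgroup.centralizer (Q : Set P)) =
        Nat.card Q * Nat.card ↥((Q ⊓ R) ⊓ Subgroup.centralizer ((Q ⊓ R : Subgroup P) : Set P)) := by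
    intro Q R hQ hR
    obtain ⟨hQm, hQC⟩ := cl_iff.1 hQ.1
    obtain ⟨hRm, -⟩ := cl_iff.1 hR
    have h := large_pair (large_pair hQm hRm).2.2.1 (large_centralizer hQm).1
    rw [← mcl_inf_center hQ hR, ← card_mul_inter, ← h.1, mcl_decomp hQ hR]
    rfl
  have h1 := key hQ hR.1
  have h2 := key hR hQ.1
  rw [inf_comm R Q] at h2
  set W := Nat.card ↥(Subgroup.centralizer (Q : Set P))
  set V := Nat.card ↥(Subgroup.centralizer (R : Set P))
  set x := Nat.card ↥(Q ⊓ R)
  set z := Nat.card ↥((Q ⊓ R) ⊓ Subgroup.centralizer ((Q ⊓ R : Subgroup P) : Set P))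
  have hm : Nat.card Q * W = Nat.card R * V :=
    ((cl_iff.1 hQ.1).1).trans ((cl_iff.1 hR.1).1).symm
  have hx : 0 < x := Nat.card_pos
  have hz : 0 < z := Nat.card_pos
  have hsq : x * (W * W) = x * (V * V) :=
    calc x * (W * W) = (x * W) * W := by ring
      _ = (Nat.card Q * W) * z := by rw [h1]; ring
      _ = (Nat.card R * z) * V := by rw [hm]; ring
      _ = x * (V * V) := by rw [← h2]; ring
  have hWV : W = V := Nat.mul_self_inj.1 (Nat.eq_of_mul_eq_mul_left hx hsq)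
  exact ⟨Nat.eq_of_mul_eq_mul_right Nat.card_pos (hm.trans (by rw [← hWV])), hWV⟩

theorem mcl_of_card_le {Q R : Subgroup P} (hQ : Cfsg.IsMinimalCentrallyLarge Q)
    (hR : Cfsg.IsCentrallyLarge R) (h : Nat.card R ≤ Nat.card Q) :
    Cfsg.IsMinimalCentrallyLarge R := by
  obtain ⟨R', hR'R, hR'⟩ := exists_mcl_le hR
  have : R' = R := Subgroup.eq_of_le_of_card_ge hR'R (h.trans (mcl_card hQ hR').1.le)
  rwa [← this]

theorem abelian_mcl_iff {Q : Subgroup P} (hQ : Cfsg.IsMinimalCentrallyLarge Q)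
    (hab : IsMulCommutative Q) (X : Subgroup P) :
    Cfsg.IsMinimalCentrallyLarge X ↔ X ∈ Cfsg.maxAbelianSubgroups P := by
  obtain ⟨hQm, hQC⟩ := cl_iff.1 hQ.1
  have hC : Subgroup.centralizer (Q : Set P) = Q :=
    le_antisymm hQC (le_centralizer_iff_isMulCommutative.2 hab)
  have hbound : ∀ B : Subgroup P, IsMulCommutative B → Nat.card B ≤ Nat.card Q := by
    intro B hB
    have h1 := le_trans (Nat.mul_le_mul_left _
      (Subgroup.card_le_of_le (le_centralizer_iff_isMulCommutative.2 hB))) (meas_le B)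
    rw [← (hQm : Nat.card ↥Q * _ = _), hC] at h1
    exact Nat.mul_self_le_mul_self_iff.1 h1
  have hQmax : Q ∈ Cfsg.maxAbelianSubgroups P := ⟨hab, hbound⟩
  constructor
  · intro hX
    have hXab : IsMulCommutative X := by
      rw [← le_centralizer_iff_isMulCommutative, Subgroup.le_centralizer_iff,
        ← Subgroup.commutator_eq_bot_iff_le_centralizer, eq_bot_iff]
      refine le_trans (mcl_commutator hX hQ.1) (le_of_eq ?_)
      rw [Subgroup.commutator_eq_bot_iff_le_centralizer]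
      exact le_centralizer_iff_isMulCommutative.2 hab
    exact ⟨hXab, fun B hB => (hbound B hB).trans (mcl_card hX hQ).1.ge⟩
  · rintro ⟨hXab, hXmax⟩
    have hcard : Nat.card X = Nat.card Q := le_antisymm (hbound X hXab) (hXmax Q hab)
    refine mcl_of_card_le hQ (cl_iff.2 ⟨?_, ?_⟩) hcard.le
    · show Nat.card X * _ = _
      rw [centralizer_maxAbelian ⟨hXab, hXmax⟩, hcard]
      conv_lhs => arg 2; rw [← hC]
      exact hQm
    · exact (centralizer_maxAbelian ⟨hXab, hXmax⟩).le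

/-! ### A minimal centrally large subgroup normalized by all the others and by `J` -/

/-- Commutators between two permutable abelian subgroups commute (Itô). -/
theorem ito {W V : Subgroup P} (hW : IsMulCommutative W) (hV : IsMulCommutative V)
    (hmul : ((W ⊔ V : Subgroup P) : Set P) = (W : Set P) * (V : Set P))
    {x a y b : P} (hx : x ∈ V) (ha : a ∈ W) (hy : y ∈ V) (hb : b ∈ W) :
    Commute ⁅x, a⁆ ⁅y, b⁆ := by
  have hWc : ∀ {s t : P}, s ∈ W → t ∈ W → Commute s t := fun hs ht =>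
    congrArg Subtype.val (hW.is_comm.comm ⟨_, hs⟩ ⟨_, ht⟩)
  have hVc : ∀ {s t : P}, s ∈ V → t ∈ V → Commute s t := fun hs ht =>
    congrArg Subtype.val (hV.is_comm.comm ⟨_, hs⟩ ⟨_, ht⟩)
  have hVW : ∀ g ∈ W ⊔ V, ∃ v ∈ V, ∃ w ∈ W, g = v * w := by
    intro g hg
    have := (W ⊔ V).inv_mem hg
    rw [← SetLike.mem_coe, hmul, Set.mem_mul] at this
    obtain ⟨w, hw, v, hv, h⟩ := this
    exact ⟨v⁻¹, V.inv_mem hv, w⁻¹, W.inv_mem hw, by rw [← mul_inv_rev, h, inv_inv]⟩
  have hWV : ∀ g ∈ W ⊔ V, ∃ w ∈ W, ∃ v ∈ V, g = w * v := by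
    intro g hg
    rw [← SetLike.mem_coe, hmul, Set.mem_mul] at hg
    obtain ⟨w, hw, v, hv, h⟩ := hg
    exact ⟨w, hw, v, hv, h.symm⟩
  -- conjugation by one factor moves only the other entry
  have hconjW : ∀ b ∈ W, ∀ x ∈ V, ∃ x' ∈ V, ∀ a ∈ W, b * ⁅x, a⁆ * b⁻¹ = ⁅x', a⁆ := by
    intro b hb x hx
    obtain ⟨v, hv, w, hw, h⟩ := hVW (b * x * b⁻¹) (Subgroup.mul_mem _ (Subgroup.mul_mem _
      (Subgroup.mem_sup_left hb) (Subgroup.mem_sup_right hx)) (Subgroup.mem_sup_left (W.inv_mem hb)))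
    refine ⟨v, hv, fun a ha => ?_⟩
    have hba : b * a * b⁻¹ = a := by rw [(hWc hb ha).eq, mul_inv_cancel_right]
    calc b * ⁅x, a⁆ * b⁻¹ = ⁅b * x * b⁻¹, b * a * b⁻¹⁆ := by
          simp only [commutatorElement_def]; group
      _ = v * (w * a * w⁻¹) * v⁻¹ * a⁻¹ := by rw [h, hba, commutatorElement_def]; group
      _ = ⁅v, a⁆ := by rw [(hWc hw ha).eq, mul_inv_cancel_right, commutatorElement_def]
  have hconjV : ∀ y ∈ V, ∀ a ∈ W, ∃ a' ∈ W, ∀ x ∈ V, y * ⁅x, a⁆ * y⁻¹ = ⁅x, a'⁆ := by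
    intro y hy a ha
    obtain ⟨w, hw, v, hv, h⟩ := hWV (y * a * y⁻¹) (Subgroup.mul_mem _ (Subgroup.mul_mem _
      (Subgroup.mem_sup_right hy) (Subgroup.mem_sup_left ha)) (Subgroup.mem_sup_right (V.inv_mem hy)))
    refine ⟨w, hw, fun x hx => ?_⟩
    have hyx : y * x * y⁻¹ = x := by rw [(hVc hy hx).eq, mul_inv_cancel_right]
    calc y * ⁅x, a⁆ * y⁻¹ = ⁅y * x * y⁻¹, y * a * y⁻¹⁆ := by
          simp only [commutatorElement_def]; group
      _ = x * w * (v * x⁻¹) * v⁻¹ * w⁻¹ := by rw [h, hyx, commutatorElement_def]; group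
      _ = ⁅x, w⁆ := by
          rw [(hVc hv (V.inv_mem hx)).eq, commutatorElement_def]; group
  obtain ⟨x', hx', hB⟩ := hconjW b hb x hx
  obtain ⟨a', ha', hY⟩ := hconjV y hy a ha
  have h1 : (b * y) * ⁅x, a⁆ * (b * y)⁻¹ = ⁅x', a'⁆ := by
    rw [← hB a' ha', ← hY x hx]; group
  have h2 : (y * b) * ⁅x, a⁆ * (y * b)⁻¹ = ⁅x', a'⁆ := by
    rw [← hY x' hx', ← hB a ha]; group
  -- pass from conjugation by `y b` and `b y` to the commutator
  have key : ∀ {y b : P}, y ∈ V → b ∈ W →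
      (∀ {x a : P}, x ∈ V → a ∈ W → (b * y) * ⁅x, a⁆ * (b * y)⁻¹ = (y * b) * ⁅x, a⁆ * (y * b)⁻¹) := by
    intro y b hy hb x a hx ha
    obtain ⟨x', hx', hB⟩ := hconjW b hb x hx
    obtain ⟨a', ha', hY⟩ := hconjV y hy a ha
    calc (b * y) * ⁅x, a⁆ * (b * y)⁻¹ = ⁅x', a'⁆ := by rw [← hB a' ha', ← hY x hx]; group
      _ = _ := by rw [← hY x' hx', ← hB a ha]; group
  have h3 := key (y := y⁻¹) (b := b⁻¹) (V.inv_mem hy) (W.inv_mem hb) (x := x) (a := a) hx ha
  have h4 : ⁅y, b⁆ * ⁅x, a⁆ = ⁅x, a⁆ * ⁅y, b⁆ := by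
    have h5 := congrArg (fun t => (y * b) * t * (y * b)⁻¹) h3
    simp only [mul_inv_rev, inv_inv] at h5
    rw [commutatorElement_def y b]
    have : y * b * (b⁻¹ * y⁻¹ * ⁅x, a⁆ * (y * b)) * (b⁻¹ * y⁻¹) = ⁅x, a⁆ := by group
    rw [this] at h5
    conv_rhs => rw [h5]
    group
  exact h4.symm

theorem mcl_replacement {Q : Subgroup P} (hQ : Cfsg.IsMinimalCentrallyLarge Q) {x : P}
    {V : Subgroup P} (hV : IsMulCommutative V) (hx : x ∈ V)
    (hmul : ((Subgroup.centralizer (Q : Set P) ⊔ V : Subgroup P) : Set P) =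
      (Subgroup.centralizer (Q : Set P) : Set P) * (V : Set P)) :
    ∃ Q' : Subgroup P, Cfsg.IsMinimalCentrallyLarge Q' ∧
      (Subgroup.centralizer (Q : Set P)) ⊓
          (Subgroup.centralizer (Q : Set P)).map (MulAut.conj x).toMonoidHom ≤
        Subgroup.centralizer (Q' : Set P) ∧
      ∀ a ∈ Subgroup.centralizer (Q : Set P), ⁅x, a⁆ ∈ Subgroup.centralizer (Q' : Set P) := by
  obtain ⟨hQm, hQC⟩ := cl_iff.1 hQ.1
  set W := Subgroup.centralizer (Q : Set P) with hW
  set R := Q.map (MulAut.conj x).toMonoidHom with hRdef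
  set W' := W.map (MulAut.conj x).toMonoidHom with hW'
  have hWab : IsMulCommutative W := le_centralizer_iff_isMulCommutative.1 (centralizer_anti hQC)
  have hW'C : Subgroup.centralizer (R : Set P) = W' := by
    ext y
    rw [hW', mem_map_conj_iff, hW, Subgroup.mem_centralizer_iff, Subgroup.mem_centralizer_iff]
    constructor
    · intro h q hq
      have := congrArg (fun t => x⁻¹ * t * x) (h _ (conj_mem_map hq))
      simpa [mul_assoc] using this
    · intro h u hu
      rw [hRdef, SetLike.mem_coe, mem_map_conj_iff] at hu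
      have := congrArg (fun t => x * t * x⁻¹) (h _ hu)
      simpa [mul_assoc] using this
  have hRm : Cfsg.IsCentralizerLarge R := by
    show Nat.card R * _ = _
    rw [hW'C, hW', hRdef, card_map_conj, card_map_conj]
    exact hQm
  have hR : Cfsg.IsCentrallyLarge R := by
    refine cl_iff.2 ⟨hRm, ?_⟩
    rw [hW'C]; exact Subgroup.map_mono hQC
  obtain ⟨-, -, hXm, -, hCX⟩ := large_pair hQm hRm
  rw [hW'C] at hCX
  set X := Q ⊓ R with hX
  set H := W ⊔ W' with hH
  set Z := W ⊓ W' with hZ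
  have hW'ab : IsMulCommutative W' := by
    rw [← hW'C]
    exact le_centralizer_iff_isMulCommutative.1 (centralizer_anti (cl_iff.1 hR).2)
  have hZH : H ≤ Subgroup.centralizer (Z : Set P) :=
    sup_le (le_trans (le_centralizer_iff_isMulCommutative.2 hWab) (centralizer_anti inf_le_left))
      (le_trans (le_centralizer_iff_isMulCommutative.2 hW'ab) (centralizer_anti inf_le_right))
  set U := Subgroup.closure ((fun a => ⁅x, a⁆) '' (W : Set P)) with hU
  have hUH : U ≤ H := by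
    rw [hU, Subgroup.closure_le]
    rintro _ ⟨a, ha, rfl⟩
    exact Subgroup.mul_mem _ (Subgroup.mem_sup_right (conj_mem_map (g := x) ha))
      (Subgroup.mem_sup_left (W.inv_mem ha))
  have hUab : IsMulCommutative U := by
    rw [hU]
    refine Subgroup.isMulCommutative_closure ?_
    rintro _ ⟨a, ha, rfl⟩ _ ⟨b, hb, rfl⟩
    exact ito hWab hV hmul hx ha hx hb
  set W₁ := Z ⊔ U with hW₁
  have hW₁ab : IsMulCommutative W₁ := isMulCommutative_sup
    (le_centralizer_iff_isMulCommutative.1 (le_trans inf_le_left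
      (le_trans (le_centralizer_iff_isMulCommutative.2 hWab) (centralizer_anti inf_le_left))))
    hUab (le_trans hUH hZH)
  -- the cosets of `Z` in `W` inject into those of `Z` in the new subgroup
  have hcard : Nat.card W ≤ Nat.card W₁ := by
    have hZW : Z ≤ W := inf_le_left
    have hZW₁ : Z ≤ W₁ := le_sup_left
    rw [← Subgroup.card_mul_index (Z.subgroupOf W), ← Subgroup.card_mul_index (Z.subgroupOf W₁),
      Nat.card_congr (Subgroup.subgroupOfEquivOfLe hZW).toEquiv,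
      Nat.card_congr (Subgroup.subgroupOfEquivOfLe hZW₁).toEquiv]
    refine Nat.mul_le_mul_left _ ?_
    rw [Subgroup.index_eq_card, Subgroup.index_eq_card]
    refine Nat.card_le_card_of_injective (fun c => QuotientGroup.mk
      (⟨⁅x, (c.out : P)⁆, Subgroup.mem_sup_right (Subgroup.subset_closure ⟨_, c.out.2, rfl⟩)⟩ : W₁))
      ?_
    intro c d hcd
    rw [QuotientGroup.eq, Subgroup.mem_subgroupOf] at hcd
    rw [← QuotientGroup.out_eq' c, ← QuotientGroup.out_eq' d, QuotientGroup.eq,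
      Subgroup.mem_subgroupOf]
    set a := (c.out : P) with ha
    set b := (d.out : P) with hb
    have haW : a ∈ W := c.out.2
    have hbW : b ∈ W := d.out.2
    change (⁅x, a⁆)⁻¹ * ⁅x, b⁆ ∈ Z at hcd
    show a⁻¹ * b ∈ Z
    refine ⟨W.mul_mem (W.inv_mem haW) hbW, ?_⟩
    set z := (⁅x, a⁆)⁻¹ * ⁅x, b⁆ with hzdef
    have hza : Commute a z := congrArg Subtype.val (hWab.is_comm.comm ⟨a, haW⟩ ⟨z, hcd.1⟩)
    have hconj : x * (a⁻¹ * b) * x⁻¹ = a⁻¹ * b * z := by
      have h1 : ⁅x, b⁆ = ⁅x, a⁆ * z := by rw [hzdef, mul_inv_cancel_left]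
      rw [commutatorElement_def, commutatorElement_def] at h1
      calc x * (a⁻¹ * b) * x⁻¹ = (x * a * x⁻¹)⁻¹ * (x * b * x⁻¹ * b⁻¹) * b := by group
        _ = a⁻¹ * (z * b) := by rw [h1]; group
        _ = a⁻¹ * b * z := by
          have hzb : Commute z b := congrArg Subtype.val (hWab.is_comm.comm ⟨z, hcd.1⟩ ⟨b, hbW⟩)
          rw [hzb.eq]; group
    have h2 : a⁻¹ * b * z ∈ W' := hconj ▸ conj_mem_map (W.mul_mem (W.inv_mem haW) hbW)
    exact (W'.mul_mem_cancel_right hcd.2).1 h2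
  set Q' := X ⊔ W₁ with hQ'
  have hXW₁ : X ⊓ W₁ ≤ Z := by
    intro g hg
    have hgH : g ∈ H := (sup_le (le_trans inf_le_left le_sup_left) hUH) hg.2
    rw [← hCX] at hgH
    have h1 : g ∈ X ⊓ Subgroup.centralizer (X : Set P) := ⟨hg.1, hgH⟩
    refine ⟨?_, ?_⟩
    · rw [hX, ← mcl_inf_center hQ hR] at h1
      exact h1.2
    · rw [← hW'C]
      have hRmin : Cfsg.IsMinimalCentrallyLarge R :=
        mcl_of_card_le hQ hR (card_map_conj Q x).le
      rw [hX, inf_comm Q R, ← mcl_inf_center hRmin hQ.1] at h1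
      exact h1.2
  have hXC : X ⊔ W₁ ≤ Subgroup.centralizer (W₁ : Set P) := by
    refine sup_le ?_ (le_centralizer_iff_isMulCommutative.2 hW₁ab)
    rw [Subgroup.le_centralizer_iff, hCX]
    exact sup_le (le_trans inf_le_left le_sup_left) hUH
  -- counting shows the new subgroup lies in the lattice
  have hsize : Nat.card Q ≤ Nat.card ↥(X ⊔ W₁) := by
    have h1 := card_mul_card_le X W₁
    have h2 : Nat.card ↥(X ⊓ W₁) ≤ Nat.card Z := Subgroup.card_le_of_le hXW₁
    have h3 : Nat.card X * Nat.card W = Nat.card Q * Nat.card ↥(X ⊓ W) := by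
      conv_rhs => arg 1; rw [← mcl_decomp hQ hR]
      rw [← card_mul_inter,
        ← (large_pair hXm (large_centralizer hQm).1).1]
      rfl
    have h4 : Nat.card Z ≤ Nat.card ↥(X ⊓ W) :=
      Subgroup.card_le_of_le (le_inf (le_inf (le_trans inf_le_left hQC)
        (le_trans inf_le_right (Subgroup.map_mono hQC))) inf_le_left)
    refine Nat.le_of_mul_le_mul_right (a := Nat.card Q) (b := Nat.card ↥(X ⊔ W₁))
      (c := Nat.card ↥(X ⊓ W)) ?_ Nat.card_pos
    rw [← h3]
    calc Nat.card X * Nat.card W ≤ Nat.card X * Nat.card W₁ := Nat.mul_le_mul_left _ hcard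
      _ ≤ _ := h1
      _ ≤ _ := Nat.mul_le_mul_left _ (le_trans h2 h4)
  have hm : Cfsg.IsCentralizerLarge W₁ := by
    refine meas_max_of_le ?_
    rw [← (hQm : Nat.card ↥Q * _ = _), mul_comm]
    exact Nat.mul_le_mul hcard (le_trans hsize (Subgroup.card_le_of_le hXC))
  have heq : Nat.card ↥(Subgroup.centralizer (W₁ : Set P)) = Nat.card Q ∧
      Nat.card W₁ = Nat.card W := by
    have h1 : Nat.card W₁ * Nat.card ↥(Subgroup.centralizer (W₁ : Set P)) =
        Nat.card Q * Nat.card W := hm.trans hQm.symm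
    have h2 := le_trans hsize (Subgroup.card_le_of_le hXC)
    have h3 : Nat.card ↥(Subgroup.centralizer (W₁ : Set P)) = Nat.card Q := by
      refine le_antisymm ?_ h2
      refine Nat.le_of_mul_le_mul_left (?_ : Nat.card W * _ ≤ Nat.card W * Nat.card Q) Nat.card_pos
      calc Nat.card W * _ ≤ Nat.card W₁ * _ := Nat.mul_le_mul_right _ hcard
        _ = Nat.card W * Nat.card Q := by rw [h1, mul_comm]
    refine ⟨h3, ?_⟩
    rw [h3, mul_comm] at h1
    exact Nat.eq_of_mul_eq_mul_left Nat.card_pos h1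
  obtain ⟨hQ₁m, hCC⟩ := large_centralizer hm
  have hQ₁ : Cfsg.IsCentrallyLarge (Subgroup.centralizer (W₁ : Set P)) := by
    refine cl_iff.2 ⟨hQ₁m, ?_⟩
    rw [← hCC]
    exact le_centralizer_iff_isMulCommutative.2 hW₁ab
  refine ⟨_, mcl_of_card_le hQ hQ₁ heq.1.le, ?_, ?_⟩
  · rw [← hCC]; exact le_sup_left
  · intro a ha
    rw [← hCC]
    exact Subgroup.mem_sup_right (Subgroup.subset_closure ⟨a, ha, rfl⟩)

theorem exists_mcl_normalized [Group.IsNilpotent P] :
    ∃ Q : Subgroup P, Cfsg.IsMinimalCentrallyLarge Q ∧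
      Cfsg.thompsonSubgroupA P ≤ Subgroup.normalizer (Q : Set P) ∧
      Cfsg.minimalCentrallyLargeJoin P ≤ Subgroup.normalizer (Q : Set P) := by
  classical
  haveI := Fintype.ofFinite P
  set n := Group.nilpotencyClass P with hn
  let Zs : ℕ → Subgroup P := fun i => Subgroup.upperCentralSeries P i
  let f : Subgroup P → Lex (Fin (n + 1) → ℕ) := fun Q =>
    toLex fun i => Nat.card ↥(Subgroup.centralizer (Q : Set P) ⊓ Zs i)
  obtain ⟨Q, hQmem, hmax⟩ := Finset.exists_max_image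
    (Finset.univ.filter fun Q : Subgroup P => Cfsg.IsMinimalCentrallyLarge Q) f (by
      obtain ⟨Q₀, hQ₀⟩ := exists_cl (P := P)
      obtain ⟨Q, -, hQ⟩ := exists_mcl_le hQ₀
      exact ⟨Q, by simp [hQ]⟩)
  have hQ : Cfsg.IsMinimalCentrallyLarge Q := (Finset.mem_filter.1 hQmem).2
  obtain ⟨hQm, hQC⟩ := cl_iff.1 hQ.1
  set W := Subgroup.centralizer (Q : Set P) with hW
  have key : ∀ V : Subgroup P, IsMulCommutative V →
      ((W ⊔ V : Subgroup P) : Set P) = (W : Set P) * (V : Set P) →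
      V ≤ Subgroup.normalizer (W : Set P) := by
    intro V hV hmul x hx
    by_contra hxn
    have hex : ∃ i : ℕ, i ≤ n ∧ ∃ a ∈ W ⊓ Zs i, ⁅x, a⁆ ∉ W := by
      refine ⟨n, le_rfl, ?_⟩
      by_contra hall
      push Not at hall
      refine hxn (mem_normalizer_iff_map.2 (Subgroup.eq_of_le_of_card_ge ?_ (card_map_conj W x).ge))
      rintro _ ⟨a, ha, rfl⟩
      have := hall a ⟨ha, by
        show a ∈ Subgroup.upperCentralSeries P (Group.nilpotencyClass P)
        rw [Subgroup.upperCentralSeries_nilpotencyClass]; exact Subgroup.mem_top a⟩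
      simpa [commutatorElement_def] using W.mul_mem this ha
    obtain ⟨i, ⟨hin, a, ⟨ha, hai⟩, hau⟩, hi⟩ :
        ∃ i, (i ≤ n ∧ ∃ a ∈ W ⊓ Zs i, ⁅x, a⁆ ∉ W) ∧
          ∀ j, j < i → ¬(j ≤ n ∧ ∃ a ∈ W ⊓ Zs j, ⁅x, a⁆ ∉ W) :=
      ⟨Nat.find hex, Nat.find_spec hex, fun j => Nat.find_min hex (m := j)⟩
    obtain ⟨k, rfl⟩ : ∃ k, i = k + 1 := by
      refine Nat.exists_eq_succ_of_ne_zero fun h0 => hau ?_
      subst h0
      have : a = 1 := by
        have h1 : a ∈ Subgroup.upperCentralSeries P 0 := hai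
        simpa using h1
      subst this
      simpa [commutatorElement_def] using W.one_mem
    have huk : ⁅x, a⁆ ∈ Zs k := by
      have h1 : a ∈ Subgroup.upperCentralSeries P (k + 1) := hai
      rw [Subgroup.mem_upperCentralSeries_succ_iff] at h1
      have h2 := (Subgroup.upperCentralSeries P k).inv_mem (h1 x)
      show ⁅x, a⁆ ∈ Subgroup.upperCentralSeries P k
      rw [← commutatorElement_inv a x]
      exact h2
    obtain ⟨Q', hQ', hZle, hU⟩ := mcl_replacement hQ hV hx hmul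
    have hlow : ∀ j, j ≤ k → W ⊓ Zs j ≤ Subgroup.centralizer (Q' : Set P) ⊓ Zs j := by
      intro j hj
      refine le_inf (fun c hc => hZle ⟨hc.1, ?_⟩) inf_le_right
      show c ∈ W.map (MulAut.conj x).toMonoidHom
      rw [mem_map_conj_iff]
      have hall : ∀ c ∈ W ⊓ Zs j, ⁅x, c⁆ ∈ W := by
        intro c hc
        by_contra h
        exact hi j (by omega) ⟨by omega, c, hc, h⟩
      haveI : (Zs j).Normal := by
        show (Subgroup.upperCentralSeries P j).Normal
        infer_instance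
      have hmap : (W ⊓ Zs j).map (MulAut.conj x).toMonoidHom = W ⊓ Zs j := by
        refine Subgroup.eq_of_le_of_card_ge ?_ (card_map_conj _ x).ge
        rintro _ ⟨d, hd, rfl⟩
        refine ⟨?_, ‹(Zs j).Normal›.conj_mem _ hd.2 x⟩
        simpa [commutatorElement_def] using W.mul_mem (hall d hd) hd.1
      rw [← hmap, mem_map_conj_iff] at hc
      exact hc.1
    have hlt : W ⊓ Zs k < Subgroup.centralizer (Q' : Set P) ⊓ Zs k :=
      lt_of_le_of_ne (hlow k le_rfl) fun he => hau (he.ge ⟨hU a ha, huk⟩).1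
    have hfk : f Q < f Q' := by
      -- first index where the profiles differ
      have hexj : ∃ j, j ≤ k ∧ W ⊓ Zs j ≠ Subgroup.centralizer (Q' : Set P) ⊓ Zs j :=
        ⟨k, le_rfl, hlt.ne⟩
      refine ⟨⟨Nat.find hexj, by have := (Nat.find_spec hexj).1; omega⟩, fun j hj => ?_, ?_⟩
      · show Nat.card ↥(W ⊓ Zs j) = _
        have hjlt : (j : ℕ) < Nat.find hexj := hj
        have h := Nat.find_min hexj hjlt
        have hjk : (j : ℕ) ≤ k := by have := (Nat.find_spec hexj).1; omega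
        rw [not_not.1 fun hne => h ⟨hjk, hne⟩]
        rfl
      · obtain ⟨hjk, hne⟩ := Nat.find_spec hexj
        exact Nat.lt_of_le_of_ne (Subgroup.card_le_of_le (hlow _ hjk)) fun hc =>
          hne (Subgroup.eq_of_le_of_card_ge (hlow _ hjk) hc.ge)
    exact absurd (hmax Q' (by simp [hQ'])) (not_le.2 hfk)
  have hnorm : Subgroup.normalizer (W : Set P) ≤ Subgroup.normalizer (Q : Set P) := by
    refine le_trans (normalizer_le_normalizer_centralizer W) (le_of_eq ?_)
    rw [hW, ← (large_centralizer hQm).2]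
  refine ⟨Q, hQ, sSup_le fun A hA => le_trans ?_ hnorm, sSup_le fun R hR => ?_⟩
  · have h := (cl_abelian hQ.1 hA).2.2.2
    change _ = ((Q ⊓ Subgroup.centralizer (Q : Set P) : Subgroup P) : Set P) * (A : Set P) at h
    rw [inf_eq_right.2 hQC] at h
    exact key A hA.1 h
  · obtain ⟨hRm, hRC⟩ := cl_iff.1 hR.1
    rw [← mcl_decomp hR hQ.1]
    refine sup_le (le_trans inf_le_right Subgroup.le_normalizer) (le_trans ?_ hnorm)
    exact key _ (le_centralizer_iff_isMulCommutative.1 (centralizer_anti hRC))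
      (large_pair (large_centralizer hQm).1 (large_centralizer hRm).1).1

end Cfsg.Agent.LAE65
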