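import Mathlib

/-!
An elementary bound: a finite group `E` acting faithfully on `V = kⁿ` and by semilinear-free
maps on `M`, with an equivariant bijection `V ⊗ M → Mⁿ` given by `n` families of pairwise
commuting operators, has order at most `dim M`.
-/

set_option autoImplicit false

namespace Cfsg.Agent.LAE65.EigvecBound

universe u v w

variable {k : Type u} [Field k]

/-- Finitely many pairwise commuting operators on a nonzero space over an algebraically
closed field have a common eigenvector inside any invariant nonzero subspace. -/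
theorem exists_joint_eigvec [IsAlgClosed k] {M : Type v} [AddCommGroup M] [Module k M]
    [FiniteDimensional k M] {ι : Type*} (s : Finset ι) (f : ι → Module.End k M)
    (hcomm : ∀ i ∈ s, ∀ j ∈ s, Commute (f i) (f j)) (hM : 0 < Module.finrank k M) :
    ∃ (x : M) (μ : ι → k), x ≠ 0 ∧ ∀ i ∈ s, f i x = μ i • x := by
  classical
  suffices H : ∀ t : Finset ι, t ⊆ s → ∃ (W : Submodule k M) (μ : ι → k),
      W ≠ ⊥ ∧ (∀ i ∈ s, ∀ y ∈ W, f i y ∈ W) ∧ ∀ i ∈ t, ∀ y ∈ W, f i y = μ i • y by
    obtain ⟨W, μ, hW, -, hμ⟩ := H s subset_rfl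
    obtain ⟨x, hx, hx0⟩ := W.exists_mem_ne_zero_of_ne_bot hW
    exact ⟨x, μ, hx0, fun i hi => hμ i hi x hx⟩
  intro t
  induction t using Finset.induction_on with
  | empty =>
    intro _
    refine ⟨⊤, fun _ => 0, ?_, fun _ _ _ _ => Submodule.mem_top, fun i hi => ?_⟩
    · have : Nontrivial M := Module.nontrivial_of_finrank_pos hM
      exact top_ne_bot
    · simp at hi
  | @insert a t hat ih =>
    intro hsub
    have has : a ∈ s := hsub (Finset.mem_insert_self a t)
    obtain ⟨W, μ, hW, hinv, hμ⟩ := ih (fun i hi => hsub (Finset.mem_insert_of_mem hi))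
    have : Nontrivial W := Submodule.nontrivial_iff_ne_bot.2 hW
    obtain ⟨c, hc⟩ := Module.End.exists_eigenvalue ((f a).restrict (hinv a has))
    obtain ⟨y, hy⟩ := hc.exists_hasEigenvector
    have hyc : f a (y : M) = c • (y : M) := congrArg Subtype.val hy.apply_eq_smul
    refine ⟨W ⊓ (f a).eigenspace c, Function.update μ a c, ?_, ?_, ?_⟩
    · rw [Submodule.ne_bot_iff]
      exact ⟨y, ⟨y.2, Module.End.mem_eigenspace_iff.2 hyc⟩,
        fun h => hy.2 (Subtype.ext h)⟩
    · intro i hi z hz
      refine ⟨hinv i hi z hz.1, Module.End.mem_eigenspace_iff.2 ?_⟩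
      have hz2 : f a z = c • z := Module.End.mem_eigenspace_iff.1 hz.2
      calc f a (f i z) = f i (f a z) := DFunLike.congr_fun (hcomm a has i hi).eq z
        _ = c • f i z := by rw [hz2, map_smul]
    · intro i hi z hz
      rcases Finset.mem_insert.1 hi with rfl | hi'
      · rw [Function.update_self]
        exact Module.End.mem_eigenspace_iff.1 hz.2
      · rw [Function.update_of_ne (fun h : i = a => hat (h ▸ hi'))]
        exact hμ i hi' z hz.1

/-- If two linear families of operators commute on the basis vectors and on sums of two basis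
vectors, they commute at every vector. -/
theorem commute_of_basis {R : Type v} [Ring R] [Algebra k R] {n : ℕ}
    (f g : (Fin n → k) →ₗ[k] R)
    (hbasis : ∀ l, Commute (f (Pi.single l 1)) (g (Pi.single l 1)))
    (hpair : ∀ l l', Commute (f (Pi.single l 1 + Pi.single l' 1)) (g (Pi.single l 1 + Pi.single l' 1)))
    (x : Fin n → k) : Commute (f x) (g x) := by
  classical
  have hcross : ∀ l l', f (Pi.single l 1) * g (Pi.single l' 1) + f (Pi.single l' 1) * g (Pi.single l 1)
      = g (Pi.single l 1) * f (Pi.single l' 1) + g (Pi.single l' 1) * f (Pi.single l 1) := by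
    intro l l'
    have h := (hpair l l').eq
    have h1 := (hbasis l).eq
    have h2 := (hbasis l').eq
    simp only [map_add, add_mul, mul_add] at h
    rw [h1, h2] at h
    have h' : g (Pi.single l 1) * f (Pi.single l 1) + g (Pi.single l' 1) * f (Pi.single l' 1)
          + (f (Pi.single l 1) * g (Pi.single l' 1) + f (Pi.single l' 1) * g (Pi.single l 1))
        = g (Pi.single l 1) * f (Pi.single l 1) + g (Pi.single l' 1) * f (Pi.single l' 1)
          + (g (Pi.single l 1) * f (Pi.single l' 1) + g (Pi.single l' 1) * f (Pi.single l 1)) := by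
      refine Eq.trans ?_ (h.trans ?_) <;> abel
    exact add_left_cancel h'
  have key : ∀ s : Finset (Fin n), Commute (f (∑ l ∈ s, x l • Pi.single l 1))
      (g (∑ l ∈ s, x l • Pi.single l 1)) := by
    intro s
    induction s using Finset.induction_on with
    | empty => simp
    | @insert a s has ih =>
      have hX : Commute (f (x a • Pi.single a 1)) (g (x a • Pi.single a 1)) := by
        rw [map_smul, map_smul]
        exact ((hbasis a).smul_left (x a)).smul_right (x a)
      have hmix : f (x a • Pi.single a 1) * g (∑ l ∈ s, x l • Pi.single l 1)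
            + f (∑ l ∈ s, x l • Pi.single l 1) * g (x a • Pi.single a 1)
          = g (x a • Pi.single a 1) * f (∑ l ∈ s, x l • Pi.single l 1)
            + g (∑ l ∈ s, x l • Pi.single l 1) * f (x a • Pi.single a 1) := by
        simp only [map_smul, map_sum, Finset.mul_sum, Finset.sum_mul, smul_mul_assoc,
          mul_smul_comm, smul_smul, Finset.smul_sum]
        rw [← Finset.sum_add_distrib, ← Finset.sum_add_distrib]
        refine Finset.sum_congr rfl fun l _ => ?_
        rw [mul_comm (x l) (x a), ← smul_add, ← smul_add, hcross]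
      rw [Finset.sum_insert has, map_add, map_add]
      show _ * _ = _ * _
      simp only [add_mul, mul_add]
      rw [hX.eq, ih.eq]
      refine Eq.trans ?_ (Eq.trans (congrArg (fun t =>
        g (x a • Pi.single a 1) * f (x a • Pi.single a 1)
          + g (∑ l ∈ s, x l • Pi.single l 1) * f (∑ l ∈ s, x l • Pi.single l 1) + t) hmix) ?_) <;> abel
  have hx : x = ∑ l, x l • Pi.single l (1 : k) := by
    simpa using pi_eq_sum_univ' x
  rw [hx]
  exact key Finset.univ

/-- A field which is infinite: a space is not the union of finitely many proper subspaces. -/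
theorem exists_notMem [Infinite k] {V : Type v} [AddCommGroup V] [Module k V] {ι : Type*} [Finite ι]
    (W : ι → Submodule k V) (hW : ∀ i, W i ≠ ⊤) : ∃ x : V, ∀ i, x ∉ W i := by
  by_contra! h
  obtain ⟨i, hi⟩ := Subspace.exists_eq_top_of_iUnion_eq_univ (p := W)
    (Set.eq_univ_of_forall fun x => Set.mem_iUnion.2 (h x))
  exact hW i hi

/-- The bound. -/
theorem card_le_finrank [IsAlgClosed k] {M : Type v} [AddCommGroup M] [Module k M]
    [FiniteDimensional k M] (hM : 0 < Module.finrank k M) {E : Type w} [Group E] [Finite E] {n : ℕ}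
    (ρ : E →* ((Fin n → k) →ₗ[k] (Fin n → k))) (hinj : Function.Injective ρ)
    (u : E → (M ≃ₗ[k] M)) (A : Fin n → ((Fin n → k) →ₗ[k] Module.End k M))
    (hequiv : ∀ i g c y, A i (ρ g c) (u g y) = u g (A i c y))
    (hbasis : ∀ i j l, Commute (A i (Pi.single l 1)) (A j (Pi.single l 1)))
    (hpair : ∀ i j l l', Commute (A i (Pi.single l 1 + Pi.single l' 1))
      (A j (Pi.single l 1 + Pi.single l' 1)))
    (hJ : ∀ y : Fin n → M, (∀ i, ∑ l, A i (Pi.single l 1) (y l) = 0) → y = 0) :
    Nat.card E ≤ Module.finrank k M := by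
  classical
  have : Infinite k := IsAlgClosed.instInfinite
  have hAv : ∀ i (c : Fin n → k) (y : M),
      A i c y = ∑ l, A i (Pi.single l 1) (c l • y) := by
    intro i c y
    conv_lhs => rw [show c = ∑ l, c l • Pi.single l (1 : k) by simpa using pi_eq_sum_univ' c]
    simp [map_sum, LinearMap.sum_apply]
  -- a vector with trivial stabiliser
  obtain ⟨c, hc⟩ := exists_notMem (ι := {g : E // g ≠ 1})
    (fun g => LinearMap.ker (ρ g.1 - 1)) (fun g h => g.2 (hinj (by
      rw [map_one]
      exact sub_eq_zero.1 (LinearMap.ker_eq_top.1 h))))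
  have hfree : Function.Injective fun g : E => ρ g c := by
    intro g g' hgg
    by_contra hne
    apply hc ⟨g'⁻¹ * g, fun h => hne (inv_mul_eq_one.1 h).symm⟩
    rw [LinearMap.mem_ker, LinearMap.sub_apply, sub_eq_zero, map_mul]
    show ρ g'⁻¹ (ρ g c) = c
    rw [show ρ g c = ρ g' c from hgg, ← Module.End.mul_apply, ← map_mul, inv_mul_cancel, map_one]
    rfl
  -- a joint eigenvector at that vector
  obtain ⟨x, μ, hx0, hx⟩ := exists_joint_eigvec Finset.univ (fun i => A i c)
    (fun i _ j _ => commute_of_basis (A i) (A j) (hbasis i j) (hpair i j) c) hM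
  -- the operator `J`
  let J : (Fin n → M) →ₗ[k] (Fin n → M) :=
    LinearMap.pi fun i => ∑ l, (A i (Pi.single l 1)).comp (LinearMap.proj l)
  have hJapp : ∀ y i, J y i = ∑ l, A i (Pi.single l 1) (y l) := by
    intro y i; simp [J, LinearMap.sum_apply]
  have hJinj : Function.Injective J := by
    rw [injective_iff_map_eq_zero]
    intro y hy
    exact hJ y fun i => by rw [← hJapp, hy]; rfl
  let e := LinearEquiv.ofInjectiveEndo J hJinj
  let P : M →ₗ[k] (Fin n → M) := (e.symm : (Fin n → M) →ₗ[k] (Fin n → M)).comp
    (LinearMap.pi fun i => μ i • (LinearMap.id : M →ₗ[k] M))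
  have hP : ∀ g : E, P (u g x) = fun l => (ρ g c) l • u g x := by
    intro g
    apply hJinj
    show e (e.symm _) = _
    rw [LinearEquiv.apply_symm_apply]
    funext i
    rw [hJapp, ← hAv i (ρ g c) (u g x), hequiv, hx i (Finset.mem_univ i), map_smul]
    simp
  -- separate the translates by one functional
  obtain ⟨η, hη⟩ := exists_notMem (ι := {p : E × E // p.1 ≠ p.2})
    (fun p => LinearMap.ker (∑ l, (ρ p.1.1 c l - ρ p.1.2 c l) •
      (LinearMap.proj l : (Fin n → k) →ₗ[k] k))) (fun p h => p.2 (hfree (funext fun l => by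
        have := LinearMap.congr_fun (LinearMap.ker_eq_top.1 h) (Pi.single l 1)
        simp [LinearMap.sum_apply, Pi.single_apply] at this
        exact sub_eq_zero.1 this)))
  let B : Module.End k M := ∑ l, η l • (LinearMap.proj l).comp P
  have hB : ∀ g : E, B (u g x) = (∑ l, η l * ρ g c l) • u g x := by
    intro g
    simp only [B, LinearMap.sum_apply, LinearMap.smul_apply, LinearMap.comp_apply,
      LinearMap.proj_apply, hP, smul_smul, Finset.sum_smul]
  have : Fintype E := Fintype.ofFinite E
  have hdist : Function.Injective fun g : E => ∑ l, η l * ρ g c l := by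
    intro g g' hgg
    by_contra hne
    apply hη ⟨(g, g'), hne⟩
    rw [LinearMap.mem_ker]
    simp only [LinearMap.sum_apply, LinearMap.smul_apply, LinearMap.proj_apply, smul_eq_mul,
      sub_mul, Finset.sum_sub_distrib]
    rw [sub_eq_zero]
    simpa [mul_comm] using hgg
  have hli := Module.End.eigenvectors_linearIndependent' B _ hdist (fun g => u g x)
    (fun g => ⟨Module.End.mem_eigenspace_iff.2 (hB g), fun h => hx0 ((u g).map_eq_zero_iff.1 h)⟩)
  rw [Nat.card_eq_fintype_card]
  exact hli.fintype_card_le_finrank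

/-- With `|E| = (dim M)²` the group is trivial. -/
theorem card_eq_one [IsAlgClosed k] {M : Type v} [AddCommGroup M] [Module k M]
    [FiniteDimensional k M] {E : Type w} [Group E] [Finite E] {n : ℕ}
    (hsq : Nat.card E = Module.finrank k M ^ 2)
    (ρ : E →* ((Fin n → k) →ₗ[k] (Fin n → k))) (hinj : Function.Injective ρ)
    (u : E → (M ≃ₗ[k] M)) (A : Fin n → ((Fin n → k) →ₗ[k] Module.End k M))
    (hequiv : ∀ i g c y, A i (ρ g c) (u g y) = u g (A i c y))
    (hbasis : ∀ i j l, Commute (A i (Pi.single l 1)) (A j (Pi.single l 1)))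
    (hpair : ∀ i j l l', Commute (A i (Pi.single l 1 + Pi.single l' 1))
      (A j (Pi.single l 1 + Pi.single l' 1)))
    (hJ : ∀ y : Fin n → M, (∀ i, ∑ l, A i (Pi.single l 1) (y l) = 0) → y = 0) :
    Nat.card E = 1 := by
  have hpos : 0 < Nat.card E := Nat.card_pos
  have hM : 0 < Module.finrank k M := by
    rcases Nat.eq_zero_or_pos (Module.finrank k M) with h | h
    · rw [h] at hsq; simp [hsq] at hpos
    · exact h
  have h := card_le_finrank hM ρ hinj u A hequiv hbasis hpair hJ
  rw [hsq] at h ⊢
  have : Module.finrank k M ≤ 1 := by nlinarith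
  have h1 : Module.finrank k M = 1 := by omega
  rw [h1, one_pow]

end Cfsg.Agent.LAE65.EigvecBound
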