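import Cfsg.Prelude.Def_IsolatedElements
import Cfsg.Prelude.Def_Transfer
import Mathlib.GroupTheory.Transfer
import Mathlib.NumberTheory.Basic
import Cfsg.Agent.LAE65.Basic

set_option autoImplicit false
set_option linter.style.haveILetI false

namespace Cfsg.Agent.LAE65

variable {G : Type*} [Group G] {p : ℕ}

theorem conj_comm_swap (a b x : G) (h : a * x * a⁻¹ * (b * x * b⁻¹) = b * x * b⁻¹ * (a * x * a⁻¹)) :
    Commute x (a⁻¹ * b * x * (a⁻¹ * b)⁻¹) := by
  have h2 := congrArg (fun z => a⁻¹ * z * a) h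
  simpa [Commute, SemiconjBy, mul_assoc] using h2

theorem isolated_eq_of_commute {x a b : G} (hiso : Cfsg.IsIsolated x)
    (h : Commute (a * x * a⁻¹) (b * x * b⁻¹)) : a * x * a⁻¹ = b * x * b⁻¹ := by
  have h1 := hiso _ (conj_comm_swap a b x h)
  conv_lhs => rw [← h1]
  simp [mul_assoc]

/-- An isolated element of a `p`-subgroup is central in it. -/
theorem isolated_commute_of_mem [Finite G] [Fact p.Prime] {x : G} (hiso : Cfsg.IsIsolated x)
    {R : Subgroup G} (hR : IsPGroup p R) (hxR : x ∈ R) {r : G} (hr : r ∈ R) :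
    r * x * r⁻¹ = x := by
  let K : Set G := (fun s : R => (s : G) * x * (s : G)⁻¹) '' Set.univ
  letI : MulAction (Subgroup.zpowers x) K :=
    { smul := fun a k => ⟨(a : G) * k.1 * (a : G)⁻¹, by
        obtain ⟨s, -, hs⟩ := k.2
        refine ⟨⟨(a : G) * s, R.mul_mem (Subgroup.zpowers_le.2 hxR a.2) s.2⟩, trivial, ?_⟩
        simp only [← hs]; group⟩
      one_smul := fun k => Subtype.ext (by show (1 : G) * k.1 * (1 : G)⁻¹ = k.1; group)
      mul_smul := fun a b k => Subtype.ext (by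
        show ((a : G) * b) * k.1 * ((a : G) * b)⁻¹ = (a : G) * ((b : G) * k.1 * (b : G)⁻¹) * (a : G)⁻¹
        group) }
  have hfix : MulAction.fixedPoints (Subgroup.zpowers x) K = {(⟨x, ⟨1, trivial, by simp⟩⟩ : K)} := by
    ext k
    simp only [MulAction.mem_fixedPoints, Set.mem_singleton_iff]
    constructor
    · intro hk
      obtain ⟨s, -, hs⟩ := k.2
      have h1 : x * k.1 * x⁻¹ = k.1 := congrArg Subtype.val (hk ⟨x, Subgroup.mem_zpowers x⟩)
      apply Subtype.ext
      rw [← hs] at h1 ⊢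
      exact hiso _ (mul_inv_eq_iff_eq_mul.1 h1)
    · rintro rfl a
      apply Subtype.ext
      show (a : G) * x * (a : G)⁻¹ = x
      obtain ⟨n, hn⟩ := Subgroup.mem_zpowers_iff.1 a.2
      rw [← hn]; group
  have hmod := (isPGroup_zpowers_of_mem hR hxR).card_modEq_card_fixedPoints K
  rw [hfix] at hmod
  have hone : Nat.card ({(⟨x, ⟨1, trivial, by simp⟩⟩ : K)} : Set K) = 1 := by simp
  rw [hone] at hmod
  letI : MulAction R K :=
    { smul := fun a k => ⟨(a : G) * k.1 * (a : G)⁻¹, by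
        obtain ⟨s, -, hs⟩ := k.2
        refine ⟨a * s, trivial, ?_⟩
        simp only [← hs, Subgroup.coe_mul]; group⟩
      one_smul := fun k => Subtype.ext (by show (1 : G) * k.1 * (1 : G)⁻¹ = k.1; group)
      mul_smul := fun a b k => Subtype.ext (by
        show ((a : G) * b) * k.1 * ((a : G) * b)⁻¹ = (a : G) * ((b : G) * k.1 * (b : G)⁻¹) * (a : G)⁻¹
        group) }
  have hpre : MulAction.IsPretransitive R K := by
    constructor
    intro k l
    obtain ⟨s, -, hs⟩ := k.2
    obtain ⟨t, -, ht⟩ := l.2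
    refine ⟨t * s⁻¹, Subtype.ext ?_⟩
    show ((t * s⁻¹ : R) : G) * k.1 * ((t * s⁻¹ : R) : G)⁻¹ = l.1
    rw [← hs, ← ht, Subgroup.coe_mul, Subgroup.coe_inv]
    group
  obtain ⟨n, hn⟩ := hR.card_orbit (⟨x, ⟨1, trivial, by simp⟩⟩ : K)
  rw [MulAction.orbit_eq_univ, Nat.card_univ] at hn
  rw [hn] at hmod
  have hn0 : n = 0 := by
    by_contra hn0
    have : p ^ n ≡ 0 [MOD p] := Nat.modEq_zero_iff_dvd.2 (dvd_pow_self p hn0)
    exact (Fact.out : p.Prime).one_lt.ne'
      (Nat.dvd_one.1 (Nat.modEq_zero_iff_dvd.1 (hmod.symm.trans this)))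
  subst hn0
  rw [pow_zero] at hn
  haveI : Subsingleton K := (Nat.card_eq_one_iff_unique.1 hn).1
  exact congrArg Subtype.val (Subsingleton.elim
    (⟨r * x * r⁻¹, ⟨⟨r, hr⟩, trivial, rfl⟩⟩ : K) ⟨x, ⟨1, trivial, by simp⟩⟩)

theorem isolated_normalizer_le [Finite G] [Fact p.Prime] {x : G} (hiso : Cfsg.IsIsolated x)
    {R : Subgroup G} (hR : IsPGroup p R) (hxR : x ∈ R) :
    Subgroup.normalizer (R : Set G) ≤ Subgroup.centralizer ({x} : Set G) := by
  intro g hg
  rw [mem_centralizer_singleton_conj]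
  have h1 : g * x * g⁻¹ ∈ R := (Subgroup.mem_normalizer_iff.1 hg x).1 hxR
  have h2 := isolated_commute_of_mem hiso hR hxR h1
  exact hiso g (mul_inv_eq_iff_eq_mul.1 h2).symm

theorem isolated_le_centralizer [Finite G] [Fact p.Prime] {x : G} (hiso : Cfsg.IsIsolated x)
    {R : Subgroup G} (hR : IsPGroup p R) (hxR : x ∈ R) :
    R ≤ Subgroup.centralizer ({x} : Set G) :=
  le_trans Subgroup.le_normalizer (isolated_normalizer_le hiso hR hxR)

/-- The only conjugate of an isolated element in a `p`-subgroup through it is the element itself. -/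
theorem isolated_eq_of_mem [Finite G] [Fact p.Prime] {x : G} (hiso : Cfsg.IsIsolated x)
    {R : Subgroup G} (hR : IsPGroup p R) (hxR : x ∈ R) {g : G} (hg : g * x * g⁻¹ ∈ R) :
    g * x * g⁻¹ = x :=
  hiso g (mem_centralizer_singleton.1 (isolated_le_centralizer hiso hR hxR hg)).symm

theorem isolated_frattini [Finite G] [Fact p.Prime] {x : G} (hx : ∃ k : ℕ, orderOf x = p ^ k)
    (hiso : Cfsg.IsIsolated x) {H N : Subgroup G} (hNH : N ≤ H)
    (hn : H ≤ Subgroup.normalizer (N : Set G)) (hxN : x ∈ N) :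
    N ⊔ (H ⊓ Subgroup.centralizer ({x} : Set G)) = H := by
  obtain ⟨Q, hxQ, hQN, hQ, hQi⟩ := exists_sylow_in (p := p) (Subgroup.zpowers_le.2 hxN)
    (isPGroup_zpowers hx)
  refine le_antisymm (sup_le hNH inf_le_left) fun h hh => ?_
  have hhn := hn hh
  obtain ⟨a, ha, hae⟩ := exists_conj_eq_in (map_conj_le_of_normalizer hQN hhn) hQN
    (isPGroup_map_conj hQ h) hQ (by rw [not_dvd_relIndex_map_conj hhn]; exact hQi) hQi
  rw [map_conj_mul, ← mem_normalizer_iff_map] at hae
  have hc := isolated_normalizer_le hiso hQ (hxQ (Subgroup.mem_zpowers x)) hae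
  have : h = a⁻¹ * (a * h) := by group
  rw [this]
  exact Subgroup.mul_mem_sup (N.inv_mem ha) ⟨H.mul_mem (hNH ha) hh, hc⟩

theorem isolated_quotient [Finite G] [Fact p.Prime] {x : G} (hx : ∃ k : ℕ, orderOf x = p ^ k)
    (hiso : Cfsg.IsIsolated x) (N : Subgroup G) [N.Normal] :
    Cfsg.IsIsolated (QuotientGroup.mk x : G ⧸ N) := by
  intro gb hcomm
  obtain ⟨g, rfl⟩ := QuotientGroup.mk_surjective gb
  set y := g * x * g⁻¹ with hy
  change Commute (QuotientGroup.mk x : G ⧸ N) (QuotientGroup.mk y) at hcomm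
  change (QuotientGroup.mk y : G ⧸ N) = QuotientGroup.mk x
  let π := QuotientGroup.mk' N
  let B := Subgroup.closure ({π x, π y} : Set (G ⧸ N))
  let H := B.comap π
  have hxH : x ∈ H := Subgroup.subset_closure (Set.mem_insert _ _)
  have hyH : y ∈ H := Subgroup.subset_closure (Set.mem_insert_of_mem _ rfl)
  have hpy : ∃ k : ℕ, orderOf y = p ^ k := by
    obtain ⟨k, hk⟩ := hx
    exact ⟨k, by rw [hy, ← hk, ← MulAut.conj_apply, MulEquiv.orderOf_eq]⟩
  obtain ⟨P, hxP, hPH, hP, hPi⟩ := exists_sylow_in (p := p) (Subgroup.zpowers_le.2 hxH)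
    (isPGroup_zpowers hx)
  obtain ⟨h, hh, hhP⟩ := exists_conj_le_in (Subgroup.zpowers_le.2 hyH)
    (isPGroup_zpowers hpy) hPH hP hPi
  have hyP : h * y * h⁻¹ ∈ P := hhP (conj_mem_map (Subgroup.mem_zpowers y))
  have heq : h * y * h⁻¹ = x := by
    have := isolated_eq_of_mem (g := h * g) hiso hP (hxP (Subgroup.mem_zpowers x))
      (by simpa [hy, mul_assoc] using hyP)
    simpa [hy, mul_assoc] using this
  have hcomm' : π h * π y = π y * π h := by
    have hle : B ≤ Subgroup.centralizer ({π y} : Set (G ⧸ N)) := by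
      rw [Subgroup.closure_le]
      rintro z (rfl | rfl)
      · exact mem_centralizer_singleton.2 hcomm
      · exact mem_centralizer_singleton.2 rfl
    exact mem_centralizer_singleton.1 (hle hh)
  have h2 : π (h * y * h⁻¹) = π y := by
    rw [map_mul, map_mul, map_inv, hcomm']; group
  rw [heq] at h2
  exact h2.symm

theorem hasNormalPComplement_of_normalizer_le_centralizer [Finite G] [Fact p.Prime]
    (P : Sylow p G)
    (h : Subgroup.normalizer ((P : Subgroup G) : Set G) ≤
      Subgroup.centralizer ((P : Subgroup G) : Set G)) :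
    Cfsg.HasNormalPComplement p G :=
  ⟨P, _, inferInstance, MonoidHom.ker_transferSylow_isComplement' P h⟩

/-- An automorphism of `p'`-order fixing a nontrivial element of a cyclic `p`-group is trivial. -/
theorem cyclic_coprime_fix {P : Type*} [Group P] [Finite P] [Fact p.Prime] (hP : IsPGroup p P)
    [IsCyclic P] (a : P →* P) (m : ℕ) (hm : Nat.Coprime p m) (ha : ∀ y, a^[m] y = y)
    {x : P} (hx1 : x ≠ 1) (hfix : a x = x) (y : P) : a y = y := by
  obtain ⟨z, hz⟩ := IsCyclic.exists_generator (α := P)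
  obtain ⟨k, hk⟩ := Subgroup.mem_zpowers_iff.1 (hz (a z))
  have hak : ∀ w, a w = w ^ k := by
    intro w
    obtain ⟨j, rfl⟩ := Subgroup.mem_zpowers_iff.1 (hz w)
    rw [map_zpow, ← hk, ← zpow_mul, ← zpow_mul, mul_comm]
  have hiter : ∀ (n : ℕ) w, a^[n] w = w ^ (k ^ n) := by
    intro n
    induction n with
    | zero => intro w; simp
    | succ n ih =>
      intro w
      rw [Function.iterate_succ_apply', ih, hak, ← zpow_mul, pow_succ]
  have hp : p.Prime := Fact.out
  obtain ⟨n, hn⟩ := IsPGroup.iff_card.1 hP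
  -- `k ≡ 1 (mod p)` from the fixed point
  have hk1 : (p : ℤ) ∣ k - 1 := by
    have h1 : x ^ (k - 1) = 1 := by
      rw [zpow_sub_one, ← hak, hfix]; group
    obtain ⟨e, he⟩ := hP.exists_orderOf_eq_pow x
    have hd : (orderOf x : ℤ) ∣ k - 1 := orderOf_dvd_iff_zpow_eq_one.2 h1
    refine dvd_trans ?_ hd
    rw [he]
    have : e ≠ 0 := by
      rintro rfl
      exact hx1 (orderOf_eq_one_iff.1 (by rw [he, pow_zero]))
    exact_mod_cast dvd_pow_self p this
  have hkp : ((p : ℤ) ^ n) ∣ k ^ p ^ n - 1 := by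
    have h : ∀ j : ℕ, (p : ℤ) ^ (j + 1) ∣ k ^ p ^ j - 1 := by
      intro j
      have := dvd_sub_pow_of_dvd_sub hk1 j
      rwa [one_pow] at this
    exact dvd_trans (pow_dvd_pow _ (Nat.le_succ n)) (h n)
  have hfixp : a^[p ^ n] y = y := by
    rw [hiter]
    have hy : (orderOf y : ℤ) ∣ k ^ p ^ n - 1 := by
      refine dvd_trans ?_ hkp
      have := orderOf_dvd_natCard y
      rw [hn] at this
      exact_mod_cast this
    have := orderOf_dvd_iff_zpow_eq_one.1 hy
    rw [zpow_sub_one] at this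
    exact mul_inv_eq_one.1 this
  have hper1 : Function.IsPeriodicPt a m y := ha y
  have hper2 : Function.IsPeriodicPt a (p ^ n) y := hfixp
  have := hper1.gcd hper2
  rwa [Nat.Coprime.gcd_eq_one (Nat.Coprime.pow_right n hm.symm)] at this

theorem isolated_cyclic_normalizer_le [Finite G] [Fact p.Prime] {x : G}
    (hiso : Cfsg.IsIsolated x) (hx1 : x ≠ 1) (P : Sylow p G) (hxP : x ∈ (P : Subgroup G))
    (hcyc : IsCyclic (P : Subgroup G)) :
    Subgroup.normalizer ((P : Subgroup G) : Set G) ≤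
      Subgroup.centralizer ((P : Subgroup G) : Set G) := by
  intro g hg
  rw [Subgroup.mem_centralizer_iff]
  -- the conjugation action of `g` on the cyclic group `P`
  have hc : ∀ u : (P : Subgroup G), g * (u : G) * g⁻¹ ∈ (P : Subgroup G) :=
    fun u => (Subgroup.mem_normalizer_iff.1 hg u).1 u.2
  let a : (P : Subgroup G) →* (P : Subgroup G) :=
    { toFun := fun u => ⟨g * (u : G) * g⁻¹, hc u⟩
      map_one' := Subtype.ext (by simp)
      map_mul' := fun u v => Subtype.ext (by simp [mul_assoc]) }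
  have hiter : ∀ (n : ℕ) (u : (P : Subgroup G)), ((a^[n] u : (P : Subgroup G)) : G) = g ^ n * u * (g ^ n)⁻¹ := by
    intro n
    induction n with
    | zero => intro u; simp
    | succ n ih =>
      intro u
      rw [Function.iterate_succ_apply']
      show g * ((a^[n] u : (P : Subgroup G)) : G) * g⁻¹ = _
      rw [ih, pow_succ']; group
  obtain ⟨e, m, hm, hem⟩ := Nat.exists_eq_pow_mul_and_not_dvd (orderOf_pos g).ne' p
    (Fact.out : p.Prime).ne_one
  have hP : IsPGroup p (P : Subgroup G) := P.2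
  have hmp : g ^ m ∈ Subgroup.centralizer ((P : Subgroup G) : Set G) := by
    -- a `p`-element normalizing a Sylow subgroup lies in it
    have hgP : g ^ m ∈ (P : Subgroup G) := by
      have h1 : IsPGroup p (Subgroup.zpowers (g ^ m)) := by
        refine isPGroup_zpowers ⟨e, ?_⟩
        rw [orderOf_pow' g (by rintro rfl; simp at hm), hem]
        have hg' : Nat.gcd (p ^ e * m) m = m := Nat.gcd_eq_right (Dvd.intro_left _ rfl)
        rw [hg', Nat.mul_div_cancel _ (Nat.pos_of_ne_zero (by rintro rfl; simp at hm))]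
      have h2 := h1.inf_normalizer_sylow P
      have h3 : g ^ m ∈ Subgroup.zpowers (g ^ m) ⊓ (P : Subgroup G) :=
        h2 ▸ ⟨Subgroup.mem_zpowers _, Subgroup.pow_mem _ hg m⟩
      exact h3.2
    rw [Subgroup.mem_centralizer_iff]
    intro u hu
    haveI := hcyc
    letI := hcyc.commGroup
    exact congrArg Subtype.val (mul_comm (⟨u, hu⟩ : (P : Subgroup G)) ⟨g ^ m, hgP⟩)
  have ha : ∀ u, a^[m] u = u := by
    intro u
    apply Subtype.ext
    rw [hiter, ← Subgroup.mem_centralizer_iff.1 hmp u u.2]; group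
  have hfx : a ⟨x, hxP⟩ = ⟨x, hxP⟩ :=
    Subtype.ext (mem_centralizer_singleton_conj.1 (isolated_normalizer_le hiso hP hxP hg))
  intro u hu
  haveI := hcyc
  have h := congrArg Subtype.val (cyclic_coprime_fix hP a m
    ((Fact.out : p.Prime).coprime_iff_not_dvd.2 hm) ha
    (x := ⟨x, hxP⟩) (fun h => hx1 (congrArg Subtype.val h)) hfx ⟨u, hu⟩)
  exact (mul_inv_eq_iff_eq_mul.1 h).symm

theorem isolated_cyclic_hasNormalPComplement [Finite G] [Fact p.Prime] {x : G}
    (hx : ∃ k : ℕ, orderOf x = p ^ k)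
    (hiso : Cfsg.IsIsolated x) (hx1 : x ≠ 1) (hcyc : ∀ P : Sylow p G, IsCyclic (P : Subgroup G)) :
    Cfsg.HasNormalPComplement p G := by
  obtain ⟨P, hP⟩ := (isPGroup_zpowers (p := p) hx).exists_le_sylow
  exact hasNormalPComplement_of_normalizer_le_centralizer P
    (isolated_cyclic_normalizer_le hiso hx1 P (hP (Subgroup.mem_zpowers x)) (hcyc P))

end Cfsg.Agent.LAE65
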