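import Mathlib.GroupTheory.SpecificGroups.Cyclic
import Mathlib.RingTheory.IntegralDomain
import Mathlib.RingTheory.ZMod.UnitsCyclic
import Cfsg.Agent.S0016
import Cfsg.Agent.LAE65.Basic

/-!
A finite group with a subgroup contained in every nontrivial subgroup it normalizes.
-/

set_option autoImplicit false
set_option linter.style.haveILetI false

namespace Cfsg.Agent.LAE65

universe u

variable {F : Type u} [Group F] [Finite F]

theorem normalClosure_minimal {H : Subgroup F}
    (hmin : ∀ R : Subgroup F, R ≠ ⊥ → H ≤ Subgroup.normalizer (R : Set F) → H ≤ R)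
    {M : Subgroup F} (hM : M.Normal) (hM1 : M ≠ ⊥) : Subgroup.normalClosure (H : Set F) ≤ M := by
  haveI := hM
  exact Subgroup.normalClosure_le_normal
    (hmin M hM1 (by rw [Subgroup.normalizer_eq_top]; exact le_top))

theorem normalClosure_simple {H : Subgroup F} (hH : H ≠ ⊥)
    (hmin : ∀ R : Subgroup F, R ≠ ⊥ → H ≤ Subgroup.normalizer (R : Set F) → H ≤ R) :
    IsSimpleGroup (Subgroup.normalClosure (H : Set F)) := by
  set N := Subgroup.normalClosure (H : Set F) with hN
  have hN1 : N ≠ ⊥ := fun h => hH (le_bot_iff.1 (h ▸ Subgroup.le_normalClosure))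
  haveI : Nontrivial N := (Subgroup.nontrivial_iff_ne_bot N).2 hN1
  refine ⟨fun K hK => ?_⟩
  by_contra hcon
  push Not at hcon
  obtain ⟨hK1, hK2⟩ := hcon
  apply hK2
  set M := K.map N.subtype with hM
  have hM1 : M ≠ ⊥ := by rwa [Ne, Subgroup.map_eq_bot_iff_of_injective _ N.subtype_injective]
  have hnorm : ∀ R : Subgroup F, R ≤ N → N ≤ Subgroup.normalizer (R : Set F) → R ≠ ⊥ → H ≤ R :=
    fun R _ hR hR1 => hmin R hR1 (Subgroup.le_normalClosure.trans hR)
  have hMN : N ≤ Subgroup.normalizer (M : Set F) := by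
    intro a ha
    rw [mem_normalizer_iff_map]
    refine Subgroup.eq_of_le_of_card_ge ?_ (card_map_conj M a).ge
    rintro _ ⟨_, ⟨k, hk, rfl⟩, rfl⟩
    exact ⟨⟨a, ha⟩ * k * ⟨a, ha⟩⁻¹, hK.conj_mem k hk ⟨a, ha⟩, by simp⟩
  have hall : N ≤ M := by
    rw [hN, Subgroup.normalClosure]
    refine (Subgroup.closure_le M).2 fun y hy => ?_
    obtain ⟨h, hh, hy⟩ := Group.mem_conjugatesOfSet_iff.1 hy
    obtain ⟨g, rfl⟩ := isConj_iff.1 hy
    have hle : H ≤ M.map (MulAut.conj g⁻¹).toMonoidHom := by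
      refine hnorm _ ?_ ?_ ?_
      · exact map_conj_le_of_normalizer (Subgroup.map_subtype_le K)
          (by rw [Subgroup.normalizer_eq_top]; exact Subgroup.mem_top _)
      · intro a ha
        rw [mem_normalizer_iff_map, map_conj_mul]
        have ha' : g * a * g⁻¹ ∈ N := (inferInstance : N.Normal).conj_mem a ha g
        have := mem_normalizer_iff_map.1 (hMN ha')
        conv_rhs => rw [← this, map_conj_mul]
        congr 3; group
      · rw [Ne, Subgroup.map_eq_bot_iff_of_injective _ (MulAut.conj g⁻¹).injective]; exact hM1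
    have := mem_map_conj_iff.1 (hle hh)
    simpa using this
  rw [eq_top_iff]
  intro x _
  obtain ⟨k, hk, hkx⟩ := hall x.2
  exact (Subtype.ext hkx : k = x) ▸ hk

theorem normalClosure_alternatives {H : Subgroup F} (hH : H ≠ ⊥)
    (hmin : ∀ R : Subgroup F, R ≠ ⊥ → H ≤ Subgroup.normalizer (R : Set F) → H ≤ R)
    {N : Subgroup F} (hNdef : N = Subgroup.normalClosure (H : Set F)) :
    Subgroup.centralizer (N : Set F) = ⊥ ∨
       (H = N ∧ (Nat.card N).Prime ∧ IsCyclic ↥(Subgroup.centralizer (N : Set F)) ∧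
          (∃ k : ℕ, 1 ≤ k ∧ Nat.card ↥(Subgroup.centralizer (N : Set F)) = Nat.card N ^ k) ∧
          (∃ g : F, Subgroup.centralizer (N : Set F) ⊔ Subgroup.zpowers g = ⊤) ∧
          (Subgroup.centralizer (N : Set F)).index ∣ Nat.card N - 1) ∨
       (H = N ∧ Nat.card N = 2 ∧ Subgroup.centralizer (N : Set F) = ⊤ ∧
          ∃ k : ℕ, 1 ≤ k ∧ Nonempty (F ≃* QuaternionGroup (2 ^ k))) := by
  haveI hNn : N.Normal := hNdef ▸ inferInstance
  have hHN : H ≤ N := hNdef ▸ Subgroup.le_normalClosure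
  set C := Subgroup.centralizer (N : Set F) with hC
  by_cases hC1 : C = ⊥
  · exact Or.inl hC1
  refine Or.inr ?_
  haveI hCn : C.Normal := inferInstance
  have hNC : N ≤ C := hNdef ▸ normalClosure_minimal hmin hCn hC1
  have hN1 : N ≠ ⊥ := fun h => hH (le_bot_iff.1 (h ▸ hHN))
  -- every nontrivial subgroup of `C` contains `H`
  have hsub : ∀ R : Subgroup F, R ≤ C → R ≠ ⊥ → H ≤ R := by
    intro R hR hR1
    refine hmin R hR1 (hHN.trans ?_)
    intro a ha
    refine Subgroup.centralizer_le_normalizer _ (Subgroup.mem_centralizer_iff.2 fun r hr => ?_)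
    exact (Subgroup.mem_centralizer_iff.1 (hR hr) a ha).symm
  haveI : Nontrivial H := (Subgroup.nontrivial_iff_ne_bot H).2 hH
  obtain ⟨p, hp, hpd⟩ := Nat.exists_prime_and_dvd (Finite.one_lt_card (α := H)).ne'
  haveI := Fact.mk hp
  obtain ⟨⟨z, hz⟩, hzo⟩ := exists_prime_orderOf_dvd_card' p hpd
  rw [Subgroup.orderOf_mk] at hzo
  have hHz : H = Subgroup.zpowers z := by
    refine le_antisymm (hsub _ (Subgroup.zpowers_le.2 (hNC (hHN hz))) ?_) (Subgroup.zpowers_le.2 hz)
    rw [Ne, Subgroup.zpowers_eq_bot]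
    exact fun h => hp.ne_one (by rw [← hzo, h, orderOf_one])
  have hHc : Nat.card H = p := by rw [hHz, Nat.card_zpowers, hzo]
  have huniq : ∀ K : Subgroup F, K ≤ C → Nat.card K = p → K = H := fun K hK hKc => by
    refine (Subgroup.eq_of_le_of_card_ge (hsub K hK ?_) (by rw [hKc, hHc])).symm
    intro h; rw [h, Subgroup.card_bot] at hKc; exact hp.ne_one hKc.symm
  have hHnormal : H.Normal := by
    refine ⟨fun x hx g => ?_⟩
    have := huniq (H.map (MulAut.conj g).toMonoidHom)
      (map_conj_le_of_normalizer (hHN.trans hNC) (by rw [Subgroup.normalizer_eq_top]; exact Subgroup.mem_top g))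
      (by rw [card_map_conj, hHc])
    exact this ▸ conj_mem_map hx
  have hHNe : H = N := le_antisymm hHN (hNdef ▸ normalClosure_minimal hmin hHnormal hH)
  subst hHNe
  -- `C` is a `p`-group
  have hCp : IsPGroup p C := by
    rw [IsPGroup.iff_card]
    refine ⟨_, Nat.eq_prime_pow_of_unique_prime_dvd Nat.card_pos.ne' fun {r} hr hrd => ?_⟩
    haveI := Fact.mk hr
    obtain ⟨⟨y, hy⟩, hyo⟩ := exists_prime_orderOf_dvd_card' r hrd
    rw [Subgroup.orderOf_mk] at hyo
    have h1 := hsub (Subgroup.zpowers y) (Subgroup.zpowers_le.2 hy) (by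
      rw [Ne, Subgroup.zpowers_eq_bot]
      exact fun h => hr.ne_one (by rw [← hyo, h, orderOf_one]))
    have h2 := Subgroup.card_dvd_of_le h1
    rw [hHc, Nat.card_zpowers, hyo] at h2
    exact ((Nat.prime_dvd_prime_iff_eq hp hr).1 h2).symm
  have hclass := S0016.result (G := C) p hCp (fun H₁ H₂ h1 h2 => by
    apply Subgroup.map_injective C.subtype_injective
    rw [huniq _ (Subgroup.map_subtype_le H₁) (by rw [Subgroup.card_map_of_injective C.subtype_injective, h1]),
      huniq _ (Subgroup.map_subtype_le H₂) (by rw [Subgroup.card_map_of_injective C.subtype_injective, h2])])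
  haveI : IsCyclic H := isCyclic_of_prime_card hHc
  obtain ⟨b, hb⟩ := IsPGroup.iff_card.1 hCp
  have hb1 : 1 ≤ b := by
    rcases Nat.eq_zero_or_pos b with rfl | h
    · exact absurd (Subgroup.card_eq_one.1 (by rw [hb, pow_zero])) hC1
    · exact h
  -- `F / C` embeds in the automorphism group of `H`
  set ψ : F →* MulAut H := MulAut.conjNormal with hψ
  have hker : ψ.ker = C := by
    ext g
    rw [MonoidHom.mem_ker, hC, Subgroup.mem_centralizer_iff]
    constructor
    · intro h x hx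
      have := congrArg (fun e : MulAut H => ((e ⟨x, hx⟩ : H) : F)) h
      simp only [hψ, MulAut.conjNormal_apply, MulAut.one_apply] at this
      exact (mul_inv_eq_iff_eq_mul.1 this).symm
    · intro h
      refine MulEquiv.ext fun x => Subtype.ext ?_
      simp only [hψ, MulAut.conjNormal_apply, MulAut.one_apply]
      rw [mul_inv_eq_iff_eq_mul]; exact (h x x.2).symm
  have hidx : C.index ∣ p - 1 := by
    rw [← hker, Subgroup.index_ker, ← Nat.totient_prime hp, ← hHc, ← IsCyclic.card_mulAut]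
    exact Subgroup.card_subgroup_dvd_card _
  have case2 : IsCyclic C → H = H ∧ (Nat.card H).Prime ∧ IsCyclic C ∧
      (∃ k : ℕ, 1 ≤ k ∧ Nat.card C = Nat.card H ^ k) ∧
      (∃ g : F, C ⊔ Subgroup.zpowers g = ⊤) ∧ C.index ∣ Nat.card H - 1 := by
    intro hcyc
    refine ⟨rfl, hHc ▸ hp, hcyc, ⟨b, hb1, by rw [hHc, hb]⟩, ?_, by rwa [hHc]⟩
    haveI : Fact (Nat.card H).Prime := ⟨hHc ▸ hp⟩
    haveI : IsCyclic (MulAut H) := isCyclic_of_surjective (IsCyclic.mulAutMulEquiv H).symm
      (IsCyclic.mulAutMulEquiv H).symm.surjective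
    obtain ⟨⟨a, g, rfl⟩, hg⟩ := (inferInstance : IsCyclic ψ.range).exists_generator
    refine ⟨g, eq_top_iff.2 fun x _ => ?_⟩
    obtain ⟨i, hi⟩ := Subgroup.mem_zpowers_iff.1 (hg ⟨ψ x, x, rfl⟩)
    have hmem : x * (g ^ i)⁻¹ ∈ C := by
      rw [← hker, MonoidHom.mem_ker, map_mul, map_inv, map_zpow]
      have := congrArg Subtype.val hi
      simp only [Subgroup.coe_zpow] at this
      rw [this, mul_inv_cancel]
    have : x = x * (g ^ i)⁻¹ * g ^ i := by group
    rw [this]
    exact Subgroup.mul_mem_sup hmem (zpow_mem (Subgroup.mem_zpowers g) i)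
  by_cases hcyc : IsCyclic C
  · exact Or.inl (case2 hcyc)
  rcases hclass with h | ⟨rfl, n, ⟨e⟩⟩
  · exact absurd h hcyc
  refine Or.inr ⟨rfl, hHc, ?_, n, ?_, ⟨?_⟩⟩
  · exact Subgroup.index_eq_one.1 (Nat.dvd_one.1 hidx)
  · rcases Nat.eq_zero_or_pos n with rfl | h
    · refine absurd ?_ hcyc
      haveI : IsCyclic (QuaternionGroup (2 ^ 0)) :=
        isCyclic_of_orderOf_eq_card (QuaternionGroup.xa 0) (by
          rw [QuaternionGroup.orderOf_xa, Nat.card_eq_fintype_card, QuaternionGroup.card]; rfl)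
      exact isCyclic_of_surjective e.symm e.symm.surjective
    · exact h
  · exact ((Subgroup.topEquiv).symm.trans
      (MulEquiv.subgroupCongr (Subgroup.index_eq_one.1 (Nat.dvd_one.1 hidx)).symm)).trans e

end Cfsg.Agent.LAE65
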