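import Cfsg.Prelude.Def_BaumannBlocks
import Cfsg.Prelude.Def_Transfer
import Cfsg.Agent.LAE65.NaturalModule
import Cfsg.Agent.Lib.LinearGroup.SylowChar

/-!
Quadratic or small irreducible modules of `SL₂(F)` are natural.
-/

set_option autoImplicit false
set_option linter.style.haveILetI false

open Matrix
open scoped MatrixGroups commutatorElement

namespace Cfsg.Agent.LAE65.Natural

universe u v

section Sum

variable {F : Type v} [Field F] {A : Type u} [AddCommGroup A] [Finite A]
  (σ : SL(2, F) →* AddMonoid.End A)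

omit [Finite A] in
theorem wMat_fix {a : A} (ha : a ∈ fixU σ) : σ wMat a ∈ fixL σ := by
  intro c
  rw [← act_mul, show lMat c = lMat (- (-c)) by rw [neg_neg], ← wMat_conj, act_mul, ha]

theorem disjoint_fix (hirr : ∀ W : AddSubgroup A, (∀ g, ∀ a ∈ W, σ g a ∈ W) → W = ⊥ ∨ W = ⊤)
    (hnt : ∃ g a, σ g a ≠ a) {a : A} (h0 : a ∈ fixU σ) (h1 : a ∈ fixL σ) : a = 0 := by
  obtain ⟨g₀, a₀, hga⟩ := hnt
  let W : AddSubgroup A :=
    { carrier := {a | ∀ g, σ g a = a}
      zero_mem' := fun g => map_zero _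
      add_mem' := fun {x y} hx hy g => by rw [map_add, hx, hy]
      neg_mem' := fun {x} hx g => by rw [map_neg, hx] }
  let H : Subgroup SL(2, F) :=
    { carrier := {g | σ g a = a}
      one_mem' := act_one σ a
      mul_mem' := fun {g h} (hg : σ g a = a) (hh : σ h a = a) => by
        show σ (g * h) a = a
        rw [act_mul, hh, hg]
      inv_mem' := fun {g} (hg : σ g a = a) => by
        show σ g⁻¹ a = a
        conv_lhs => rw [← hg]
        exact act_inv σ g a }
  have haW : a ∈ W := fun g => (eq_top_of_uMat_lMat (H := H) h0 h1 ▸ Subgroup.mem_top g : g ∈ H)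
  rcases hirr W (fun g x hx => by rw [hx g]; exact hx) with hW | hW
  · exact AddSubgroup.mem_bot.1 (hW ▸ haW)
  · exact absurd ((hW.symm ▸ AddSubgroup.mem_top a₀ : a₀ ∈ W) g₀) hga

theorem sup_fix_of_quadratic (hirr : ∀ W : AddSubgroup A, (∀ g, ∀ a ∈ W, σ g a ∈ W) → W = ⊥ ∨ W = ⊤)
    (hnt : ∃ g a, σ g a ≠ a)
    (hq : ∀ b b' a, σ (uMat b') (σ (uMat b) a - a) = σ (uMat b) a - a) :
    fixU σ ⊔ fixL σ = ⊤ := by
  obtain ⟨g₀, a₀, hga⟩ := hnt
  set W := fixU σ ⊔ fixL σ with hW
  have hu : ∀ b a, σ (uMat b) a - a ∈ fixU σ := fun b a b' => hq b b' a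
  let H : Subgroup SL(2, F) :=
    { carrier := {g | ∀ a, σ g a - a ∈ W}
      one_mem' := fun a => by rw [act_one, sub_self]; exact W.zero_mem
      mul_mem' := fun {g h} hg hh a => by
        have e : σ (g * h) a - a = (σ g (σ h a) - σ h a) + (σ h a - a) := by rw [act_mul]; abel
        rw [e]; exact W.add_mem (hg _) (hh a)
      inv_mem' := fun {g} hg a => by
        have e : σ g⁻¹ a - a = -(σ g (σ g⁻¹ a) - σ g⁻¹ a) := by rw [act_inv', neg_sub]
        rw [e]; exact W.neg_mem (hg _) }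
  have hall : ∀ g a, σ g a - a ∈ W := fun g => by
    refine (eq_top_of_uMat_lMat (H := H) (fun b a => AddSubgroup.mem_sup_left (hu b a)) ?_ ▸
      Subgroup.mem_top g : g ∈ H)
    intro c a
    refine AddSubgroup.mem_sup_right ?_
    have e : σ (lMat c) a - a = σ wMat (σ (uMat (-c)) (σ wMat⁻¹ a) - σ wMat⁻¹ a) := by
      rw [map_sub, ← act_mul σ wMat (uMat (-c)), wMat_conj, neg_neg, act_mul, act_inv']
    rw [e]
    exact wMat_fix σ (hu _ _)
  refine (hirr W fun g a ha => ?_).resolve_left fun h => hga ?_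
  · rw [← sub_add_cancel (σ g a) a]; exact W.add_mem (hall g a) ha
  · rw [← sub_eq_zero, ← AddSubgroup.mem_bot, ← h]; exact hall g₀ a₀

theorem sup_fix_of_card (hirr : ∀ W : AddSubgroup A, (∀ g, ∀ a ∈ W, σ g a ∈ W) → W = ⊥ ∨ W = ⊤)
    (hnt : ∃ g a, σ g a ≠ a) (hc : Nat.card A ≤ Nat.card (fixU σ) ^ 2) :
    fixU σ ⊔ fixL σ = ⊤ := by
  let f : fixU σ × fixU σ → A := fun x => (x.1 : A) + σ wMat x.2
  have hf : Function.Injective f := by
    rintro ⟨x, y⟩ ⟨x', y'⟩ h
    have h' : (x : A) + σ wMat y = x' + σ wMat y' := h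
    have h1 : (x : A) - x' = σ wMat ((y' : A) - y) := by
      rw [map_sub, sub_eq_sub_iff_add_eq_add, h', add_comm]
    have h2 := disjoint_fix σ hirr hnt ((fixU σ).sub_mem x.2 x'.2)
      (h1 ▸ wMat_fix σ ((fixU σ).sub_mem y'.2 y.2))
    have h3 : (y' : A) - y = 0 := by rw [← act_inv σ wMat ((y' : A) - y), ← h1, h2, map_zero]
    rw [sub_eq_zero] at h2 h3
    rw [Subtype.ext h2, Subtype.ext h3]
  have hb : Function.Surjective f := by
    refine (Nat.bijective_iff_injective_and_card f).2 ⟨hf, le_antisymm (Nat.card_le_card_of_injective f hf) ?_⟩ |>.2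
    rwa [Nat.card_prod, ← sq]
  rw [eq_top_iff]
  intro a _
  obtain ⟨x, rfl⟩ := hb a
  exact AddSubgroup.add_mem_sup x.1.2 (wMat_fix σ x.2.2)

end Sum

/-- The unipotent group as a homomorphism. -/
def uHom (F : Type v) [Field F] : Multiplicative F →* SL(2, F) where
  toFun b := uMat (Multiplicative.toAdd b)
  map_one' := uMat_zero
  map_mul' _ _ := uMat_add _ _

theorem exists_equiv_sylow {F : Type v} [Field F] [Fintype F] {p n : ℕ} [hp : Fact p.Prime]
    (hF : Fintype.card F = p ^ n) {G : Type u} [Group G] [Finite G] (e₀ : G ≃* SL(2, F))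
    (S : Sylow p G) :
    ∃ e : G ≃* SL(2, F), ∀ g, g ∈ (S : Subgroup G) ↔ ∃ b, e g = uMat b := by
  obtain ⟨k, hr, hk⟩ := FiniteField.card F (ringChar F)
  have hn : n ≠ 0 := fun h => by
    rw [h, pow_zero] at hF
    exact absurd hF Fintype.one_lt_card.ne'
  have hrp : ringChar F = p := by
    have hd : p ∣ ringChar F ^ (k : ℕ) := by rw [← hk, hF]; exact dvd_pow_self p hn
    exact ((Nat.prime_dvd_prime_iff_eq hp.out hr).1 (hp.out.dvd_of_dvd_pow hd)).symm
  haveI : CharP F p := hrp ▸ ringChar.charP F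
  have hinj : Function.Injective (uHom F) := fun a b h => by
    have := congrArg (fun g : SL(2, F) => (g : Matrix (Fin 2) (Fin 2) F) 0 1) h
    simpa [uHom, uMat_coe] using this
  have hUc : Nat.card (uHom F).range = Nat.card F :=
    (Nat.card_congr (MonoidHom.ofInjective hinj).toEquiv.symm).trans (Nat.card_congr Multiplicative.toAdd)
  obtain ⟨Q, hQ⟩ := (IsPGroup.of_card (p := p) (n := n)
    (by rw [hUc, Nat.card_eq_fintype_card, hF]) : IsPGroup p (uHom F).range).exists_le_sylow
  have hQU : (uHom F).range = (Q : Subgroup SL(2, F)) := Subgroup.eq_of_le_of_card_ge hQ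
    (by rw [hUc, LinearGroup.card_sylow_SL_two p Q])
  let S' : Sylow p SL(2, F) := S.mapSurjective (f := e₀.toMonoidHom) e₀.surjective
  obtain ⟨c, hc⟩ := MulAction.exists_smul_eq SL(2, F) S' Q
  refine ⟨e₀.trans (MulAut.conj c), fun g => ?_⟩
  have hrange : ∀ y, y ∈ (Q : Subgroup SL(2, F)) ↔ ∃ b, y = uMat b := fun y => by
    rw [← hQU]
    exact ⟨fun ⟨b, hb⟩ => ⟨Multiplicative.toAdd b, hb.symm⟩,
      fun ⟨b, hb⟩ => ⟨Multiplicative.ofAdd b, hb.symm⟩⟩
  rw [← hrange]
  constructor
  · intro hg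
    rw [← hc]
    exact Subgroup.smul_mem_pointwise_smul _ (MulAut.conj c) _ ⟨g, hg, rfl⟩
  · intro hg
    rw [← hc] at hg
    obtain ⟨y, ⟨g', hg', rfl⟩, hy⟩ := hg
    have := e₀.injective ((MulAut.conj c).injective hy)
    exact this ▸ hg'

theorem actsAsSL2_natural {X : Type u} [Group X] [Finite X] {p : ℕ} [hp : Fact p.Prime]
    (G V : Subgroup X) (hV : Cfsg.IsElementaryAbelian p V)
    (hGV : G ≤ Subgroup.normalizer (V : Set X)) (F : Type) [Field F] [Fintype F] (n : ℕ)
    (hF : Fintype.card F = p ^ n)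
    (hG : Nonempty (↥G ≃* Matrix.SpecialLinearGroup (Fin 2) F))
    (hirr : ∀ U : Subgroup X, U ≤ V → G ≤ Subgroup.normalizer (U : Set X) → U = ⊥ ∨ U = V)
    (hnt : ⁅V, G⁆ ≠ ⊥) (S : Sylow p ↥G)
    (hyp : ⁅⁅V, (S : Subgroup ↥G).map G.subtype⁆, (S : Subgroup ↥G).map G.subtype⁆ = ⊥ ∨
      Nat.card ↥V ≤ Nat.card ↥(V ⊓ Subgroup.centralizer
        (((S : Subgroup ↥G).map G.subtype : Subgroup X) : Set X)) ^ 2) :
    Cfsg.ActsAsSL2OnSection F ⊤ G V ⊥ := by
  obtain ⟨e₀⟩ := hG
  obtain ⟨e, he⟩ := exists_equiv_sylow hF e₀ S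
  obtain ⟨hVc, hVp⟩ := hV
  letI : CommGroup V := { (inferInstance : Group V) with mul_comm := hVc.is_comm.comm }
  have hmem : ∀ g : G, ∀ x ∈ V, (g : X) * x * (g : X)⁻¹ ∈ V := fun g x hx =>
    (Subgroup.mem_normalizer_iff.1 (hGV g.2) x).1 hx
  let c : G → (V →* V) := fun g =>
    { toFun := fun x => ⟨g * x * (g : X)⁻¹, hmem g x x.2⟩
      map_one' := Subtype.ext (by simp)
      map_mul' := fun a b => Subtype.ext (by simp [mul_assoc]) }
  let σ : SL(2, F) →* AddMonoid.End (Additive V) :=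
    { toFun := fun g => MonoidHom.toAdditive (c (e.symm g))
      map_one' := by
        refine AddMonoidHom.ext fun a => Additive.toMul.injective (Subtype.ext ?_)
        show ((e.symm 1 : G) : X) * (Additive.toMul a : V) * ((e.symm 1 : G) : X)⁻¹ = (Additive.toMul a : V)
        simp
      map_mul' := fun g h => by
        refine AddMonoidHom.ext fun a => Additive.toMul.injective (Subtype.ext ?_)
        show ((e.symm (g * h) : G) : X) * (Additive.toMul a : V) * ((e.symm (g * h) : G) : X)⁻¹ = _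
        rw [map_mul]
        show _ = ((e.symm g : G) : X) * (((e.symm h : G) : X) * (Additive.toMul a : V) * ((e.symm h : G) : X)⁻¹) * ((e.symm g : G) : X)⁻¹
        simp [mul_assoc] }
  have hσ : ∀ g a, ((Additive.toMul (σ g a) : V) : X)
      = ((e.symm g : G) : X) * (Additive.toMul a : V) * ((e.symm g : G) : X)⁻¹ := fun g a => rfl
  have hirr' : ∀ W : AddSubgroup (Additive V), (∀ g, ∀ a ∈ W, σ g a ∈ W) → W = ⊥ ∨ W = ⊤ := by
    intro W hW
    let U₁ : Subgroup V := AddSubgroup.toSubgroup' W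
    let U : Subgroup X := U₁.map V.subtype
    have hUV : U ≤ V := Subgroup.map_subtype_le _
    have hinj : ∀ a : V, (a : X) ∈ U ↔ Additive.ofMul a ∈ W := fun a =>
      ⟨fun ⟨b, hb, hba⟩ => (Subtype.ext hba : b = a) ▸ hb, fun h => ⟨a, h, rfl⟩⟩
    have hUn : G ≤ Subgroup.normalizer (U : Set X) := by
      intro g hg
      rw [Subgroup.mem_normalizer_iff_map_conj_eq]
      refine Subgroup.eq_of_le_of_card_ge ?_
        (Subgroup.card_map_of_injective (MulAut.conj g).injective).ge
      rintro _ ⟨_, ⟨x, hx, rfl⟩, rfl⟩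
      refine ⟨Additive.toMul (σ (e ⟨g, hg⟩) (Additive.ofMul x)), hW _ _ hx, ?_⟩
      show ((Additive.toMul (σ (e ⟨g, hg⟩) (Additive.ofMul x)) : V) : X) = _
      rw [hσ, e.symm_apply_apply]
      rfl
    rcases hirr U hUV hUn with h | h
    · left
      rw [AddSubgroup.eq_bot_iff_forall]
      intro a ha
      have := (hinj (Additive.toMul a)).2 ha
      rw [h, Subgroup.mem_bot] at this
      exact Additive.toMul.injective (Subtype.ext this)
    · right
      rw [eq_top_iff]
      intro a _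
      exact (hinj (Additive.toMul a)).1 (by rw [h]; exact (Additive.toMul a).2)
  have hnt' : ∃ g a, σ g a ≠ a := by
    by_contra hcon
    push Not at hcon
    apply hnt
    rw [Subgroup.commutator_eq_bot_iff_le_centralizer]
    intro x hx
    rw [Subgroup.mem_centralizer_iff]
    intro g hg
    have h1 := congrArg (fun a => ((Additive.toMul a : V) : X)) (hcon (e ⟨g, hg⟩) (Additive.ofMul ⟨x, hx⟩))
    simp only [hσ, e.symm_apply_apply, toMul_ofMul] at h1
    exact mul_inv_eq_iff_eq_mul.1 h1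
  have hS : ∀ b, ((e.symm (uMat b) : G) : X) ∈ (S : Subgroup ↥G).map G.subtype := fun b =>
    ⟨e.symm (uMat b), (he _).2 ⟨b, e.apply_symm_apply _⟩, rfl⟩
  have hsum : fixU σ ⊔ fixL σ = ⊤ := by
    rcases hyp with hq | hc
    · refine sup_fix_of_quadratic σ hirr' hnt' fun b b' a => ?_
      apply Additive.toMul.injective
      apply Subtype.ext
      set s := ((e.symm (uMat b) : G) : X) with hs
      set s' := ((e.symm (uMat b') : G) : X) with hs'
      set x := ((Additive.toMul a : V) : X) with hx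
      have hd : ((Additive.toMul (σ (uMat b) a - a) : V) : X) = (⁅x, s⁆)⁻¹ := by
        rw [commutatorElement_def]
        show ((Additive.toMul (σ (uMat b) a) / Additive.toMul a : V) : X) = _
        rw [Subgroup.coe_div, hσ, div_eq_mul_inv]
        simp only [← hs, ← hx]
        group
      rw [hσ, hd]
      have h1 : ⁅⁅x, s⁆, s'⁆ ∈ (⊥ : Subgroup X) := hq ▸ Subgroup.commutator_mem_commutator
        (Subgroup.commutator_mem_commutator (Additive.toMul a).2 (hS b)) (hS b')
      rw [Subgroup.mem_bot, commutatorElement_eq_one_iff_commute] at h1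
      rw [(h1.inv_left.symm).eq, mul_inv_cancel_right]
    · refine sup_fix_of_card σ hirr' hnt' ?_
      refine le_trans (le_of_eq_of_le (Nat.card_congr Additive.toMul) hc) (Nat.pow_le_pow_left ?_ 2)
      refine Nat.card_le_card_of_injective
        (fun x => (⟨Additive.ofMul ⟨x.1, x.2.1⟩, fun b => ?_⟩ : fixU σ)) ?_
      · apply Additive.toMul.injective
        apply Subtype.ext
        rw [hσ]
        show _ * (x.1 : X) * _ = x.1
        rw [Subgroup.mem_centralizer_iff.1 x.2.2 _ (hS b), mul_inv_cancel_right]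
      · intro x y h
        have := congrArg (fun z : fixU σ => ((Additive.toMul (z : Additive V) : V) : X)) h
        exact Subtype.ext this
  have hu : IsPGroup p (Multiplicative F) :=
    IsPGroup.of_card (n := n) (by rw [Nat.card_congr Multiplicative.toAdd, Nat.card_eq_fintype_card, hF])
  have hA : IsPGroup p (Multiplicative (Additive V)) := by
    intro a
    refine ⟨1, ?_⟩
    rw [pow_one]
    exact Subtype.ext (hVp _ (Additive.toMul (Multiplicative.toAdd a)).2)
  obtain ⟨ψ, hψ⟩ := exists_natural σ hu hA hirr' hnt' hsum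
  refine ⟨hGV, bot_le, e.toMonoidHom,
    { toFun := fun x => Multiplicative.ofAdd (ψ (Additive.ofMul x))
      map_one' := by simp
      map_mul' := fun a b => by simp [map_add] }, ?_, ?_, ?_, ?_⟩
  · exact MonoidHom.range_eq_top.2 e.surjective
  · intro f
    exact ⟨Additive.toMul (ψ.symm (Multiplicative.toAdd f)), by simp⟩
  · intro x
    simp [Subgroup.mem_bot]
  · intro g x
    refine ⟨Additive.toMul (σ (e g) (Additive.ofMul x)), ?_, ?_⟩
    · rw [hσ, e.symm_apply_apply]; rfl
    · show ψ (σ (e g) (Additive.ofMul x)) = _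
      exact hψ _ _

end Cfsg.Agent.LAE65.Natural
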