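import Cfsg.Prelude.Def_LocalStructure
import Cfsg.Agent.LAE65.Subnormal
import Cfsg.Agent.Class49.CharTwoLocal
import Cfsg.Agent.Lib.PGroup.Basic

/-!
Parabolic characteristic passes to suitable subnormal subgroups.
-/

set_option autoImplicit false
set_option linter.style.haveILetI false

namespace Cfsg.Agent.LAE65

open LocalEven64

variable {G : Type*} [Group G] [Finite G] {p : ℕ} [Fact p.Prime]

theorem pCoreOf_map_subtype {G₁ : Subgroup G} (L : Subgroup G₁) :
    (Cfsg.pCoreOf p L).map G₁.subtype = Cfsg.pCoreOf p (L.map G₁.subtype) := by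
  unfold Cfsg.pCoreOf
  rw [← Thompson.map_pCore_equiv (p := p) (L.equivMapOfInjective G₁.subtype G₁.subtype_injective),
    Subgroup.map_map, Subgroup.map_map]
  congr 1

theorem charPOf_of_map {G₁ : Subgroup G} {L : Subgroup G₁} (h : CharPOf p (L.map G₁.subtype)) :
    CharPOf p L := by
  refine charPOf_iff.2 fun x hx hxp hxc => Subtype.ext (h.eq_one ⟨x, hx, rfl⟩
    (by rwa [Subgroup.orderOf_coe]) ?_)
  rw [← pCoreOf_map_subtype, Subgroup.mem_centralizer_iff]
  rintro _ ⟨y, hy, rfl⟩
  exact congrArg Subtype.val (Subgroup.mem_centralizer_iff.1 hxc y hy)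

theorem charPOf_inf_of_isSubnormal {C A : Subgroup G} (hC : CharPOf p C) (hA : A.IsSubnormal) :
    CharPOf p (A ⊓ C) := by
  induction hA with
  | top => rwa [top_inf_eq]
  | step H K hle hK hN ih =>
    refine ih.of_pCoreOf_le_normalizer (inf_le_inf_right C hle) ?_
    refine (LocalEven64.pCoreOf_le _).trans ?_
    refine LocalEven64.le_normalizer_inf
      (inf_le_left.trans ((Subgroup.normal_subgroupOf_iff_le_normalizer hle).1 hN)) ?_
    exact inf_le_right.trans Subgroup.le_normalizer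

theorem center_inf_map_conj {A : Subgroup G} (h : G) :
    (A ⊓ Subgroup.centralizer (A : Set G)).map (MulAut.conj h).toMonoidHom =
      A.map (MulAut.conj h).toMonoidHom ⊓
        Subgroup.centralizer ((A.map (MulAut.conj h).toMonoidHom : Subgroup G) : Set G) := by
  ext y
  rw [mem_map_conj_iff, Subgroup.mem_inf, Subgroup.mem_inf, mem_map_conj_iff]
  refine and_congr_right fun _ => ?_
  rw [Subgroup.mem_centralizer_iff, Subgroup.mem_centralizer_iff]
  constructor
  · rintro hc _ ⟨a, ha, rfl⟩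
    have h1 := congrArg (fun z => h * z * h⁻¹) (hc a ha)
    simpa [mul_assoc] using h1
  · intro hc a ha
    have h1 := congrArg (fun z => h⁻¹ * z * h) (hc _ (conj_mem_map ha))
    simpa [mul_assoc] using h1

theorem isOfParabolicCharacteristic_subnormal (hG : Cfsg.IsOfParabolicCharacteristic p G)
    (S : Sylow p G) (G₁ : Subgroup G) (hsn : G₁.IsSubnormal)
    (hle : ((S : Subgroup G) ⊓ G₁) ⊓
        Subgroup.centralizer (((S : Subgroup G) ⊓ G₁ : Subgroup G) : Set G) ≤
      (S : Subgroup G) ⊓ Subgroup.centralizer ((S : Subgroup G) : Set G)) :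
    Cfsg.IsOfParabolicCharacteristic p G₁ := by
  intro R₀ hR₀ hR₀1 ⟨T₀, hT₀⟩
  set L₀ := Subgroup.normalizer (R₀ : Set G₁) with hL₀
  refine charPOf_of_map ?_
  set R := R₀.map G₁.subtype with hR
  set T := (T₀ : Subgroup G₁).map G₁.subtype with hT
  set L := L₀.map G₁.subtype with hL
  have hRp : IsPGroup p R := hR₀.map _
  have hTp : IsPGroup p T := T₀.2.map _
  have hTG : T ≤ G₁ := Subgroup.map_subtype_le _
  have hTi : ¬ p ∣ T.relIndex G₁ := by
    rw [Subgroup.relIndex, hT, ← Subgroup.comap_subtype,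
      Subgroup.comap_map_eq_self_of_injective G₁.subtype_injective]
    exact T₀.not_dvd_index
  have hRT : R ≤ T := Subgroup.map_mono (by
    refine le_of_eq_of_le rfl ?_
    intro r hr
    have h1 : IsPGroup p ((T₀ : Subgroup G₁) ⊔ R₀ : Subgroup G₁) :=
      T₀.2.to_sup_of_normal_right' hR₀ hT₀
    exact (T₀.is_maximal' h1 le_sup_left).le (Subgroup.mem_sup_right hr))
  have hTn : T ≤ Subgroup.normalizer (R : Set G) := by
    rintro _ ⟨t, ht, rfl⟩
    exact Subgroup.le_normalizer_map G₁.subtype ⟨t, hT₀ ht, rfl⟩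
  -- a Sylow subgroup containing `T` with the same property
  obtain ⟨h, hh, hhT⟩ := exists_conj_eq_in (p := p) (inf_le_right : (S : Subgroup G) ⊓ G₁ ≤ G₁) hTG
    (S.2.to_le inf_le_left) hTp (not_dvd_relIndex_inf S hsn) hTi
  set S' := (S : Subgroup G).map (MulAut.conj h).toMonoidHom with hS'
  have hZS' : T ⊓ Subgroup.centralizer (T : Set G) ≤ Subgroup.centralizer (S' : Set G) := by
    rw [← hhT, ← center_inf_map_conj]
    refine (Subgroup.map_mono hle).trans ?_
    rw [center_inf_map_conj]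
    exact inf_le_right
  set Z := R ⊓ Subgroup.centralizer (T : Set G) with hZ
  have hZS : Z ≤ Subgroup.centralizer (S' : Set G) := (inf_le_inf_right _ hRT).trans hZS'
  have hZ1 : Z ≠ ⊥ := by
    haveI : (R.subgroupOf T).Normal := by
      rw [Subgroup.normal_subgroupOf_iff_le_normalizer hRT]; exact hTn
    have hne : R.subgroupOf T ≠ ⊥ := by
      rw [Ne, Subgroup.subgroupOf_eq_bot, disjoint_iff, inf_eq_left.2 hRT, hR,
        Subgroup.map_eq_bot_iff_of_injective _ G₁.subtype_injective]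
      exact hR₀1
    obtain ⟨z, hz, hz1⟩ := (Subgroup.bot_or_exists_ne_one _).resolve_left
      (PGroup.inf_center_ne_bot hTp hne)
    intro he
    apply hz1
    have : (z : G) ∈ Z := Subgroup.mem_inf.2 ⟨hz.1, Subgroup.mem_centralizer_iff.2 fun t ht =>
      congrArg Subtype.val (Subgroup.mem_center_iff.1 hz.2 ⟨t, ht⟩)⟩
    rw [he, Subgroup.mem_bot] at this
    exact Subtype.ext this
  have hN : CharPOf p (Subgroup.normalizer (Z : Set G)) := by
    refine hG Z (hRp.to_le inf_le_left) hZ1 ⟨h • S, ?_⟩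
    show S' ≤ _
    intro a ha
    refine Subgroup.centralizer_le_normalizer _ (Subgroup.mem_centralizer_iff.2 fun z hz => ?_)
    exact (Subgroup.mem_centralizer_iff.1 (hZS hz) a ha).symm
  have hC : CharPOf p (Subgroup.centralizer (Z : Set G)) := by
    have := Class49.charPOf_inf_centralizer hN (hRp.to_le (inf_le_left : Z ≤ R))
      (Subgroup.le_normalizer.trans Subgroup.le_normalizer)
    rwa [inf_eq_right.2 (Subgroup.centralizer_le_normalizer _)] at this
  set D := G₁ ⊓ Subgroup.centralizer (Z : Set G) with hD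
  have hDc : CharPOf p D := charPOf_inf_of_isSubnormal hC hsn
  refine charPOf_iff.2 fun x hx hxp hxc => hDc.eq_one ?_ hxp ?_
  · refine Subgroup.mem_inf.2 ⟨Subgroup.map_subtype_le _ hx, Subgroup.mem_centralizer_iff.2 fun z hz =>
      Subgroup.mem_centralizer_iff.1 hxc z ?_⟩
    refine LocalEven64.le_pCoreOf ?_ ?_ hRp (Subgroup.mem_inf.1 hz).1
    · exact Subgroup.map_mono (Subgroup.le_normalizer)
    · exact Subgroup.le_normalizer_map _
  set Q := Cfsg.pCoreOf p L with hQ
  set O := Cfsg.pCoreOf p D with hO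
  have hRQ : R ≤ Q := LocalEven64.le_pCoreOf (Subgroup.map_mono Subgroup.le_normalizer)
    (Subgroup.le_normalizer_map _) hRp
  have hQT : Q ≤ T := by
    rw [hQ, hL, ← pCoreOf_map_subtype]
    refine Subgroup.map_mono ?_
    have h1 : IsPGroup p ((T₀ : Subgroup G₁) ⊔ Cfsg.pCoreOf p L₀ : Subgroup G₁) :=
      T₀.2.to_sup_of_normal_right' (LocalEven64.isPGroup_pCoreOf L₀)
        (hT₀.trans (LocalEven64.le_normalizer_pCoreOf L₀))
    exact le_sup_right.trans (T₀.is_maximal' h1 le_sup_left).le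
  have hXD : L ⊓ Subgroup.centralizer (Q : Set G) ≤ D :=
    inf_le_inf (Subgroup.map_subtype_le _)
      (Subgroup.centralizer_le (SetLike.coe_subset_coe.2 (inf_le_left.trans hRQ)))
  have hQD : Q ≤ D := le_inf (hQT.trans hTG) fun a ha => Subgroup.mem_centralizer_iff.2 fun z hz =>
    ((Subgroup.mem_centralizer_iff.1 (Subgroup.mem_inf.1 hz).2) a (hQT ha)).symm
  refine pq_lemma (isPGroup_pCoreOf D) (isPGroup_pCoreOf L)
    (hQD.trans (le_normalizer_pCoreOf D)) hxp
    (le_normalizer_pCoreOf D (hXD (Subgroup.mem_inf.2 ⟨hx, hxc⟩))) hxc ?_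
  intro y hy hyQ
  have hyR : y ∈ L := by
    have hyG : y ∈ G₁ := (Subgroup.mem_inf.1 (pCoreOf_le D hy)).1
    refine ⟨⟨y, hyG⟩, Subgroup.centralizer_le_normalizer _ (Subgroup.mem_centralizer_iff.2
      fun r hr => Subtype.ext ?_), rfl⟩
    exact Subgroup.mem_centralizer_iff.1 hyQ (r : G) (hRQ ⟨r, hr, rfl⟩)
  set X := L ⊓ Subgroup.centralizer (Q : Set G) with hX
  have hXn : L ≤ Subgroup.normalizer (X : Set G) :=
    LocalEven64.le_normalizer_inf Subgroup.le_normalizer
      (LocalEven64.le_normalizer_centralizer (le_normalizer_pCoreOf L))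
  have h1 : O ⊓ X ≤ Cfsg.pCoreOf p X :=
    LocalEven64.le_pCoreOf inf_le_right (LocalEven64.le_normalizer_inf
      (hXD.trans (le_normalizer_pCoreOf D)) Subgroup.le_normalizer)
      ((isPGroup_pCoreOf D).to_le inf_le_left)
  have h2 := Class49.pCoreOf_le_pCoreOf (p := p) inf_le_left hXn
    (h1 (Subgroup.mem_inf.2 ⟨hy, Subgroup.mem_inf.2 ⟨hyR, hyQ⟩⟩))
  exact (Subgroup.mem_centralizer_iff.1 hxc y h2).symm

end Cfsg.Agent.LAE65
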