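import Cfsg.Prelude.Def_SubgroupEmbedding
import Cfsg.Prelude.Def_Solvable
import Cfsg.Prelude.Def_Transfer
import Cfsg.Agent.LAE65.Basic
import Cfsg.Agent.Lib.Involution.BaerSuzuki
import Cfsg.Agent.Lib.Involution.Dihedral
import Cfsg.Agent.Lib.Thompson.Cores

/-!
Sidki's criterion for subgroups of order at most four.
-/

set_option autoImplicit false
set_option linter.style.haveILetI false

namespace Cfsg.Agent.LAE65

variable {G : Type*} [Group G]

theorem mem_pCore_or_inverts [Finite G] {x : G} (hx : x * x = 1) :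
    x ∈ Cfsg.pCore 2 G ∨ ∃ h : G, Odd (orderOf h) ∧ h ≠ 1 ∧ x * h * x⁻¹ = h⁻¹ := by
  haveI : Fact (Nat.Prime 2) := ⟨Nat.prime_two⟩
  by_contra hcon
  push Not at hcon
  obtain ⟨hxO, hinv⟩ := hcon
  apply hxO
  obtain ⟨N, hN, hNp, hxN⟩ := Involution.baerSuzuki (p := 2) x fun g => by
    set y := g * x * g⁻¹ with hy
    have hy2 : y * y = 1 := by
      rw [hy, show g * x * g⁻¹ * (g * x * g⁻¹) = g * (x * x) * g⁻¹ by group, hx]
      group
    have hr : ∃ k, orderOf (x * y) = 2 ^ k := by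
      obtain ⟨e, m, hm, he⟩ := Nat.exists_eq_pow_mul_and_not_dvd (orderOf_pos (x * y)).ne' 2 (by norm_num)
      by_cases hm1 : m = 1
      · exact ⟨e, by rw [he, hm1, mul_one]⟩
      exfalso
      have hho : orderOf ((x * y) ^ (2 ^ e)) = m := by
        rw [orderOf_pow, he, Nat.gcd_eq_right (Dvd.intro m rfl),
          Nat.mul_div_cancel_left m (Nat.two_pow_pos e)]
      have hm_odd : Odd m := by rwa [← Nat.not_even_iff_odd, even_iff_two_dvd]
      refine hinv ((x * y) ^ (2 ^ e)) (hho.symm ▸ hm_odd) (fun h => hm1 ?_) ?_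
      · rw [← hho, h, orderOf_one]
      · rw [← conj_pow, Involution.inverts_mul hx hy2, inv_pow]
    have hR : IsPGroup 2 (Subgroup.zpowers (x * y)) := isPGroup_zpowers hr
    have hX : IsPGroup 2 (Subgroup.zpowers x) := by
      refine isPGroup_zpowers ?_
      obtain ⟨k, -, hk⟩ := (Nat.dvd_prime_pow Nat.prime_two).1
        (orderOf_dvd_of_pow_eq_one (show x ^ 2 ^ 1 = 1 by rw [pow_one, pow_two, hx]))
      exact ⟨k, hk⟩
    have hn : Subgroup.zpowers x ≤ Subgroup.normalizer ((Subgroup.zpowers (x * y) : Subgroup G) : Set G) := by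
      rw [Subgroup.zpowers_le, mem_normalizer_iff_map]
      refine Subgroup.eq_of_le_of_card_ge ?_ (card_map_conj _ x).ge
      rw [MonoidHom.map_zpowers, Subgroup.zpowers_le, MulEquiv.coe_toMonoidHom, MulAut.conj_apply,
        Involution.inverts_mul hx hy2]
      exact Subgroup.inv_mem _ (Subgroup.mem_zpowers _)
    refine (hX.to_sup_of_normal_right' hR hn).to_le ((Subgroup.closure_le _).2 ?_)
    intro a ha
    rcases ha with h | h
    · rw [SetLike.mem_coe, h]; exact Subgroup.mem_sup_left (Subgroup.mem_zpowers x)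
    · rw [SetLike.mem_coe, Set.mem_singleton_iff.1 h]
      have e : x⁻¹ * (x * y) = y := inv_mul_cancel_left x y
      have hm : x⁻¹ * (x * y) ∈ Subgroup.zpowers x ⊔ Subgroup.zpowers (x * y) :=
        mul_mem (Subgroup.mem_sup_left ((Subgroup.zpowers x).inv_mem (Subgroup.mem_zpowers x)))
          (Subgroup.mem_sup_right (Subgroup.mem_zpowers _))
      rw [e] at hm
      exact hm
  exact Thompson.le_pCore hN hNp hxN

theorem eq_one_of_fix_inv {z h : G} (ho : Odd (orderOf h)) (hf : z * h = h * z)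
    (hi : z * h * z⁻¹ = h⁻¹) : h = 1 := by
  rw [hf, mul_inv_cancel_right] at hi
  have h2 : h ^ 2 = 1 := by rw [pow_two]; exact mul_eq_one_iff_eq_inv.2 hi
  have hd := orderOf_dvd_of_pow_eq_one h2
  rcases (Nat.dvd_prime Nat.prime_two).1 hd with h1 | h1
  · exact orderOf_eq_one_iff.1 h1
  · rw [h1] at ho; exact absurd ho (by decide)

theorem commute_of_commute_sq {a b : G} (ho : Odd (orderOf a)) (h : Commute (a * a) b) :
    Commute a b := by
  obtain ⟨k, hk⟩ := ho
  have e : a = ((a * a) ^ (k + 1) : G) := by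
    rw [← pow_two, ← pow_mul, show 2 * (k + 1) = orderOf a + 1 by omega, pow_succ,
      pow_orderOf_eq_one, one_mul]
  rw [e]
  exact h.pow_left _

/-- The key configuration: `w` fixes `h` and inverts `k`, `u` fixes `k` and inverts `h`, and
`v = w u` inverts both. -/
theorem false_of_two_inverted {V : Subgroup G} (hS : Cfsg.IsSidkiPair V) {u v w : G}
    (hv : v ∈ V) (hw : w ∈ V) (hall : ∀ z ∈ V, z ≠ 1 → z = u ∨ z = v ∨ z = w)
    {h k : G} (hho : Odd (orderOf h)) (hh1 : h ≠ 1) (hko : Odd (orderOf k)) (hk1 : k ≠ 1)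
    (hvh : v * h * v⁻¹ = h⁻¹) (huh : u * h * u⁻¹ = h⁻¹) (hwh : w * h = h * w)
    (hvk : v * k * v⁻¹ = k⁻¹) (hwk : w * k * w⁻¹ = k⁻¹) (huk : u * k = k * u)
    (huvw : u = v * w) : False := by
  have hwh' : w * h * w⁻¹ = h := by rw [hwh, mul_inv_cancel_right]
  have huk' : u * k * u⁻¹ = k := by rw [huk, mul_inv_cancel_right]
  -- `h` and `k` do not commute
  have hnc : ¬ Commute h k := by
    intro hc
    have hodd : Odd (orderOf (h * k)) :=
      Odd.of_dvd_nat (hho.mul hko) hc.orderOf_mul_dvd_mul_orderOf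
    have hvhk : v * (h * k) * v⁻¹ = (h * k)⁻¹ := by
      rw [show v * (h * k) * v⁻¹ = (v * h * v⁻¹) * (v * k * v⁻¹) by group, hvh, hvk, mul_inv_rev,
        hc.inv_inv.eq]
    obtain ⟨z, hz, hz1, hzc⟩ := hS (h * k) v hv hodd hvhk
    have hzc' : z * (h * k) * z⁻¹ = h * k := by rw [hzc, mul_inv_cancel_right]
    have key : ∀ a : G, Odd (orderOf a) → a⁻¹ = a → a = 1 := fun a ha haa =>
      eq_one_of_fix_inv (z := (1 : G)) ha (by simp) (by simpa using haa.symm)
    rcases hall z hz hz1 with rfl | rfl | rfl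
    · apply hh1
      rw [show z * (h * k) * z⁻¹ = (z * h * z⁻¹) * (z * k * z⁻¹) by group, huh, huk'] at hzc'
      exact key h hho (mul_right_cancel hzc')
    · have h1 : h * k = 1 := eq_one_of_fix_inv hodd hzc hvhk
      have hkh : k = h⁻¹ := eq_inv_of_mul_eq_one_right h1
      apply hk1
      refine eq_one_of_fix_inv hko ?_ hwk
      rw [hkh]
      exact ((Commute.inv_right (hwh : Commute w h))).eq
    · apply hk1
      rw [show z * (h * k) * z⁻¹ = (z * h * z⁻¹) * (z * k * z⁻¹) by group, hwh', hwk] at hzc'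
      exact key k hko (mul_left_cancel hzc')
  -- the conjugate of `k` by `h`
  set y := h⁻¹ * k * h with hy
  have hyo : Odd (orderOf y) := by
    have : orderOf y = orderOf k := by
      rw [hy, show h⁻¹ * k * h = MulAut.conj h⁻¹ k by simp, MulEquiv.orderOf_eq]
    rwa [this]
  have hwy : w * y * w⁻¹ = y⁻¹ := by
    rw [hy, show w * (h⁻¹ * k * h) * w⁻¹ = (w * h * w⁻¹)⁻¹ * (w * k * w⁻¹) * (w * h * w⁻¹) by group,
      hwh', hwk]
    group
  obtain ⟨z, hz, hz1, hzc⟩ := hS y w hw hyo hwy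
  have hzc' : z * y * z⁻¹ = y := by rw [hzc, mul_inv_cancel_right]
  have hvy : v * y * v⁻¹ = h * k⁻¹ * h⁻¹ := by
    rw [hy, show v * (h⁻¹ * k * h) * v⁻¹ = (v * h * v⁻¹)⁻¹ * (v * k * v⁻¹) * (v * h * v⁻¹) by group,
      hvh, hvk]
    group
  rcases hall z hz hz1 with hzu | hzv | hzw
  · -- `u` fixes `y`, so `v` inverts it
    subst hzu
    have h1 : h * k * h⁻¹ = h⁻¹ * k * h := by
      have : z * y * z⁻¹ = h * k * h⁻¹ := by
        rw [hy, show z * (h⁻¹ * k * h) * z⁻¹ = (z * h * z⁻¹)⁻¹ * (z * k * z⁻¹) * (z * h * z⁻¹) by group,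
          huh, huk']
        group
      rw [this] at hzc'
      exact hzc'
    apply hnc
    refine commute_of_commute_sq hho ?_
    have h2 := congrArg (fun e => h * e * h) h1
    simpa [Commute, SemiconjBy, mul_assoc] using h2
  · subst hzv
    rw [hvy] at hzc'
    -- `h ^ 2` inverts `k`
    have h2 : (h * h) * k⁻¹ * (h * h)⁻¹ = k := by
      have := congrArg (fun e => h * e * h⁻¹) hzc'
      rw [hy] at this
      simpa [mul_assoc] using this
    have h4 : Commute ((h * h) * (h * h)) k := by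
      have h3 := congrArg (fun e => (h * h) * e * (h * h)⁻¹) h2
      have h5 : (h * h) * k * (h * h)⁻¹ = k⁻¹ := by
        have := congrArg (·⁻¹) h2
        simpa [mul_assoc] using this
      refine mul_inv_eq_iff_eq_mul.1 ?_
      calc h * h * (h * h) * k * (h * h * (h * h))⁻¹
          = (h * h) * ((h * h) * k * (h * h)⁻¹) * (h * h)⁻¹ := by group
        _ = k := by rw [h5, h2]
    apply hnc
    have hho2 : Odd (orderOf (h * h)) := by
      rw [← pow_two]; exact Odd.of_dvd_nat hho (orderOf_pow_dvd 2)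
    exact commute_of_commute_sq hho (commute_of_commute_sq hho2 h4)
  · subst hzw
    have : y = 1 := eq_one_of_fix_inv hyo hzc hwy
    apply hk1
    have h1 := congrArg (fun e => h * e * h⁻¹) this
    simpa [hy, mul_assoc] using h1

theorem inf_pCore_ne_bot_of_card_le_four [Finite G] {V : Subgroup G}
    (hV : Cfsg.IsElementaryAbelian 2 V) (hV1 : V ≠ ⊥) (hS : Cfsg.IsSidkiPair V)
    (h4 : Nat.card V ≤ 4) : V ⊓ Cfsg.pCore 2 G ≠ ⊥ := by
  classical
  obtain ⟨hVc, hV2⟩ := hV
  have hsq : ∀ a ∈ V, a * a = 1 := fun a ha => by rw [← pow_two]; exact hV2 a ha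
  have hcomm : ∀ a ∈ V, ∀ b ∈ V, a * b = b * a := fun a ha b hb =>
    congrArg Subtype.val (hVc.is_comm.comm ⟨a, ha⟩ ⟨b, hb⟩)
  intro hbot
  -- every nontrivial element inverts some nontrivial element of odd order
  have hinv : ∀ a ∈ V, a ≠ 1 → ∃ h : G, Odd (orderOf h) ∧ h ≠ 1 ∧ a * h * a⁻¹ = h⁻¹ := by
    intro a ha ha1
    refine (mem_pCore_or_inverts (hsq a ha)).resolve_left fun hO => ha1 ?_
    exact Subgroup.mem_bot.1 (hbot ▸ Subgroup.mem_inf.2 ⟨ha, hO⟩)
  obtain ⟨v, hv, hv1⟩ := (Subgroup.bot_or_exists_ne_one V).resolve_left hV1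
  obtain ⟨h, hho, hh1, hvh⟩ := hinv v hv hv1
  obtain ⟨w, hw, hw1, hwh⟩ := hS h v hv hho hvh
  have hwv : w ≠ v := by
    rintro rfl
    exact hh1 (eq_one_of_fix_inv hho hwh hvh)
  set u := v * w with hu
  have huV : u ∈ V := V.mul_mem hv hw
  have hvv := hsq v hv
  have hu1 : u ≠ 1 := by
    intro h1
    exact hwv ((eq_inv_of_mul_eq_one_right h1).trans (inv_eq_of_mul_eq_one_right hvv))
  have huv : u ≠ v := fun h1 => hw1 (mul_eq_left.1 h1)
  have huw : u ≠ w := fun h1 => hv1 (mul_eq_right.1 h1)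
  have hall : ∀ z ∈ V, z ≠ 1 → z = u ∨ z = v ∨ z = w := by
    intro z hz hz1
    by_contra hcon
    push Not at hcon
    haveI : Fintype V := Fintype.ofFinite V
    have hcard : ({⟨1, V.one_mem⟩, ⟨u, huV⟩, ⟨v, hv⟩, ⟨w, hw⟩, ⟨z, hz⟩} : Finset V).card = 5 := by
      repeat' rw [Finset.card_insert_of_notMem]
      · simp
      · simp [Ne.symm hcon.2.2]
      · simp [Ne.symm hwv, Ne.symm hcon.2.1]
      · simp [huv, huw, Ne.symm hcon.1]
      · simp [Ne.symm hu1, Ne.symm hv1, Ne.symm hw1, Ne.symm hz1]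
    have hle := Finset.card_le_univ ({⟨1, V.one_mem⟩, ⟨u, huV⟩, ⟨v, hv⟩, ⟨w, hw⟩, ⟨z, hz⟩} : Finset V)
    rw [hcard, ← Nat.card_eq_fintype_card] at hle
    omega
  have huh : u * h * u⁻¹ = h⁻¹ := by
    rw [hu, show v * w * h * (v * w)⁻¹ = v * (w * h * w⁻¹) * v⁻¹ by group, hwh,
      mul_inv_cancel_right, hvh]
  obtain ⟨k, hko, hk1, hwk⟩ := hinv w hw hw1
  obtain ⟨z, hz, hz1, hzk⟩ := hS k w hw hko hwk
  rcases hall z hz hz1 with hzu | hzv | hzw
  · subst hzu
    refine false_of_two_inverted hS hv hw hall hho hh1 hko hk1 hvh huh hwh ?_ hwk hzk rfl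
    have e : v = u * w⁻¹ := by rw [hu]; group
    rw [e, inv_eq_of_mul_eq_one_right (hsq w hw),
      show u * w * k * (u * w)⁻¹ = u * (w * k * w⁻¹) * u⁻¹ by group, hwk,
      ((Commute.inv_right (hzk : Commute u k))).eq, mul_inv_cancel_right]
  · subst hzv
    -- `v` fixes `k`, so `u` inverts it
    refine false_of_two_inverted hS (u := z) (v := u) (w := w) huV hw ?_ hho hh1 hko hk1 huh hvh hwh
      ?_ hwk hzk ?_
    · intro a ha ha1
      rcases hall a ha ha1 with h' | h' | h'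
      · exact Or.inr (Or.inl h')
      · exact Or.inl h'
      · exact Or.inr (Or.inr h')
    · rw [hu, show z * w * k * (z * w)⁻¹ = z * (w * k * w⁻¹) * z⁻¹ by group, hwk,
        ((Commute.inv_right (hzk : Commute z k))).eq, mul_inv_cancel_right]
    · rw [hu, mul_assoc, hsq w hw, mul_one]
  · subst hzw
    exact hk1 (eq_one_of_fix_inv hko hzk hwk)

end Cfsg.Agent.LAE65
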