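import Mathlib.GroupTheory.Transfer
import Cfsg.Agent.LAE65.Basic

set_option autoImplicit false

namespace Cfsg.Agent.LAE65

variable {G : Type*} [Group G] [Finite G]

/-- A transfer criterion: a subgroup `H ⊴ M` with abelian quotient, such that elements of
`M` are conjugated by outside elements into `M` only from `H`, is cut out by a normal subgroup. -/
theorem exists_normal_inf_le (M H : Subgroup G) (hHM : H ≤ M) (hn : (H.subgroupOf M).Normal)
    (hab : ∀ a ∈ M, ∀ b ∈ M, a * b * a⁻¹ * b⁻¹ ∈ H)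
    (hkey : ∀ g : G, g ∉ M → ∀ x ∈ M, g * x * g⁻¹ ∈ M → x ∈ H) :
    ∃ K : Subgroup G, K.Normal ∧ H ≤ K ∧ K ⊓ M ≤ H ∧ ∀ a b : G, a * b * a⁻¹ * b⁻¹ ∈ K := by
  haveI := hn
  classical
  letI : CommGroup (↥M ⧸ H.subgroupOf M) :=
    { mul_comm := by
        intro a b
        obtain ⟨a, rfl⟩ := QuotientGroup.mk_surjective a
        obtain ⟨b, rfl⟩ := QuotientGroup.mk_surjective b
        rw [← QuotientGroup.mk_mul, ← QuotientGroup.mk_mul, QuotientGroup.eq,
          Subgroup.mem_subgroupOf]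
        simpa [mul_assoc] using hab (b : G)⁻¹ (M.inv_mem b.2) (a : G)⁻¹ (M.inv_mem a.2) }
  let φ : ↥M →* ↥M ⧸ H.subgroupOf M := QuotientGroup.mk' _
  set V := MonoidHom.transfer φ with hV
  have hVx : ∀ x : ↥M, V (x : G) = φ x := by
    intro x
    letI := M.fintypeQuotientOfFiniteIndex
    letI : Fintype (Quotient (MulAction.orbitRel (Subgroup.zpowers (x : G)) (G ⧸ M))) :=
      Fintype.ofFinite _
    rw [hV, MonoidHom.transfer_eq_prod_quotient_orbitRel_zpowers_quot]
    set q₀ : Quotient (MulAction.orbitRel (Subgroup.zpowers (x : G)) (G ⧸ M)) :=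
      Quotient.mk'' ((1 : G) : G ⧸ M) with hq₀
    have hfix : ∀ z : Subgroup.zpowers (x : G), z • ((1 : G) : G ⧸ M) = ((1 : G) : G ⧸ M) := by
      intro z
      show (((z : G) * 1 : G) : G ⧸ M) = _
      rw [QuotientGroup.eq]
      simpa using M.inv_mem ((Subgroup.zpowers_le.2 x.2) z.2)
    have hout : ∀ q : Quotient (MulAction.orbitRel (Subgroup.zpowers (x : G)) (G ⧸ M)),
        q.out.out ∈ M ↔ q = q₀ := by
      intro q
      constructor
      · intro h
        rw [← Quotient.out_eq' q, hq₀]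
        congr 1
        rw [← QuotientGroup.out_eq' q.out, QuotientGroup.eq]
        simpa using h
      · rintro rfl
        obtain ⟨z, hz⟩ := (Quotient.eq''.1 (Quotient.out_eq' q₀) :
          (MulAction.orbitRel (Subgroup.zpowers (x : G)) (G ⧸ M)).r q₀.out ((1 : G) : G ⧸ M))
        have h1 : q₀.out = ((1 : G) : G ⧸ M) := hz.symm.trans (hfix z)
        have h2 := QuotientGroup.out_eq' q₀.out
        conv at h2 => rhs; rw [h1]
        have h3 := M.inv_mem (QuotientGroup.eq.1 h2)
        simpa using h3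
    rw [Fintype.prod_eq_single q₀]
    · have hm : q₀.out.out ∈ M := (hout q₀).2 rfl
      have hper : Function.minimalPeriod ((x : G) • ·) q₀.out = 1 := by
        rw [Function.minimalPeriod_eq_one_iff_isFixedPt]
        show (x : G) • q₀.out = q₀.out
        rw [← QuotientGroup.out_eq' q₀.out, MulAction.Quotient.smul_coe, QuotientGroup.eq, smul_eq_mul,
          mul_inv_rev]
        exact M.mul_mem (M.mul_mem (M.inv_mem hm) (M.inv_mem x.2)) hm
      simp only [φ, QuotientGroup.mk'_apply, hper, pow_one]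
      rw [QuotientGroup.eq, Subgroup.mem_subgroupOf]
      simpa [mul_assoc] using hab _ (M.inv_mem hm) _ (M.inv_mem x.2)
    · intro q hq
      have hnm : q.out.out ∉ M := fun h => hq ((hout q).1 h)
      simp only [φ, QuotientGroup.mk'_apply, QuotientGroup.eq_one_iff, Subgroup.mem_subgroupOf]
      have hmem := QuotientGroup.out_conj_pow_minimalPeriod_mem M (x : G) q.out
      refine hkey q.out.out hnm _ hmem ?_
      have : q.out.out * (q.out.out⁻¹ * (x : G) ^ Function.minimalPeriod ((x : G) • ·) q.out * q.out.out) *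
          q.out.out⁻¹ = (x : G) ^ Function.minimalPeriod ((x : G) • ·) q.out := by group
      rw [this]
      exact M.pow_mem x.2 _
  refine ⟨V.ker, inferInstance, fun h hh => ?_, fun m hm => ?_, fun a b => ?_⟩
  rotate_left 2
  · rw [MonoidHom.mem_ker, map_mul, map_mul, map_mul, map_inv, map_inv, mul_comm (V a), mul_inv_cancel_right, mul_inv_cancel]
  · rw [MonoidHom.mem_ker, hVx ⟨h, hHM hh⟩]
    exact (QuotientGroup.eq_one_iff _).2 hh
  · obtain ⟨hmK, hmM⟩ := hm
    replace hmK : V m = 1 := hmK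
    rw [hVx ⟨m, hmM⟩] at hmK
    exact (QuotientGroup.eq_one_iff (⟨m, hmM⟩ : ↥M)).1 hmK

theorem normal_of_normalized {L : Subgroup G} {x : G} (hx : x ∈ Subgroup.normalizer (L : Set G))
    (hgen : L ⊔ Subgroup.zpowers x = ⊤) : L.Normal := by
  rw [← Subgroup.normalizer_eq_top_iff, eq_top_iff, ← hgen]
  exact sup_le Subgroup.le_normalizer (Subgroup.zpowers_le.2 hx)

theorem normalizer_map_conj {H : Subgroup G} {g x : G}
    (h : g * x * g⁻¹ ∈ Subgroup.normalizer (H : Set G)) :
    x ∈ Subgroup.normalizer ((H.map (MulAut.conj g⁻¹).toMonoidHom : Subgroup G) : Set G) := by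
  rw [mem_normalizer_iff_map, map_conj_mul, show x * g⁻¹ = g⁻¹ * (g * x * g⁻¹) by group,
    ← map_conj_mul, mem_normalizer_iff_map.1 h]

omit [Finite G] in
theorem le_normalizer_of_subgroupOf {M H : Subgroup G} (hHM : H ≤ M)
    (hn : (H.subgroupOf M).Normal) : M ≤ Subgroup.normalizer (H : Set G) :=
  (Subgroup.normal_subgroupOf_iff_le_normalizer hHM).1 hn

omit [Finite G] in
/-- A maximal normal-like step: adjoining any outside element gives everything. -/
theorem sup_zpowers_eq {M H : Subgroup G} (hHM : H ≤ M) (hmax : IsCoatom (H.subgroupOf M))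
    {x : G} (hxM : x ∈ M) (hxH : x ∉ H) : H ⊔ Subgroup.zpowers x = M := by
  refine le_antisymm (sup_le hHM (Subgroup.zpowers_le.2 hxM)) ?_
  rw [← Subgroup.subgroupOf_eq_top]
  refine hmax.2 _ (lt_of_le_of_ne (fun y hy => Subgroup.mem_sup_left hy) fun h => hxH ?_)
  have : (⟨x, hxM⟩ : ↥M) ∈ H.subgroupOf M :=
    h.ge (Subgroup.mem_sup_right (Subgroup.mem_zpowers x))
  exact this

omit [Finite G] in
theorem commutator_mem_of_coatom {M H : Subgroup G} (hHM : H ≤ M)
    (hmax : IsCoatom (H.subgroupOf M)) (hn : (H.subgroupOf M).Normal) :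
    ∀ a ∈ M, ∀ b ∈ M, a * b * a⁻¹ * b⁻¹ ∈ H := by
  intro a ha b hb
  have hnorm := le_normalizer_of_subgroupOf hHM hn
  by_cases haH : a ∈ H
  · have h1 := (Subgroup.mem_normalizer_iff.1 (hnorm hb) a⁻¹).1 (H.inv_mem haH)
    simpa [mul_assoc] using H.mul_mem haH h1
  · have hb' : b ∈ H ⊔ Subgroup.zpowers a := (sup_zpowers_eq hHM hmax ha haH).ge hb
    rw [← SetLike.mem_coe, Subgroup.coe_mul_of_right_le_normalizer_left _ _
      (Subgroup.zpowers_le.2 (hnorm ha)), Set.mem_mul] at hb'
    obtain ⟨h, hh, _, ⟨i, rfl⟩, rfl⟩ := hb'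
    have h1 := (Subgroup.mem_normalizer_iff.1 (hnorm ha) h).1 hh
    have : a * (h * a ^ i) * a⁻¹ * (h * a ^ i)⁻¹ = a * h * a⁻¹ * h⁻¹ := by group
    rw [this]
    exact H.mul_mem h1 (H.inv_mem hh)

theorem coatom_of_relIndex_prime {M H : Subgroup G} (h : (H.relIndex M).Prime) :
    IsCoatom (H.subgroupOf M) := by
  refine ⟨fun he => ?_, fun X hX => ?_⟩
  · have h2 : (H.subgroupOf M).index = H.relIndex M := rfl
    rw [he, Subgroup.index_top] at h2
    exact h.one_lt.ne h2
  · have hd := Subgroup.index_dvd_of_le hX.le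
    rcases (Nat.dvd_prime h).1 hd with h' | h'
    · exact Subgroup.index_eq_one.1 h'
    · exact absurd h' ((Subgroup.index_strictAnti hX).trans_eq rfl).ne

end Cfsg.Agent.LAE65
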