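import Cfsg.Prelude.Def_IsolatedElements
import Cfsg.Prelude.Def_Solvable
import Cfsg.Agent.LAE65.Isolated
import Cfsg.Agent.Lib.Thompson.Cores
import Cfsg.Agent.Lib.Coprime.Action
import Cfsg.Agent.Lib.Solvable.Basic
import Cfsg.Agent.Lib.Transfer.Focal
import Mathlib.GroupTheory.SchurZassenhaus

/-!
Minimal counterexamples to the odd Z*-statement.
-/

set_option autoImplicit false
set_option linter.style.haveILetI false

open scoped commutatorElement

namespace Cfsg.Agent.LAE65

universe u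

variable {G : Type u} [Group G] {p : ℕ}

theorem isolated_subgroup {x : G} (hiso : Cfsg.IsIsolated x) (H : Subgroup G) (hxH : x ∈ H) :
    Cfsg.IsIsolated (⟨x, hxH⟩ : H) := fun g hg =>
  Subtype.ext (hiso (g : G) (congrArg Subtype.val hg))

/-- Subgroups invariant under an isolated `p`-element that are conjugate are conjugate under
its centralizer. -/
theorem isolated_conj_invariant [Finite G] [Fact p.Prime] {x : G} (hx : ∃ k : ℕ, orderOf x = p ^ k)
    (hiso : Cfsg.IsIsolated x) {H S₁ S₂ : Subgroup G} (hxH : x ∈ H)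
    (h1 : x ∈ Subgroup.normalizer (S₁ : Set G)) (h2 : x ∈ Subgroup.normalizer (S₂ : Set G))
    {g : G} (hgH : g ∈ H) (hg : S₁.map (MulAut.conj g).toMonoidHom = S₂) :
    ∃ c ∈ H ⊓ Subgroup.centralizer ({x} : Set G), S₁.map (MulAut.conj c).toMonoidHom = S₂ := by
  set N := H ⊓ Subgroup.normalizer (S₂ : Set G) with hN
  have hy : g * x * g⁻¹ ∈ N := by
    refine Subgroup.mem_inf.2 ⟨H.mul_mem (H.mul_mem hgH hxH) (H.inv_mem hgH), ?_⟩
    rw [mem_normalizer_iff_map, ← hg, map_conj_mul]
    conv_rhs => rw [← mem_normalizer_iff_map.1 h1, map_conj_mul]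
    congr 3; group
  have hyp : ∃ k : ℕ, orderOf (g * x * g⁻¹) = p ^ k := by
    obtain ⟨k, hk⟩ := hx
    exact ⟨k, by rw [← hk, ← MulAut.conj_apply, MulEquiv.orderOf_eq]⟩
  obtain ⟨P, hxP, hPN, hP, hPi⟩ := exists_sylow_in (p := p)
    (Subgroup.zpowers_le.2 (show x ∈ N from Subgroup.mem_inf.2 ⟨hxH, h2⟩)) (isPGroup_zpowers hx)
  obtain ⟨h, hh, hhP⟩ := exists_conj_le_in (Subgroup.zpowers_le.2 hy) (isPGroup_zpowers hyp)
    hPN hP hPi
  have heq : h * (g * x * g⁻¹) * h⁻¹ = x := by
    have := hhP (conj_mem_map (Subgroup.mem_zpowers (g * x * g⁻¹)))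
    have e : h * (g * x * g⁻¹) * h⁻¹ = h * g * x * (h * g)⁻¹ := by group
    rw [e] at this ⊢
    exact isolated_eq_of_mem hiso hP (hxP (Subgroup.mem_zpowers x)) this
  refine ⟨h * g, Subgroup.mem_inf.2 ⟨H.mul_mem hh.1 hgH, ?_⟩, ?_⟩
  · rw [mem_centralizer_singleton_conj]
    conv_rhs => rw [← heq]
    group
  · rw [← map_conj_mul, hg]
    exact mem_normalizer_iff_map.1 hh.2

/-- An isolated `p`-element central modulo the `p'`-core normalizes a Sylow `q`-subgroup. -/
theorem exists_invariant_sylow_of_inZStar [Finite G] [hp : Fact p.Prime] {x : G}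
    (hx : ∃ k : ℕ, orderOf x = p ^ k) (hiso : Cfsg.IsIsolated x) (hz : Cfsg.InZStar p x)
    (q : ℕ) [hq : Fact q.Prime] :
    ∃ S : Sylow q G, x ∈ Subgroup.normalizer ((S : Subgroup G) : Set G) := by
  set K := Cfsg.pPrimeCore p G with hK
  haveI hKn : K.Normal := Thompson.sSup_normal fun _ h => h.1
  set A := Subgroup.zpowers x with hA
  have hAK : A ≤ Subgroup.normalizer (K : Set G) := by
    rw [Subgroup.normalizer_eq_top]; exact le_top
  have hcop : (Nat.card A).Coprime (Nat.card K) := by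
    obtain ⟨k, hk⟩ := hx
    rw [hA, Nat.card_zpowers, hk]
    exact (Thompson.card_pPrimeCore_coprime.symm).pow_left k
  obtain ⟨P, hP⟩ := Coprime.exists_invariant_sylow A K hAK hcop (Or.inl inferInstance) q
  set Kq := (P : Subgroup K).map K.subtype with hKq
  set L := Subgroup.normalizer (Kq : Set G) with hL
  have hxL : x ∈ L := hP (Subgroup.mem_zpowers x)
  set M := (K ⊓ L) ⊔ A with hM
  have hMn : L ≤ Subgroup.normalizer (M : Set G) := by
    intro l hl
    rw [mem_normalizer_iff_map]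
    refine Subgroup.eq_of_le_of_card_ge ?_ (card_map_conj M l).ge
    rw [Subgroup.map_sup]
    refine sup_le ?_ ?_
    · rintro _ ⟨a, ha, rfl⟩
      exact Subgroup.mem_sup_left ⟨hKn.conj_mem a ha.1 l, L.mul_mem (L.mul_mem hl ha.2) (L.inv_mem hl)⟩
    · rw [hA, MonoidHom.map_zpowers, Subgroup.zpowers_le]
      have e : l * x * l⁻¹ = (l * x * l⁻¹ * x⁻¹) * x := by group
      rw [MulEquiv.coe_toMonoidHom, MulAut.conj_apply, e]
      exact Subgroup.mul_mem_sup
        ⟨hz l, L.mul_mem (L.mul_mem (L.mul_mem hl hxL) (L.inv_mem hl)) (L.inv_mem hxL)⟩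
        (Subgroup.mem_zpowers x)
  have hfr := isolated_frattini hx hiso (H := L) (sup_le inf_le_right (Subgroup.zpowers_le.2 hxL))
    hMn (Subgroup.mem_sup_right (Subgroup.mem_zpowers x))
  set D := L ⊓ Subgroup.centralizer ({x} : Set G) with hD
  have hxD : x ∈ D := ⟨hxL, mem_centralizer_singleton.2 rfl⟩
  -- Frattini
  have hKD : K ⊔ D = ⊤ := by
    refine eq_top_iff.2 (le_of_eq_of_le (Sylow.normalizer_sup_eq_top P).symm (sup_le ?_ le_sup_left))
    refine (le_of_eq_of_le hfr.symm (sup_le (sup_le (inf_le_left.trans le_sup_left) ?_) le_sup_right))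
    exact (Subgroup.zpowers_le.2 hxD).trans le_sup_right
  obtain ⟨R, -, hRD, hR, hRi⟩ := exists_sylow_in (p := q) (H := D) (bot_le : (⊥ : Subgroup G) ≤ D)
    IsPGroup.of_bot
  set S := R ⊔ Kq with hS
  have hSq : IsPGroup q S :=
    hR.to_sup_of_normal_right' (P.2.map _) (hRD.trans inf_le_left)
  have hxS : x ∈ Subgroup.normalizer (S : Set G) := by
    rw [mem_normalizer_iff_map, hS, Subgroup.map_sup, mem_normalizer_iff_map.1 hxL]
    congr 1
    rw [← mem_normalizer_iff_map]
    refine Subgroup.centralizer_le_normalizer _ (Subgroup.mem_centralizer_iff.2 fun r hr => ?_)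
    exact mem_centralizer_singleton.1 (hRD hr).2
  -- the index
  let f := QuotientGroup.mk' K
  have hSf : ¬ q ∣ (S.map f).index := by
    intro hd
    apply hRi
    refine hd.trans ?_
    have h1 : D.map f = ⊤ := by
      have := congrArg (Subgroup.map f) hKD
      rwa [Subgroup.map_sup, Subgroup.map_top_of_surjective _ (QuotientGroup.mk'_surjective K),
        QuotientGroup.map_mk'_self, bot_sup_eq] at this
    have hg : Function.Surjective (f.comp D.subtype) := by
      intro y
      obtain ⟨d, hd, hdy⟩ := (h1.symm ▸ Subgroup.mem_top y : y ∈ D.map f)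
      exact ⟨⟨d, hd⟩, hdy⟩
    have h3 := Subgroup.index_map_dvd (R.subgroupOf D) hg
    have e : (R.subgroupOf D).map (f.comp D.subtype) = R.map f := by
      rw [← Subgroup.map_map, Subgroup.subgroupOf_map_subtype, inf_eq_left.2 hRD]
    rw [e] at h3
    exact (Subgroup.index_dvd_of_le (Subgroup.map_mono le_sup_left)).trans h3
  have hSK : ¬ q ∣ S.relIndex K := by
    intro hd
    have h1 : Kq.relIndex K = (P : Subgroup K).index := by
      rw [Subgroup.relIndex, hKq, ← Subgroup.comap_subtype,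
        Subgroup.comap_map_eq_self_of_injective K.subtype_injective]
    exact P.not_dvd_index (h1 ▸ hd.trans (Subgroup.relIndex_dvd_of_le_left K le_sup_right))
  have hSi : ¬ q ∣ S.index := by
    intro hd
    have h1 : S.index ∣ S.relIndex K * (S.map f).index := by
      rw [Subgroup.index_map, QuotientGroup.ker_mk',
        MonoidHom.range_eq_top.2 (QuotientGroup.mk'_surjective K), Subgroup.index_top, mul_one,
        ← Subgroup.relIndex_mul_index (le_sup_left : S ≤ S ⊔ K)]
      refine Nat.mul_dvd_mul_right (dvd_of_eq ?_) _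
      have e1 := Solvable.card_mul_relIndex (le_sup_left : S ≤ S ⊔ K)
      have e2 := Solvable.card_mul_relIndex (inf_le_right : S ⊓ K ≤ K)
      have e3 := Solvable.card_sup_mul_card_inf S K
      rw [← e1, ← e2, Subgroup.inf_relIndex_right, mul_assoc] at e3
      have e4 := Nat.eq_of_mul_eq_mul_left (Nat.card_pos (α := S)) e3
      rw [mul_comm] at e4
      exact Nat.eq_of_mul_eq_mul_left (Nat.card_pos (α := (S ⊓ K : Subgroup G))) e4
    rcases hq.out.dvd_mul.1 (hd.trans h1) with h | h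
    · exact hSK h
    · exact hSf h
  exact ⟨hSq.toSylow hSi, by simpa using hxS⟩

/-- A minimal counterexample to the Z*-statement. -/
structure ZStarMinimal (p : ℕ) (x : G) : Prop where
  order : orderOf x = p
  iso : Cfsg.IsIsolated x
  not_central : ¬ Cfsg.InZStar p x
  sub : ∀ (H : Subgroup G) (hxH : x ∈ H), H ≠ ⊤ → Cfsg.InZStar p (⟨x, hxH⟩ : H)
  quot : ∀ (N : Subgroup G) [N.Normal], N ≠ ⊥ → Cfsg.InZStar p (QuotientGroup.mk x : G ⧸ N)

namespace ZStarMinimal

variable {x : G}

theorem pow_order [Fact p.Prime] (h : ZStarMinimal p x) : ∃ k : ℕ, orderOf x = p ^ k :=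
  ⟨1, by rw [pow_one]; exact h.order⟩

theorem sylow_commute [Finite G] [Fact p.Prime] (h : ZStarMinimal p x) {R : Subgroup G}
    (hR : IsPGroup p R) (hxR : x ∈ R) {r : G} (hr : r ∈ R) : r * x = x * r :=
  mul_inv_eq_iff_eq_mul.1 (isolated_commute_of_mem h.iso hR hxR hr)

theorem pPrimeCore_eq_bot [Finite G] [Fact p.Prime] (h : ZStarMinimal p x) :
    Cfsg.pPrimeCore p G = ⊥ := by
  by_contra hne
  haveI : (Cfsg.pPrimeCore p G).Normal := Thompson.sSup_normal fun _ h => h.1
  apply h.not_central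
  intro g
  have := h.quot _ hne (QuotientGroup.mk g)
  rw [Thompson.pPrimeCore_quotient_pPrimeCore, Subgroup.mem_bot] at this
  exact (QuotientGroup.eq_one_iff _).1 this

theorem eq_bot_of_coprime [Finite G] [Fact p.Prime] (h : ZStarMinimal p x) {N : Subgroup G}
    (hN : N.Normal) (hc : (Nat.card N).Coprime p) : N = ⊥ :=
  le_bot_iff.1 (h.pPrimeCore_eq_bot ▸ Thompson.le_pPrimeCore hN hc)

theorem center_trivial [Finite G] [Fact p.Prime] (h : ZStarMinimal p x) :
    ¬ ∀ g : G, g * x * g⁻¹ = x := fun hc => h.not_central fun g => by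
  rw [hc g, mul_inv_cancel]; exact one_mem _

/-- A normal subgroup centralized by `x` is trivial if it meets its centralizer nicely. -/
theorem not_commute_normal [Finite G] [Fact p.Prime] (h : ZStarMinimal p x) {N : Subgroup G}
    [N.Normal] (hN1 : N ≠ ⊥)
    (hZ : N ⊓ Subgroup.centralizer (N : Set G) = ⊥ ∨ IsPGroup p N) :
    ∃ n ∈ N, n * x ≠ x * n := by
  by_contra hcon
  push Not at hcon
  set C := Subgroup.centralizer (N : Set G) with hC
  have hxC : x ∈ C := Subgroup.mem_centralizer_iff.2 hcon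
  haveI : C.Normal := inferInstance
  set K := Cfsg.pPrimeCore p (G ⧸ N) with hK
  haveI : K.Normal := Thompson.sSup_normal fun _ h => h.1
  set X := (K.comap (QuotientGroup.mk' N)) ⊓ C with hX
  have hXmem : ∀ g : G, g * x * g⁻¹ * x⁻¹ ∈ X := fun g =>
    Subgroup.mem_inf.2 ⟨h.quot N hN1 (QuotientGroup.mk g),
      C.mul_mem ((inferInstance : C.Normal).conj_mem x hxC g) (C.inv_mem hxC)⟩
  have hXN : ∀ y ∈ X, y ∈ N := by
    haveI hXn : X.Normal := inferInstance
    have hKc : (Nat.card K).Coprime p := Thompson.card_pPrimeCore_coprime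
    -- a complement to `N ⊓ X` in `X` is a normal `p'`-subgroup
    have hidx : ((N.subgroupOf X).index).Coprime p := by
      refine hKc.coprime_dvd_left ?_
      show N.relIndex X ∣ _
      have e : (QuotientGroup.mk' N).ker.relIndex X = N.relIndex X := by rw [QuotientGroup.ker_mk']
      rw [← e, Subgroup.relIndex_ker]
      exact Subgroup.card_dvd_of_le (Subgroup.map_le_iff_le_comap.2 inf_le_left)
    have hcen : N.subgroupOf X ≤ Subgroup.center X := fun a ha =>
      Subgroup.mem_center_iff.2 fun b => Subtype.ext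
        (Subgroup.mem_centralizer_iff.1 b.2.2 (a : G) ha).symm
    rcases hZ with hZ | hNp
    · have hXc : (Nat.card X).Coprime p := by
        have : N.subgroupOf X = ⊥ := by
          rw [Subgroup.subgroupOf_eq_bot, disjoint_iff, eq_bot_iff, ← hZ]
          exact inf_le_inf_left _ inf_le_right
        rw [this, Subgroup.index_bot] at hidx
        exact hidx
      intro y hy
      rw [h.eq_bot_of_coprime hXn hXc, Subgroup.mem_bot] at hy
      exact hy ▸ one_mem N
    · have hcop : (Nat.card (N.subgroupOf X)).Coprime (N.subgroupOf X).index := by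
        obtain ⟨b, hb⟩ := IsPGroup.iff_card.1 (hNp.comap_subtype (K := X))
        show (Nat.card (N.comap X.subtype)).Coprime _
        rw [hb]
        exact hidx.symm.pow_left b
      obtain ⟨L, hL⟩ := Subgroup.exists_right_complement'_of_coprime hcop
      set A := N.subgroupOf X with hA
      haveI hLn : L.Normal := ⟨fun l hl b => by
        have hb : b ∈ A ⊔ L := hL.sup_eq_top ▸ Subgroup.mem_top b
        obtain ⟨a, ha, l', hl', rfl⟩ := Subgroup.mem_sup_of_normal_left.1 hb
        have e : a * l' * l * (a * l')⁻¹ = a * (l' * l * l'⁻¹) * a⁻¹ := by group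
        rw [e, ← Subgroup.mem_center_iff.1 (hcen ha) (l' * l * l'⁻¹), mul_inv_cancel_right]
        exact L.mul_mem (L.mul_mem hl' hl) (L.inv_mem hl')⟩
      have hLc : (Nat.card L).Coprime p := by rwa [← hL.symm.index_eq_card]
      have hLbot : L = ⊥ := by
        have hle : L ≤ Cfsg.pPrimeCore p X := Thompson.le_pPrimeCore hLn hLc
        have hmap : (Cfsg.pPrimeCore p X).map X.subtype = ⊥ := by
          refine le_bot_iff.1 ((Thompson.map_pPrimeCore_normal_le X).trans ?_)
          rw [h.pPrimeCore_eq_bot]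
        rw [Subgroup.map_eq_bot_iff_of_injective _ X.subtype_injective] at hmap
        exact le_bot_iff.1 (hmap ▸ hle)
      intro y hy
      have hb : (⟨y, hy⟩ : X) ∈ A ⊔ L := hL.sup_eq_top ▸ Subgroup.mem_top _
      rw [hLbot, sup_bot_eq] at hb
      exact hb
  refine h.center_trivial fun g => ?_
  have hn := hXN _ (hXmem g)
  refine h.iso g ?_
  have h1 : Commute x (g * x * g⁻¹ * x⁻¹) := (hcon _ hn).symm
  simpa using h1.mul_right (Commute.refl x)

theorem exists_minimal_normal [Finite G] [Fact p.Prime] (h : ZStarMinimal p x) :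
    ∃ N : Subgroup G, N.Normal ∧ N ≠ ⊥ ∧
      ∀ K : Subgroup G, K.Normal → K ≠ ⊥ → K ≤ N → K = N := by
  have hG : (⊤ : Subgroup G) ≠ ⊥ := fun he => h.center_trivial fun g => by
    have hg : g = 1 := Subgroup.mem_bot.1 (he ▸ Subgroup.mem_top g)
    rw [hg]; group
  obtain ⟨N, ⟨hN, hN1⟩, hmin⟩ := Set.exists_min_image {N : Subgroup G | N.Normal ∧ N ≠ ⊥}
    (fun N => Nat.card N) (Set.toFinite _) ⟨⊤, inferInstance, hG⟩
  exact ⟨N, hN, hN1, fun K hK hK1 hKN => Subgroup.eq_of_le_of_card_ge hKN (hmin K ⟨hK, hK1⟩)⟩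

theorem minimal_normal_nonabelian [Finite G] [hp : Fact p.Prime] (h : ZStarMinimal p x)
    {N : Subgroup G} [hN : N.Normal] (hN1 : N ≠ ⊥)
    (hmin : ∀ K : Subgroup G, K.Normal → K ≠ ⊥ → K ≤ N → K = N) :
    ¬ IsMulCommutative N ∧ N ⊓ Subgroup.centralizer (N : Set G) = ⊥ := by
  have hnab : ¬ IsMulCommutative N := by
    intro hab
    haveI := hab
    -- an abelian minimal normal subgroup is a `p`-group
    obtain ⟨S⟩ : Nonempty (Sylow p N) := inferInstance
    have hSn : (S : Subgroup N).Normal := inferInstance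
    haveI := S.characteristic_of_normal hSn
    by_cases hS : (S : Subgroup N) = ⊥
    · refine hN1 (h.eq_bot_of_coprime hN ?_)
      rw [Nat.coprime_comm, hp.out.coprime_iff_not_dvd]
      intro hd
      exact (S.ne_bot_of_dvd_card hd) hS
    have hSN : (S : Subgroup N).map N.subtype = N := hmin _ inferInstance
      (by rwa [Ne, Subgroup.map_eq_bot_iff_of_injective _ N.subtype_injective])
      (Subgroup.map_subtype_le _)
    have hNp : IsPGroup p N := hSN ▸ S.2.map N.subtype
    obtain ⟨n, hn, hne⟩ := h.not_commute_normal hN1 (Or.inr hNp)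
    have hR : IsPGroup p (N ⊔ Subgroup.zpowers x : Subgroup G) :=
      hNp.to_sup_of_normal_left (isPGroup_zpowers h.pow_order)
    exact hne (h.sylow_commute hR (Subgroup.mem_sup_right (Subgroup.mem_zpowers x))
      (Subgroup.mem_sup_left hn))
  refine ⟨hnab, ?_⟩
  by_contra hne
  have := hmin _ (inferInstance : (N ⊓ Subgroup.centralizer (N : Set G)).Normal) hne inf_le_left
  exact hnab ⟨⟨fun a b => Subtype.ext
    ((Subgroup.mem_centralizer_iff.1 ((this.ge a.2).2) b b.2).symm)⟩⟩

theorem minimal_normal_sup_zpowers [Finite G] [hp : Fact p.Prime] (h : ZStarMinimal p x)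
    {N : Subgroup G} [hN : N.Normal] (hN1 : N ≠ ⊥)
    (hmin : ∀ K : Subgroup G, K.Normal → K ≠ ⊥ → K ≤ N → K = N) :
    N ⊔ Subgroup.zpowers x = ⊤ := by
  by_contra htop
  set H := N ⊔ Subgroup.zpowers x with hH
  have hxH : x ∈ H := Subgroup.mem_sup_right (Subgroup.mem_zpowers x)
  have hz := h.sub H hxH htop
  haveI : (Cfsg.pPrimeCore p H).Normal := Thompson.sSup_normal fun _ h => h.1
  set N' := N.subgroupOf H with hN'
  haveI : N'.Normal := inferInstance
  have hbot : N' ⊓ Cfsg.pPrimeCore p H = ⊥ := by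
    set Y := N' ⊓ Cfsg.pPrimeCore p H with hY
    have hY' : (Y.map H.subtype) ≤ N := by
      rintro _ ⟨y, hy, rfl⟩
      exact hy.1
    have hYn : ((Y.map H.subtype).subgroupOf N).Normal := by
      refine ⟨fun a ha n => ?_⟩
      obtain ⟨y, hy, hya⟩ := ha
      exact ⟨⟨n, Subgroup.mem_sup_left n.2⟩ * y * ⟨n, Subgroup.mem_sup_left n.2⟩⁻¹,
        (inferInstance : Y.Normal).conj_mem y hy _, by simp [show (y : G) = a from hya]⟩
    have hYc : (Nat.card ((Y.map H.subtype).subgroupOf N)).Coprime p := by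
      rw [Nat.card_congr (Subgroup.subgroupOfEquivOfLe hY').toEquiv,
        Subgroup.card_map_of_injective H.subtype_injective]
      exact Thompson.card_pPrimeCore_coprime.coprime_dvd_left (Subgroup.card_dvd_of_le inf_le_right)
    have h1 := Thompson.le_pPrimeCore hYn hYc
    have h2 : (Cfsg.pPrimeCore p N).map N.subtype = ⊥ := by
      refine le_bot_iff.1 ((Thompson.map_pPrimeCore_normal_le N).trans ?_)
      rw [h.pPrimeCore_eq_bot]
    rw [Subgroup.map_eq_bot_iff_of_injective _ N.subtype_injective] at h2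
    rw [h2, le_bot_iff, Subgroup.subgroupOf_eq_bot, disjoint_iff, inf_eq_left.2 hY',
      Subgroup.map_eq_bot_iff_of_injective _ H.subtype_injective] at h1
    exact h1
  obtain ⟨n, hn, hne⟩ := h.not_commute_normal hN1 (Or.inl (h.minimal_normal_nonabelian hN1 hmin).2)
  apply hne
  set m : H := ⟨n, Subgroup.mem_sup_left hn⟩
  have h1 : m * ⟨x, hxH⟩ * m⁻¹ * ⟨x, hxH⟩⁻¹ ∈ N' ⊓ Cfsg.pPrimeCore p H := by
    refine Subgroup.mem_inf.2 ⟨?_, hz m⟩
    show n * x * n⁻¹ * x⁻¹ ∈ N
    have : n * x * n⁻¹ * x⁻¹ = n * (x * n⁻¹ * x⁻¹) := by group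
    rw [this]
    exact N.mul_mem hn (hN.conj_mem _ (N.inv_mem hn) x)
  rw [hbot, Subgroup.mem_bot] at h1
  have h2 : n * x * n⁻¹ * x⁻¹ = 1 := congrArg Subtype.val h1
  exact mul_inv_eq_iff_eq_mul.1 (mul_inv_eq_one.1 h2)

/-- The derived subgroup of a minimal counterexample is a nonabelian simple group. -/
theorem simple_commutator [Finite G] [hp : Fact p.Prime] (h : ZStarMinimal p x) :
    IsSimpleGroup (commutator G) ∧ ¬ IsMulCommutative (commutator G) ∧
      commutator G ⊔ Subgroup.zpowers x = ⊤ := by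
  obtain ⟨N, hN, hN1, hmin⟩ := h.exists_minimal_normal
  haveI := hN
  obtain ⟨hnab, hZ⟩ := h.minimal_normal_nonabelian hN1 hmin
  have htop := h.minimal_normal_sup_zpowers hN1 hmin
  have hle : commutator G ≤ N := by
    rw [commutator_def, Subgroup.commutator_le]
    intro a _ b _
    rw [← QuotientGroup.eq_one_iff (N := N)]
    let f := QuotientGroup.mk' N
    have hgen : ∀ c : G, ∃ i : ℤ, f c = f x ^ i := by
      intro c
      have hc : c ∈ N ⊔ Subgroup.zpowers x := htop ▸ Subgroup.mem_top c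
      obtain ⟨n, hn, y, hy, rfl⟩ := Subgroup.mem_sup_of_normal_left.1 hc
      obtain ⟨i, rfl⟩ := Subgroup.mem_zpowers_iff.1 hy
      exact ⟨i, by rw [map_mul, map_zpow, show f n = 1 from (QuotientGroup.eq_one_iff n).2 hn, one_mul]⟩
    obtain ⟨i, hi⟩ := hgen a
    obtain ⟨j, hj⟩ := hgen b
    show f ⁅a, b⁆ = 1
    rw [map_commutatorElement, hi, hj, commutatorElement_eq_one_iff_commute]
    exact ((Commute.refl (f x)).zpow_left i).zpow_right j
  have hne : commutator G ≠ ⊥ := by
    intro hb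
    apply hnab
    refine ⟨⟨fun a b => Subtype.ext ?_⟩⟩
    have : ⁅(a : G), (b : G)⁆ ∈ commutator G :=
      Subgroup.commutator_mem_commutator (Subgroup.mem_top _) (Subgroup.mem_top _)
    rw [hb, Subgroup.mem_bot] at this
    exact commutatorElement_eq_one_iff_mul_comm.1 this
  have heq : commutator G = N := hmin _ inferInstance hne hle
  rw [heq]
  refine ⟨?_, hnab, htop⟩
  haveI : Nontrivial N := (Subgroup.nontrivial_iff_ne_bot N).2 hN1
  refine ⟨fun K hK => ?_⟩
  by_cases hK1 : K = ⊥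
  · exact Or.inl hK1
  refine Or.inr ?_
  obtain ⟨M, ⟨hMn, hM1, hMK⟩, hMmin⟩ := Set.exists_min_image
    {M : Subgroup N | M.Normal ∧ M ≠ ⊥ ∧ M ≤ K} (fun M => Nat.card M) (Set.toFinite _)
    ⟨K, hK, hK1, le_rfl⟩
  set M' := M.map N.subtype with hM'
  have hMN : N ≤ Subgroup.normalizer (M' : Set G) := by
    intro a ha
    rw [mem_normalizer_iff_map]
    refine Subgroup.eq_of_le_of_card_ge ?_ (card_map_conj M' a).ge
    rintro _ ⟨_, ⟨k, hk, rfl⟩, rfl⟩
    exact ⟨⟨a, ha⟩ * k * ⟨a, ha⟩⁻¹, hMn.conj_mem k hk ⟨a, ha⟩, by simp⟩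
  have hxM : x ∈ Subgroup.normalizer (M' : Set G) := by
    by_contra hcon
    -- conjugation by `x` moves `M`
    let σ : N ≃* N := MulAut.conjNormal x
    have hne' : M.map σ.toMonoidHom ≠ M := by
      intro he
      apply hcon
      rw [mem_normalizer_iff_map]
      refine Subgroup.eq_of_le_of_card_ge ?_ (card_map_conj M' x).ge
      rintro _ ⟨_, ⟨k, hk, rfl⟩, rfl⟩
      exact ⟨σ k, he ▸ Subgroup.mem_map_of_mem _ hk, by simp [σ]⟩
    haveI : (M.map σ.toMonoidHom).Normal := hMn.map _ σ.surjective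
    haveI := hMn
    have hint : M ⊓ M.map σ.toMonoidHom = ⊥ := by
      by_contra hI
      have := Subgroup.eq_of_le_of_card_ge inf_le_left
        (hMmin _ ⟨inferInstance, hI, inf_le_left.trans hMK⟩)
      refine hne' (Subgroup.eq_of_le_of_card_ge (inf_eq_left.1 this)
        (Subgroup.card_map_of_injective σ.injective).le).symm
    obtain ⟨P, hxP⟩ := (isPGroup_zpowers (p := p) h.pow_order).exists_le_sylow
    obtain ⟨T, hT⟩ := Transfer.exists_sylow_subgroupOf_normal P N
    obtain ⟨U, hU⟩ := Transfer.exists_sylow_subgroupOf_normal T M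
    by_cases hpM : p ∣ Nat.card M
    · obtain ⟨⟨u, huM⟩, huU, hu1⟩ := (Subgroup.bot_or_exists_ne_one (U : Subgroup M)).resolve_left
        (U.ne_bot_of_dvd_card hpM)
      rw [hU, Subgroup.mem_subgroupOf] at huU
      rw [hT, Subgroup.mem_subgroupOf] at huU
      have hfix : σ u = u := Subtype.ext (by
        simp only [σ, MulAut.conjNormal_apply]
        rw [← h.sylow_commute P.2 (hxP (Subgroup.mem_zpowers x)) huU, mul_inv_cancel_right])
      have : u ∈ M ⊓ M.map σ.toMonoidHom := ⟨huM, ⟨u, huM, hfix⟩⟩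
      rw [hint, Subgroup.mem_bot] at this
      exact hu1 (Subtype.ext this)
    · have h1 : M ≤ Cfsg.pPrimeCore p N := Thompson.le_pPrimeCore hMn
        ((hp.out.coprime_iff_not_dvd.2 hpM).symm)
      have h2 : (Cfsg.pPrimeCore p N).map N.subtype = ⊥ := by
        refine le_bot_iff.1 ((Thompson.map_pPrimeCore_normal_le N).trans ?_)
        rw [h.pPrimeCore_eq_bot]
      rw [Subgroup.map_eq_bot_iff_of_injective _ N.subtype_injective] at h2
      exact hM1 (le_bot_iff.1 (h2 ▸ h1))
  have hMG : M'.Normal := by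
    rw [← Subgroup.normalizer_eq_top_iff, eq_top_iff, ← htop]
    exact sup_le hMN (Subgroup.zpowers_le.2 hxM)
  have := hmin M' hMG (by rwa [Ne, hM', Subgroup.map_eq_bot_iff_of_injective _ N.subtype_injective])
    (Subgroup.map_subtype_le M)
  rw [eq_top_iff]
  intro k _
  obtain ⟨m, hm, hmk⟩ := this.ge k.2
  exact (Subtype.ext hmk : m = k) ▸ hMK hm

/-- Invariant Sylow subgroups in a minimal counterexample. -/
theorem maximal_invariant [Finite G] [hp : Fact p.Prime] (h : ZStarMinimal p x) (q : ℕ)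
    [hq : Fact q.Prime] (Q : Subgroup G) (hQ : IsPGroup q Q)
    (hxQ : x ∈ Subgroup.normalizer (Q : Set G))
    (hmax : ∀ R : Subgroup G, IsPGroup q R → x ∈ Subgroup.normalizer (R : Set G) → Q ≤ R → R = Q) :
    Q = ⊥ ∨ ∃ S : Sylow q G, (S : Subgroup G) = Q := by
  by_cases hQ1 : Q = ⊥
  · exact Or.inl hQ1
  refine Or.inr ?_
  by_cases hqp : q = p
  · subst hqp
    have hR : IsPGroup q (Subgroup.zpowers x ⊔ Q : Subgroup G) :=
      (isPGroup_zpowers h.pow_order).to_sup_of_normal_right' hQ (Subgroup.zpowers_le.2 hxQ)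
    obtain ⟨S, hS⟩ := hR.exists_le_sylow
    exact ⟨S, hmax S S.2 (Subgroup.le_normalizer (hS (Subgroup.mem_sup_left (Subgroup.mem_zpowers x))))
      (le_sup_right.trans hS)⟩
  set H := Subgroup.normalizer (Q : Set G) with hH
  have hHtop : H ≠ ⊤ := fun he => hQ1 (h.eq_bot_of_coprime (Subgroup.normalizer_eq_top_iff.1 he) (by
    obtain ⟨b, hb⟩ := IsPGroup.iff_card.1 hQ
    rw [hb]
    exact Nat.Coprime.pow_left b ((Nat.coprime_primes hq.out hp.out).2 hqp)))
  obtain ⟨S, hS⟩ := exists_invariant_sylow_of_inZStar (p := p) (x := (⟨x, hxQ⟩ : H))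
    ⟨1, by rw [Subgroup.orderOf_mk, pow_one]; exact h.order⟩ (isolated_subgroup h.iso H hxQ)
    (h.sub H hxQ hHtop) q
  haveI : (Q.subgroupOf H).Normal := Subgroup.normal_in_normalizer
  have hQS : Q ≤ (S : Subgroup H).map H.subtype := by
    intro a ha
    refine ⟨⟨a, Subgroup.le_normalizer ha⟩, ?_, rfl⟩
    exact Thompson.pCore_le_sylow S (Thompson.le_pCore (inferInstance : (Q.subgroupOf H).Normal)
      (hQ.comap_subtype (K := H)) ha)
  have hSQ := hmax _ (S.2.map H.subtype)
    (Subgroup.le_normalizer_map H.subtype ⟨_, hS, rfl⟩) hQS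
  obtain ⟨T, hT⟩ := hQ.exists_le_sylow
  refine ⟨T, ?_⟩
  by_contra hne
  have hlt : Q.subgroupOf (T : Subgroup G) < ⊤ := by
    rw [lt_top_iff_ne_top, Ne, Subgroup.subgroupOf_eq_top]
    exact fun h => hne (le_antisymm h hT)
  haveI : Group.IsNilpotent (T : Subgroup G) := T.2.isNilpotent
  obtain ⟨u, hu, huQ⟩ := SetLike.exists_of_lt (Group.normalizerCondition_of_isNilpotent _ hlt)
  have huH : (u : G) ∈ H := by
    rw [← Subgroup.subgroupOf_normalizer_eq hT] at hu
    exact hu
  set R := ((T : Subgroup G) ⊓ H).subgroupOf H with hR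
  have hRS : (R : Subgroup H) = (S : Subgroup H) := S.is_maximal'
    ((T.2.to_inf_left (K := H)).comap_subtype (K := H)) (by
      intro s hs
      refine Subgroup.mem_inf.2 ⟨hT (hSQ.le (Subgroup.mem_map_of_mem _ hs)), s.2⟩)
  have : (⟨u, huH⟩ : H) ∈ (S : Subgroup H) := hRS ▸ Subgroup.mem_inf.2 ⟨u.2, huH⟩
  exact huQ (hSQ.le (Subgroup.mem_map_of_mem _ this))

theorem invariant_sylow_conj [Finite G] [hp : Fact p.Prime] (h : ZStarMinimal p x) (q : ℕ)
    [hq : Fact q.Prime] (S₁ S₂ : Sylow q G)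
    (h1 : x ∈ Subgroup.normalizer ((S₁ : Subgroup G) : Set G))
    (h2 : x ∈ Subgroup.normalizer ((S₂ : Subgroup G) : Set G)) :
    ∃ c ∈ Subgroup.centralizer ({x} : Set G),
      (S₁ : Subgroup G).map (MulAut.conj c).toMonoidHom = (S₂ : Subgroup G) := by
  obtain ⟨g, hg⟩ := MulAction.exists_smul_eq G S₁ S₂
  have hg' : (S₁ : Subgroup G).map (MulAut.conj g).toMonoidHom = (S₂ : Subgroup G) := by
    rw [← hg]; rfl
  obtain ⟨c, hc, hc'⟩ := isolated_conj_invariant h.pow_order h.iso (Subgroup.mem_top x) h1 h2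
    (Subgroup.mem_top g) hg'
  exact ⟨c, (Subgroup.mem_inf.1 hc).2, hc'⟩

end ZStarMinimal

end Cfsg.Agent.LAE65
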